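import Mathlib
import Groth.Agent.Lib.Lead.SC.ExtRes
import Groth.Agent.Lib.Lead.SC.MapResNat

/-! # `Ext` groups and adjunctions: for `F ⊣ G` with `G` exact and preserving injectives,
`Ext^n(F A, B) ≃+ Ext^n(A, G B)`. -/

set_option autoImplicit false
universe w w' v v' u u'
open CategoryTheory Limits Abelian

namespace Groth.Agent.LD.EZ
open Groth.Agent.LD.SC

variable {C : Type u} [Category.{v} C] [Abelian C] [HasExt.{w} C] [HasInjectiveResolutions C]
  {C' : Type u'} [Category.{v'} C'] [Abelian C'] [HasExt.{w'} C'] [HasInjectiveResolutions C']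
  {F : C' ⥤ C} {G : C ⥤ C'} (adj : F ⊣ G) [G.Additive] [PreservesFiniteLimits G]
  [G.PreservesEpimorphisms] [G.PreservesInjectiveObjects]

include adj in
theorem nonempty_ext_equiv_of_adj (A : C') (B : C) (n : ℕ) :
    Nonempty (Ext.{w} (F.obj A) B n ≃+ Ext.{w'} A (G.obj B) n) := by
  haveI : F.Additive := adj.left_adjoint_additive
  cases n with
  | zero =>
    exact ⟨Ext.addEquiv₀.trans ((adj.homAddEquiv A B).trans Ext.addEquiv₀.symm)⟩
  | succ n =>
    let R := injectiveResolution B
    refine nonempty_ext_equiv_of_homEquiv R (F.obj A) (mapInjRes' G R) A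
      (fun k => adj.homAddEquiv A (R.cocomplex.X k)) (fun k g => ?_) n
    change adj.homEquiv _ _ (g ≫ R.cocomplex.d k (k + 1)) =
      adj.homEquiv _ _ g ≫ G.map (R.cocomplex.d k (k + 1))
    exact adj.homEquiv_naturality_right _ _

end Groth.Agent.LD.EZ
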