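import Mathlib
import Groth.Agent.Lib.Lead.AbPull.ExtZeroOver

/-! # Extension by zero from a slice, for presheaves of modules. -/

set_option autoImplicit false
universe u
open CategoryTheory Limits Opposite

namespace Groth.Agent.LD.EZ
open Groth.Agent.LD.AbPull

variable {C : Type u} [SmallCategory C] (X : C) (R₀ : Cᵒᵖ ⥤ RingCat.{u})

/-- the restricted presheaf of rings on the slice. -/
abbrev RX : (Over X)ᵒᵖ ⥤ RingCat.{u} := (Over.forget X).op ⋙ R₀

variable {X R₀}

noncomputable instance summandModule (G : PresheafOfModules.{u} (RX X R₀)) {V : C} (f : V ⟶ X) :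
    Module (R₀.obj (op V)) (G.presheaf.obj (op (Over.mk f))) :=
  inferInstanceAs (Module ((RX X R₀).obj (op (Over.mk f))) (G.obj (op (Over.mk f))))

open scoped Classical in
noncomputable instance ezModule (G : PresheafOfModules.{u} (RX X R₀)) (V : C) :
    Module (R₀.obj (op V)) (EZ X G.presheaf V) :=
  inferInstanceAs (Module (R₀.obj (op V))
    (DirectSum (V ⟶ X) (fun f => G.presheaf.obj (op (Over.mk f)))))

open scoped Classical in
lemma smul_ezOf (G : PresheafOfModules.{u} (RX X R₀)) {V : C} (f : V ⟶ X) (r : R₀.obj (op V))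
    (x : G.presheaf.obj (op (Over.mk f))) :
    r • ezOf X G.presheaf f x = ezOf X G.presheaf f (r • x) :=
  (DirectSum.of_smul _ _ _ _).symm

open scoped Classical in
lemma ezMap_smul (G : PresheafOfModules.{u} (RX X R₀)) {V W : C} (g : W ⟶ V)
    (r : R₀.obj (op V)) (m : EZ X G.presheaf V) :
    ezMap X G.presheaf g (r • m) = (R₀.map g.op r) • ezMap X G.presheaf g m := by
  induction m using DirectSum.induction_on with
  | zero => rw [smul_zero, map_zero, smul_zero]
  | of f x =>
    rw [smul_ezOf, ezMap_of, ezMap_of, smul_ezOf]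
    congr 1
    exact PresheafOfModules.map_smul G
      (Over.homMk g : Over.mk (g ≫ f) ⟶ Over.mk f).op r x
  | add x y hx hy => rw [smul_add, map_add, map_add, smul_add, hx, hy]


open scoped Classical in
noncomputable instance ezPreModule (G : PresheafOfModules.{u} (RX X R₀)) (V : Cᵒᵖ) :
    Module (R₀.obj V) ((ezPre X G.presheaf).obj V) :=
  inferInstanceAs (Module (R₀.obj (op V.unop)) (EZ X G.presheaf V.unop))

/-- extension by zero of a presheaf of modules on the slice. -/
noncomputable def ezMod (G : PresheafOfModules.{u} (RX X R₀)) : PresheafOfModules.{u} R₀ :=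
  PresheafOfModules.ofPresheaf (ezPre X G.presheaf)
    (fun V W g r m => ezMap_smul G g.unop r m)

@[simp]
lemma ezMod_presheaf (G : PresheafOfModules.{u} (RX X R₀)) :
    (ezMod G).presheaf = ezPre X G.presheaf := rfl

open scoped Classical in
/-- the componentwise map. -/
noncomputable def ezMapOfHom {G G' : PresheafOfModules.{u} (RX X R₀)} (φ : G ⟶ G') (V : C) :
    EZ X G.presheaf V →+ EZ X G'.presheaf V :=
  DirectSum.map (α := fun f : V ⟶ X => G.presheaf.obj (op (Over.mk f)))
    (β := fun f : V ⟶ X => G'.presheaf.obj (op (Over.mk f)))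
    (fun f : V ⟶ X => (((PresheafOfModules.toPresheaf _).map φ).app (op (Over.mk f))).hom)

open scoped Classical in
lemma ezMapOfHom_of {G G' : PresheafOfModules.{u} (RX X R₀)} (φ : G ⟶ G') {V : C} (f : V ⟶ X)
    (x : G.presheaf.obj (op (Over.mk f))) :
    ezMapOfHom φ V (ezOf X G.presheaf f x) =
      ezOf X G'.presheaf f ((φ.app (op (Over.mk f))).hom x) :=
  DirectSum.map_of _ _ _

open scoped Classical in
lemma ezMapOfHom_smul {G G' : PresheafOfModules.{u} (RX X R₀)} (φ : G ⟶ G') (V : C)
    (r : R₀.obj (op V)) (m : EZ X G.presheaf V) :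
    ezMapOfHom φ V (r • m) = r • ezMapOfHom φ V m := by
  induction m using DirectSum.induction_on with
  | zero => rw [smul_zero, map_zero, smul_zero]
  | of f x =>
    rw [smul_ezOf, ezMapOfHom_of, ezMapOfHom_of, smul_ezOf]
    congr 1
    exact (φ.app (op (Over.mk f))).hom.map_smul r x
  | add x y hx hy => rw [smul_add, map_add, map_add, smul_add, hx, hy]

open scoped Classical in
/-- functoriality. -/
noncomputable def ezModMap {G G' : PresheafOfModules.{u} (RX X R₀)} (φ : G ⟶ G') :
    ezMod G ⟶ ezMod G' :=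
  PresheafOfModules.homMk (M₁ := ezMod G) (M₂ := ezMod G')
    (ezPreMap X ((PresheafOfModules.toPresheaf _).map φ))
    (fun V r m => ezMapOfHom_smul φ V.unop r m)


lemma toPresheaf_map_ezModMap {G G' : PresheafOfModules.{u} (RX X R₀)} (φ : G ⟶ G') :
    (PresheafOfModules.toPresheaf R₀).map (ezModMap φ) =
      (ezF X).map ((PresheafOfModules.toPresheaf _).map φ) := rfl

variable (X R₀) in
/-- `j_!` on presheaves of modules. -/
noncomputable def ezModF : PresheafOfModules.{u} (RX X R₀) ⥤ PresheafOfModules.{u} R₀ where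
  obj G := ezMod G
  map φ := ezModMap φ
  map_id G := by
    apply (PresheafOfModules.toPresheaf R₀).map_injective
    rw [toPresheaf_map_ezModMap, CategoryTheory.Functor.map_id, CategoryTheory.Functor.map_id,
      CategoryTheory.Functor.map_id]
    rfl
  map_comp φ ψ := by
    apply (PresheafOfModules.toPresheaf R₀).map_injective
    rw [toPresheaf_map_ezModMap, CategoryTheory.Functor.map_comp, CategoryTheory.Functor.map_comp,
      CategoryTheory.Functor.map_comp, toPresheaf_map_ezModMap, toPresheaf_map_ezModMap]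
    rfl

variable (X R₀) in
/-- restriction of presheaves of modules to the slice. -/
noncomputable abbrev jresMod : PresheafOfModules.{u} R₀ ⥤ PresheafOfModules.{u} (RX X R₀) :=
  PresheafOfModules.pushforward (F := Over.forget X) (𝟙 (RX X R₀))

lemma toPresheaf_jresMod (H : PresheafOfModules.{u} R₀) :
    ((jresMod X R₀).obj H).presheaf = (jres X).obj H.presheaf := rfl

/-- underlying map of abelian presheaves of a map to the restriction. -/
noncomputable abbrev abOf {G : PresheafOfModules.{u} (RX X R₀)} {H : PresheafOfModules.{u} R₀}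
    (β : G ⟶ (jresMod X R₀).obj H) : G.presheaf ⟶ (jres X).obj H.presheaf :=
  (PresheafOfModules.toPresheaf _).map β

open scoped Classical in
lemma ezHomTo_smul {G : PresheafOfModules.{u} (RX X R₀)} {H : PresheafOfModules.{u} R₀}
    (α : ezMod G ⟶ H) {V : C} (f : V ⟶ X) (r : R₀.obj (op V))
    (m : G.presheaf.obj (op (Over.mk f))) :
    (α.app (op V)).hom (ezOf X G.presheaf f (r • m) : EZ X G.presheaf V) =
      r • (α.app (op V)).hom (ezOf X G.presheaf f m : EZ X G.presheaf V) := by
  rw [← smul_ezOf]
  exact (α.app (op V)).hom.map_smul r _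

open scoped Classical in
lemma ezDesc_smul {G : PresheafOfModules.{u} (RX X R₀)} {H : PresheafOfModules.{u} R₀}
    (β : G ⟶ (jresMod X R₀).obj H) (V : C) (r : R₀.obj (op V)) (m : EZ X G.presheaf V) :
    ezDesc X (abOf β) V (r • m) = r • ezDesc X (abOf β) V m := by
  induction m using DirectSum.induction_on with
  | zero => rw [smul_zero, map_zero, smul_zero]
  | of f x =>
    rw [smul_ezOf, ezDesc_of, ezDesc_of]
    exact (β.app (op (Over.mk f))).hom.map_smul r x
  | add x y hx hy => rw [smul_add, map_add, map_add, smul_add, hx, hy]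

open scoped Classical in
/-- the hom equivalence for presheaves of modules. -/
noncomputable def ezModHomEquiv (G : PresheafOfModules.{u} (RX X R₀))
    (H : PresheafOfModules.{u} R₀) :
    ((ezModF X R₀).obj G ⟶ H) ≃ (G ⟶ (jresMod X R₀).obj H) where
  toFun α := PresheafOfModules.homMk (M₂ := (jresMod X R₀).obj H)
    (ezHomTo X ((PresheafOfModules.toPresheaf R₀).map α))
    (fun W r m => ezHomTo_smul α W.unop.hom r m)
  invFun β := PresheafOfModules.homMk (M₁ := ezMod G)
    (ezHomInv X (abOf β))
    (fun V r m => ezDesc_smul β V.unop r m)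
  left_inv α := by
    apply (PresheafOfModules.toPresheaf R₀).map_injective
    exact (ezHomEquiv X G.presheaf H.presheaf).left_inv ((PresheafOfModules.toPresheaf R₀).map α)
  right_inv β := by
    apply (PresheafOfModules.toPresheaf _).map_injective
    exact (ezHomEquiv X G.presheaf H.presheaf).right_inv (abOf β)


lemma ezAdj_homEquiv (G : (Over X)ᵒᵖ ⥤ AddCommGrpCat.{u}) (H : Cᵒᵖ ⥤ AddCommGrpCat.{u}) :
    (ezAdj X).homEquiv G H = ezHomEquiv X G H := by
  unfold ezAdj
  rw [Adjunction.mkOfHomEquiv_homEquiv]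

lemma ezHomInv_comp {G G' : (Over X)ᵒᵖ ⥤ AddCommGrpCat.{u}} {H : Cᵒᵖ ⥤ AddCommGrpCat.{u}}
    (φ : G ⟶ G') (β : G' ⟶ (jres X).obj H) :
    ezHomInv X (φ ≫ β) = (ezF X).map φ ≫ ezHomInv X β := by
  have := (ezAdj X).homEquiv_naturality_left_symm φ β
  rw [ezAdj_homEquiv, ezAdj_homEquiv] at this
  exact this

lemma ezHomTo_comp {G : (Over X)ᵒᵖ ⥤ AddCommGrpCat.{u}} {H H' : Cᵒᵖ ⥤ AddCommGrpCat.{u}}
    (α : (ezF X).obj G ⟶ H) (ψ : H ⟶ H') :
    ezHomTo X (α ≫ ψ) = ezHomTo X α ≫ (jres X).map ψ := by
  have := (ezAdj X).homEquiv_naturality_right α ψ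
  rw [ezAdj_homEquiv, ezAdj_homEquiv] at this
  exact this

variable (X R₀) in
/-- `j_! ⊣ j^*` for presheaves of modules. -/
noncomputable def ezModAdj : ezModF X R₀ ⊣ jresMod X R₀ :=
  Adjunction.mkOfHomEquiv
    { homEquiv := ezModHomEquiv
      homEquiv_naturality_left_symm := by
        intro G G' H φ β
        apply (PresheafOfModules.toPresheaf R₀).map_injective
        exact ezHomInv_comp ((PresheafOfModules.toPresheaf _).map φ) (abOf β)
      homEquiv_naturality_right := by
        intro G H H' α ψ
        apply (PresheafOfModules.toPresheaf _).map_injective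
        exact ezHomTo_comp ((PresheafOfModules.toPresheaf R₀).map α)
          ((PresheafOfModules.toPresheaf R₀).map ψ) }

end Groth.Agent.LD.EZ
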