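import Mathlib
import Groth.Agent.Lib.Lead.EZ.Pre
import Groth.Agent.Lib.Lead.MS.FlatSES
import Groth.Prelude.Def_ModSite

/-! # Extension by zero from a slice, for sheaves of modules. -/

set_option autoImplicit false
universe u
open CategoryTheory Limits Opposite

namespace Groth.Agent.LD.EZ
open Groth.Agent.LD.AbPull

variable {C : Type u} [SmallCategory C] {J : GrothendieckTopology C} (R : Sheaf J RingCat.{u})
  (X : C)

/-- extension by zero on sheaves of modules. -/
noncomputable def ezModSh : SheafOfModules.{u} (R.over X) ⥤ SheafOfModules.{u} R :=
  SheafOfModules.forget (R.over X) ⋙ ezModF X R.obj ⋙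
    PresheafOfModules.sheafification (𝟙 R.obj)

/-- `j_! ⊣ j^*` on sheaves of modules. -/
noncomputable def ezModShAdj : ezModSh R X ⊣ SheafOfModules.overFunctor R X :=
  Adjunction.restrictFullyFaithful
    (iC := SheafOfModules.forget (R.over X)) (iD := 𝟭 (SheafOfModules.{u} R))
    ((ezModAdj X R.obj).comp (PresheafOfModules.sheafificationAdjunction (𝟙 R.obj)))
    (SheafOfModules.fullyFaithfulForget _) (Functor.FullyFaithful.id _)
    (Functor.rightUnitor _).symm
    (NatIso.ofComponents (fun F => Iso.refl _))


instance : (ezModSh R X).PreservesMonomorphisms where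
  preserves {G G'} m hm := by
    apply (SheafOfModules.toSheaf R).mono_of_mono_map
    have h1 : Mono ((SheafOfModules.toSheaf (R.over X)).map m) := inferInstance
    have h2 : Mono ((sheafToPresheaf _ _).map ((SheafOfModules.toSheaf (R.over X)).map m)) :=
      inferInstance
    have h3 : Mono ((ezF X).map
        ((sheafToPresheaf _ _).map ((SheafOfModules.toSheaf (R.over X)).map m))) := inferInstance
    have h4 : Mono ((presheafToSheaf J AddCommGrpCat.{u}).map ((ezF X).map
        ((sheafToPresheaf _ _).map ((SheafOfModules.toSheaf (R.over X)).map m)))) := inferInstance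
    exact h4


section AnyLeftAdjoint

variable {R X}
variable {L : SheafOfModules.{u} (R.over X) ⥤ SheafOfModules.{u} R}
  (adj : L ⊣ SheafOfModules.overFunctor R X)

include adj in
/-- any left adjoint of the restriction preserves monomorphisms. -/
theorem preservesMonomorphisms_of_adj : L.PreservesMonomorphisms :=
  Functor.preservesMonomorphisms.of_iso ((ezModShAdj R X).leftAdjointUniq adj)

include adj in
theorem preservesFiniteColimits_of_adj : PreservesFiniteColimits L := by
  haveI : PreservesColimitsOfSize.{0, 0} L := adj.leftAdjoint_preservesColimits
  exact PreservesColimitsOfSize.preservesFiniteColimits _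

include adj in
/-- any left adjoint of the restriction is exact. -/
theorem preservesFiniteLimits_of_adj : PreservesFiniteLimits L := by
  haveI := preservesMonomorphisms_of_adj adj
  haveI := preservesFiniteColimits_of_adj adj
  exact Groth.Agent.LD.MS.preservesFiniteLimits_of_rightExact_of_mono L

end AnyLeftAdjoint

/-- restriction to the slice preserves injective modules. -/
theorem injective_overFunctor (I : SheafOfModules.{u} R) [Injective I] :
    Injective ((SheafOfModules.overFunctor R X).obj I) :=
  haveI := preservesMonomorphisms_of_adj (ezModShAdj R X)
  (ezModShAdj R X).map_injective I inferInstance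

end Groth.Agent.LD.EZ
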