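import Mathlib
import Groth.Agent.Lib.Lead.EZ.Sheaf

/-! # Extension by zero is faithful. -/

set_option autoImplicit false
universe u
open CategoryTheory Limits Opposite

namespace Groth.Agent.LD.EZ
open Groth.Agent.LD.AbPull

variable {C : Type u} [SmallCategory C] {J : GrothendieckTopology C} (X : C)

open scoped Classical in
/-- a section of a sheaf on the slice whose image in the sheafified extension by zero vanishes
is zero. -/
lemma eq_zero_of_toSheafify_ezOf_eq_zero (G : (Over X)ᵒᵖ ⥤ AddCommGrpCat.{u})
    (hG : Presheaf.IsSheaf (J.over X) G) (W : Over X) (s : G.obj (op W))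
    (h : (CategoryTheory.toSheafify J (ezPre X G)).app (op W.left)
      (ezOf X G W.hom s : EZ X G W.left) = 0) : s = 0 := by
  have hS := Presheaf.equalizerSieve_mem J (CategoryTheory.toSheafify J (ezPre X G))
    (X := op W.left) (ezOf X G W.hom s : EZ X G W.left) (0 : EZ X G W.left)
    (h.trans (map_zero _).symm)
  have hS' := J.overEquiv_symm_mem_over W _ hS
  refine hG.isSeparated W _ hS' s 0 (fun W' a ha => ?_)
  rw [Sieve.overEquiv_symm_iff] at ha
  -- `ha : ezMap (of s) = ezMap 0`
  have h1 : ezMap X G a.left (ezOf X G W.hom s) = ezMap X G a.left 0 := ha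
  rw [ezMap_of, map_zero] at h1
  have h2 : G.map (Over.homMk a.left : Over.mk (a.left ≫ W.hom) ⟶ Over.mk W.hom).op s = 0 :=
    DirectSum.of_injective (β := fun f' : W'.left ⟶ X => G.obj (op (Over.mk f'))) _
      (h1.trans (map_zero _).symm)
  have h3 := of_congr X G (Over.w a)
    (Over.homMk a.left : Over.mk (a.left ≫ W.hom) ⟶ Over.mk W.hom) a rfl s
  rw [h2, map_zero] at h3
  rw [map_zero]
  exact (DirectSum.of_injective (β := fun f' : W'.left ⟶ X => G.obj (op (Over.mk f'))) _
    (h3.symm.trans (map_zero _).symm))


variable (R : Sheaf J RingCat.{u})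

open scoped Classical in
/-- the underlying map of the unit of `j_! ⊣ j^*`. -/
lemma unit_app_apply (G : SheafOfModules.{u} (R.over X)) (W : Over X)
    (s : G.val.presheaf.obj (op W)) :
    ((SheafOfModules.toSheaf (R.over X)).map ((ezModShAdj R X).unit.app G)).hom.app (op W) s =
      (CategoryTheory.toSheafify J (ezPre X G.val.presheaf)).app (op W.left)
        (ezOf X G.val.presheaf W.hom s : EZ X G.val.presheaf W.left) := by
  have h1 := Adjunction.map_restrictFullyFaithful_unit_app
    (iC := SheafOfModules.forget (R.over X)) (iD := 𝟭 (SheafOfModules.{u} R))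
    ((ezModAdj X R.obj).comp (PresheafOfModules.sheafificationAdjunction (𝟙 R.obj)))
    (SheafOfModules.fullyFaithfulForget _) (Functor.FullyFaithful.id _)
    (L := ezModSh R X) (R := SheafOfModules.overFunctor R X)
    (Functor.rightUnitor _).symm
    (NatIso.ofComponents (fun F => Iso.refl _)) G
  have h2 : ((SheafOfModules.toSheaf (R.over X)).map ((ezModShAdj R X).unit.app G)).hom =
      (PresheafOfModules.toPresheaf _).map
        ((SheafOfModules.forget (R.over X)).map ((ezModShAdj R X).unit.app G)) := rfl
  rw [h2]
  unfold ezModShAdj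
  rw [h1, Adjunction.comp_unit_app]
  rfl


instance mono_unit_app (G : SheafOfModules.{u} (R.over X)) :
    Mono ((ezModShAdj R X).unit.app G) := by
  apply (SheafOfModules.toSheaf (R.over X)).mono_of_mono_map
  apply Sheaf.mono_of_injective
  intro W
  rw [injective_iff_map_eq_zero]
  intro s hs
  have := unit_app_apply X R G W.unop s
  rw [this] at hs
  exact eq_zero_of_toSheafify_ezOf_eq_zero X G.val.presheaf G.isSheaf W.unop s hs

instance faithful_ezModSh : (ezModSh R X).Faithful :=
  (ezModShAdj R X).faithful_L_of_mono_unit_app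

/-- any left adjoint of the restriction is faithful. -/
theorem faithful_of_adj {L : SheafOfModules.{u} (R.over X) ⥤ SheafOfModules.{u} R}
    (adj : L ⊣ SheafOfModules.overFunctor R X) : L.Faithful :=
  Functor.Faithful.of_iso ((ezModShAdj R X).leftAdjointUniq adj)

end Groth.Agent.LD.EZ
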