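import Mathlib
import Groth.Agent.Lib.Lead.EZ.Faithful
import Groth.Agent.Lib.Lead.EZ.ExtAdj
import Groth.Agent.Lib.Lead.MS.PushLeftAdj

/-! # Properties of the restriction functor to a slice. -/

set_option autoImplicit false
universe w w' u
open CategoryTheory Limits Abelian

namespace Groth.Agent.LD.EZ

variable {C : Type u} [SmallCategory C] {J : GrothendieckTopology C} (R : Sheaf J RingCat.{u})
  (X : C)

instance overFunctor_additive : (SheafOfModules.overFunctor.{u} R X).Additive where

instance overFunctor_isRightAdjoint : (SheafOfModules.overFunctor.{u} R X).IsRightAdjoint :=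
  (ezModShAdj R X).isRightAdjoint

instance overFunctor_isLeftAdjoint : (SheafOfModules.overFunctor.{u} R X).IsLeftAdjoint :=
  Groth.Agent.LD.MS.isLeftAdjoint_pushforward (J.over X) J (Over.forget X) (𝟙 (R.over X))

instance overFunctor_preservesFiniteLimits :
    PreservesFiniteLimits (SheafOfModules.overFunctor.{u} R X) := by
  haveI : PreservesLimitsOfSize.{0, 0} (SheafOfModules.overFunctor.{u} R X) :=
    (ezModShAdj R X).rightAdjoint_preservesLimits
  exact PreservesLimitsOfSize.preservesFiniteLimits _

instance overFunctor_preservesFiniteColimits :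
    PreservesFiniteColimits (SheafOfModules.overFunctor.{u} R X) := by
  haveI : PreservesColimitsOfSize.{0, 0} (SheafOfModules.overFunctor.{u} R X) :=
    (Adjunction.ofIsLeftAdjoint (SheafOfModules.overFunctor.{u} R X)).leftAdjoint_preservesColimits
  exact PreservesColimitsOfSize.preservesFiniteColimits _

instance overFunctor_preservesEpimorphisms :
    (SheafOfModules.overFunctor.{u} R X).PreservesEpimorphisms :=
  preservesEpimorphisms_of_preservesColimitsOfShape _

instance overFunctor_preservesInjectiveObjects :
    (SheafOfModules.overFunctor.{u} R X).PreservesInjectiveObjects where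
  injective_obj {I} hI := by
    haveI := hI
    exact injective_overFunctor R X I

/-- `Ext^i(j_! A, B) ≃+ Ext^i(A, j^* B)`. -/
theorem nonempty_ext_extZero_equiv [HasExt.{w} (SheafOfModules.{u} R)]
    [HasExt.{w'} (SheafOfModules.{u} (R.over X))]
    {L : SheafOfModules.{u} (R.over X) ⥤ SheafOfModules.{u} R}
    (adj : L ⊣ SheafOfModules.overFunctor.{u} R X)
    (A : SheafOfModules.{u} (R.over X)) (B : SheafOfModules.{u} R) (i : ℕ) :
    Nonempty (Ext.{w} (L.obj A) B i ≃+ Ext.{w'} A ((SheafOfModules.overFunctor.{u} R X).obj B) i) := by
  haveI := Groth.Agent.H1.sheafOfModules_isGrothendieckAbelian J R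
  haveI := Groth.Agent.H1.sheafOfModules_isGrothendieckAbelian (J.over X) (R.over X)
  haveI : HasInjectiveResolutions (SheafOfModules.{u} R) := inferInstance
  haveI : HasInjectiveResolutions (SheafOfModules.{u} (R.over X)) := inferInstance
  exact nonempty_ext_equiv_of_adj adj A B i

end Groth.Agent.LD.EZ
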