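import Mathlib
import Groth.Agent.Lib.Lead.EZ.Restr
import Groth.Agent.Lib.Lead.MS.Assoc

/-! # The projection formula for extension by zero, presheaf level. -/

set_option autoImplicit false
universe u
open CategoryTheory Limits Opposite MonoidalCategory TensorProduct

namespace Groth.Agent.LD.EZ
open Groth.Agent.LD.MS Groth.Agent.LD.AbPull

variable {C : Type u} [SmallCategory C] {J : GrothendieckTopology C}
  (O : Sheaf J CommRingCat.{u}) (X : C)

/-- restriction of presheaves of modules to the slice. -/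
noncomputable abbrev jresP : PMod O ⥤ PMod (O.over X) :=
  jresMod X (O.obj ⋙ forget₂ CommRingCat.{u} RingCat.{u})

/-- extension by zero of presheaves of modules. -/
noncomputable abbrev ezP : PMod (O.over X) ⥤ PMod O :=
  ezModF X (O.obj ⋙ forget₂ CommRingCat.{u} RingCat.{u})

variable {O X}

/-- the summand `P(φ)` as a module over `O(V)`. -/
abbrev summ (P : PMod (O.over X)) {V : C} (φ : V ⟶ X) : ModuleCat.{u} (O.obj.obj (op V)) :=
  P.obj (op (Over.mk φ))

open scoped Classical in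
/-- the sectionwise comparison. -/
noncomputable def thetaEquiv (P : PMod (O.over X)) (N : PMod O) (V : C) :
    (DirectSum (V ⟶ X) (fun φ => summ P φ)) ⊗[O.obj.obj (op V)] (N.obj (op V)) ≃ₗ[O.obj.obj (op V)]
      DirectSum (V ⟶ X) (fun φ => (summ P φ) ⊗[O.obj.obj (op V)] (N.obj (op V))) :=
  TensorProduct.directSumLeft (O.obj.obj (op V)) (O.obj.obj (op V))
    (fun φ : V ⟶ X => summ P φ) (N.obj (op V))


/-- the left hand side `j_!P ⊗ N`. -/
noncomputable abbrev lhs (P : PMod (O.over X)) (N : PMod O) : PMod O :=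
  (ezP O X).obj P ⊗ N

/-- the right hand side `j_!(P ⊗ j^*N)`. -/
noncomputable abbrev rhs (P : PMod (O.over X)) (N : PMod O) : PMod O :=
  (ezP O X).obj (P ⊗ (jresP O X).obj N)

/-- the sectionwise isomorphism. -/
noncomputable def thetaApp (P : PMod (O.over X)) (N : PMod O) (V : Cᵒᵖ) :
    (lhs P N).obj V ≅ (rhs P N).obj V :=
  (thetaEquiv P N V.unop).toModuleIso


open scoped Classical in
lemma thetaEquiv_tmul_of (P : PMod (O.over X)) (N : PMod O) (V : C) (φ : V ⟶ X)
    (p : summ P φ) (n : N.obj (op V)) :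
    thetaEquiv P N V ((DirectSum.of (fun φ : V ⟶ X => summ P φ) φ p) ⊗ₜ n) =
      DirectSum.of (fun φ : V ⟶ X => (summ P φ) ⊗[O.obj.obj (op V)] (N.obj (op V))) φ (p ⊗ₜ n) :=
  TensorProduct.directSumLeft_tmul_lof (O.obj.obj (op V)) (O.obj.obj (op V))
    (M₁ := fun φ : V ⟶ X => summ P φ) (M₂' := N.obj (op V)) φ p n

open scoped Classical in
lemma lhs_map_tmul_of (P : PMod (O.over X)) (N : PMod O) {V W : C} (g : W ⟶ V) (φ : V ⟶ X)
    (p : summ P φ) (n : N.obj (op V)) :
    ((lhs P N).map g.op).hom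
      ((DirectSum.of (fun φ : V ⟶ X => summ P φ) φ p) ⊗ₜ[O.obj.obj (op V)] n) =
      ((DirectSum.of (fun ψ : W ⟶ X => summ P ψ) (g ≫ φ)
        ((P.map (Over.homMk g : Over.mk (g ≫ φ) ⟶ Over.mk φ).op).hom p)) ⊗ₜ[O.obj.obj (op W)]
          ((N.map g.op).hom n) : (DirectSum (W ⟶ X) (fun ψ => summ P ψ)) ⊗[O.obj.obj (op W)]
            (N.obj (op W))) := by
  have h1 : ((lhs P N).map g.op).hom
      ((DirectSum.of (fun φ : V ⟶ X => summ P φ) φ p) ⊗ₜ[O.obj.obj (op V)] n) =
      (((ezP O X).obj P).map g.op).hom (DirectSum.of (fun φ : V ⟶ X => summ P φ) φ p)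
        ⊗ₜ[O.obj.obj (op W)] (N.map g.op).hom n := rfl
  rw [h1]
  congr 1
  exact ezMap_of X P.presheaf g φ p


open scoped Classical in
lemma rhs_map_of_tmul (P : PMod (O.over X)) (N : PMod O) {V W : C} (g : W ⟶ V) (φ : V ⟶ X)
    (p : summ P φ) (n : N.obj (op V)) :
    ((rhs P N).map g.op).hom
      (DirectSum.of (fun φ : V ⟶ X => (summ P φ) ⊗[O.obj.obj (op V)] (N.obj (op V))) φ
        (p ⊗ₜ n)) =
      (DirectSum.of (fun ψ : W ⟶ X => (summ P ψ) ⊗[O.obj.obj (op W)] (N.obj (op W))) (g ≫ φ)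
        (((P.map (Over.homMk g : Over.mk (g ≫ φ) ⟶ Over.mk φ).op).hom p) ⊗ₜ
          ((N.map g.op).hom n))) :=
  ezMap_of X (P ⊗ (jresP O X).obj N : PMod (O.over X)).presheaf g φ (p ⊗ₜ n)


open scoped Classical in
/-- extensionality for additive maps out of `(⨁ M φ) ⊗ N`. -/
lemma addHom_ext_ds_tensor {R : Type*} [CommRing R] {ι : Type*} {M : ι → Type*}
    [∀ i, AddCommGroup (M i)] [∀ i, Module R (M i)] {N : Type*} [AddCommGroup N] [Module R N]
    {G : Type*} [AddCommGroup G] {f g : (DirectSum ι M) ⊗[R] N →+ G}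
    (h : ∀ i (p : M i) (n : N), f ((DirectSum.of M i p) ⊗ₜ n) = g ((DirectSum.of M i p) ⊗ₜ n)) :
    f = g := by
  apply AddMonoidHom.ext
  intro x
  induction x using TensorProduct.induction_on with
  | zero => rw [map_zero, map_zero]
  | tmul m n =>
    induction m using DirectSum.induction_on with
    | zero => rw [TensorProduct.zero_tmul, map_zero, map_zero]
    | of i p => exact h i p n
    | add m₁ m₂ h₁ h₂ => rw [TensorProduct.add_tmul, map_add, map_add, h₁, h₂]
  | add x y hx hy => rw [map_add, map_add, hx, hy]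

open scoped Classical in
lemma theta_naturality_apply (P : PMod (O.over X)) (N : PMod O) {V W : C} (g : W ⟶ V)
    (x : (DirectSum (V ⟶ X) (fun φ => summ P φ)) ⊗[O.obj.obj (op V)] (N.obj (op V))) :
    thetaEquiv P N W (((lhs P N).map g.op).hom x) =
      ((rhs P N).map g.op).hom (thetaEquiv P N V x) := by
  let f₁ : (DirectSum (V ⟶ X) (fun φ => summ P φ)) ⊗[O.obj.obj (op V)] (N.obj (op V)) →+
      DirectSum (W ⟶ X) (fun φ => (summ P φ) ⊗[O.obj.obj (op W)] (N.obj (op W))) :=
    (thetaEquiv P N W).toLinearMap.toAddMonoidHom.comp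
      (AddMonoidHom.mk' (fun x => ((lhs P N).map g.op).hom x) (fun a b => map_add _ a b))
  let f₂ : (DirectSum (V ⟶ X) (fun φ => summ P φ)) ⊗[O.obj.obj (op V)] (N.obj (op V)) →+
      DirectSum (W ⟶ X) (fun φ => (summ P φ) ⊗[O.obj.obj (op W)] (N.obj (op W))) :=
    (AddMonoidHom.mk' (fun x => ((rhs P N).map g.op).hom x) (fun a b => map_add _ a b)).comp
      (thetaEquiv P N V).toLinearMap.toAddMonoidHom
  have : f₁ = f₂ := by
    apply addHom_ext_ds_tensor
    intro φ p n
    change thetaEquiv P N W (((lhs P N).map g.op).hom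
        ((DirectSum.of (fun φ : V ⟶ X => summ P φ) φ p) ⊗ₜ[O.obj.obj (op V)] n)) =
      ((rhs P N).map g.op).hom (thetaEquiv P N V
        ((DirectSum.of (fun φ : V ⟶ X => summ P φ) φ p) ⊗ₜ[O.obj.obj (op V)] n))
    rw [lhs_map_tmul_of, thetaEquiv_tmul_of, thetaEquiv_tmul_of, rhs_map_of_tmul]
  exact DFunLike.congr_fun this x


/-- **the presheaf projection formula** `j_!P ⊗ N ≅ j_!(P ⊗ j^*N)`. -/
noncomputable def theta (P : PMod (O.over X)) (N : PMod O) : lhs P N ≅ rhs P N :=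
  PresheafOfModules.isoMk (thetaApp P N) (by
    intro V W f
    ext x
    exact theta_naturality_apply P N f.unop x)


open scoped Classical in
lemma theta_hom_app_apply (P : PMod (O.over X)) (N : PMod O) (V : C)
    (x : (DirectSum (V ⟶ X) (fun φ => summ P φ)) ⊗[O.obj.obj (op V)] (N.obj (op V))) :
    ((theta P N).hom.app (op V)).hom x = thetaEquiv P N V x := rfl

open scoped Classical in
lemma theta_naturality_right_apply (P : PMod (O.over X)) {N N' : PMod O} (ν : N ⟶ N') (V : C)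
    (x : (DirectSum (V ⟶ X) (fun φ => summ P φ)) ⊗[O.obj.obj (op V)] (N.obj (op V))) :
    thetaEquiv P N' V ((((ezP O X).obj P ◁ ν).app (op V)).hom x) =
      (((ezP O X).map (P ◁ (jresP O X).map ν)).app (op V)).hom (thetaEquiv P N V x) := by
  let f₁ : (DirectSum (V ⟶ X) (fun φ => summ P φ)) ⊗[O.obj.obj (op V)] (N.obj (op V)) →+
      DirectSum (V ⟶ X) (fun φ => (summ P φ) ⊗[O.obj.obj (op V)] (N'.obj (op V))) :=
    (thetaEquiv P N' V).toLinearMap.toAddMonoidHom.comp
      (AddMonoidHom.mk' (fun x => (((ezP O X).obj P ◁ ν).app (op V)).hom x)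
        (fun a b => map_add _ a b))
  let f₂ : (DirectSum (V ⟶ X) (fun φ => summ P φ)) ⊗[O.obj.obj (op V)] (N.obj (op V)) →+
      DirectSum (V ⟶ X) (fun φ => (summ P φ) ⊗[O.obj.obj (op V)] (N'.obj (op V))) :=
    (AddMonoidHom.mk' (fun x => (((ezP O X).map (P ◁ (jresP O X).map ν)).app (op V)).hom x)
      (fun a b => map_add _ a b)).comp (thetaEquiv P N V).toLinearMap.toAddMonoidHom
  have : f₁ = f₂ := by
    apply addHom_ext_ds_tensor
    intro φ p n
    change thetaEquiv P N' V ((DirectSum.of (fun φ : V ⟶ X => summ P φ) φ p) ⊗ₜ[O.obj.obj (op V)]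
        ((ν.app (op V)).hom n)) =
      (((ezP O X).map (P ◁ (jresP O X).map ν)).app (op V)).hom (thetaEquiv P N V
        ((DirectSum.of (fun φ : V ⟶ X => summ P φ) φ p) ⊗ₜ[O.obj.obj (op V)] n))
    rw [thetaEquiv_tmul_of, thetaEquiv_tmul_of]
    exact (ezMapOfHom_of (X := X) (R₀ := O.obj ⋙ forget₂ CommRingCat.{u} RingCat.{u})
      (G := (P ⊗ (jresP O X).obj N : PMod (O.over X)))
      (G' := (P ⊗ (jresP O X).obj N' : PMod (O.over X)))
      (P ◁ (jresP O X).map ν) φ (p ⊗ₜ n)).symm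
  exact DFunLike.congr_fun this x

lemma theta_naturality_right (P : PMod (O.over X)) {N N' : PMod O} (ν : N ⟶ N') :
    ((ezP O X).obj P ◁ ν) ≫ (theta P N').hom =
      (theta P N).hom ≫ (ezP O X).map (P ◁ (jresP O X).map ν) := by
  ext V x
  exact theta_naturality_right_apply P ν V.unop x


open scoped Classical in
lemma theta_naturality_left_apply {P P' : PMod (O.over X)} (π : P ⟶ P') (N : PMod O) (V : C)
    (x : (DirectSum (V ⟶ X) (fun φ => summ P φ)) ⊗[O.obj.obj (op V)] (N.obj (op V))) :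
    thetaEquiv P' N V ((((ezP O X).map π ▷ N).app (op V)).hom x) =
      (((ezP O X).map (π ▷ (jresP O X).obj N)).app (op V)).hom (thetaEquiv P N V x) := by
  let f₁ : (DirectSum (V ⟶ X) (fun φ => summ P φ)) ⊗[O.obj.obj (op V)] (N.obj (op V)) →+
      DirectSum (V ⟶ X) (fun φ => (summ P' φ) ⊗[O.obj.obj (op V)] (N.obj (op V))) :=
    (thetaEquiv P' N V).toLinearMap.toAddMonoidHom.comp
      (AddMonoidHom.mk' (fun x => (((ezP O X).map π ▷ N).app (op V)).hom x)
        (fun a b => map_add _ a b))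
  let f₂ : (DirectSum (V ⟶ X) (fun φ => summ P φ)) ⊗[O.obj.obj (op V)] (N.obj (op V)) →+
      DirectSum (V ⟶ X) (fun φ => (summ P' φ) ⊗[O.obj.obj (op V)] (N.obj (op V))) :=
    (AddMonoidHom.mk' (fun x => (((ezP O X).map (π ▷ (jresP O X).obj N)).app (op V)).hom x)
      (fun a b => map_add _ a b)).comp (thetaEquiv P N V).toLinearMap.toAddMonoidHom
  have : f₁ = f₂ := by
    apply addHom_ext_ds_tensor
    intro φ p n
    change thetaEquiv P' N V
        ((((ezP O X).map π).app (op V)).hom (DirectSum.of (fun φ : V ⟶ X => summ P φ) φ p)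
          ⊗ₜ[O.obj.obj (op V)] n) =
      (((ezP O X).map (π ▷ (jresP O X).obj N)).app (op V)).hom (thetaEquiv P N V
        ((DirectSum.of (fun φ : V ⟶ X => summ P φ) φ p) ⊗ₜ[O.obj.obj (op V)] n))
    have h1 : (((ezP O X).map π).app (op V)).hom (DirectSum.of (fun φ : V ⟶ X => summ P φ) φ p) =
        DirectSum.of (fun φ : V ⟶ X => summ P' φ) φ ((π.app (op (Over.mk φ))).hom p) :=
      ezMapOfHom_of (X := X) (R₀ := O.obj ⋙ forget₂ CommRingCat.{u} RingCat.{u}) π φ p
    rw [h1, thetaEquiv_tmul_of, thetaEquiv_tmul_of]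
    exact (ezMapOfHom_of (X := X) (R₀ := O.obj ⋙ forget₂ CommRingCat.{u} RingCat.{u})
      (G := (P ⊗ (jresP O X).obj N : PMod (O.over X)))
      (G' := (P' ⊗ (jresP O X).obj N : PMod (O.over X)))
      (π ▷ (jresP O X).obj N) φ (p ⊗ₜ n)).symm
  exact DFunLike.congr_fun this x

lemma theta_naturality_left {P P' : PMod (O.over X)} (π : P ⟶ P') (N : PMod O) :
    ((ezP O X).map π ▷ N) ≫ (theta P' N).hom =
      (theta P N).hom ≫ (ezP O X).map (π ▷ (jresP O X).obj N) := by
  ext V x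
  exact theta_naturality_left_apply π N V.unop x

end Groth.Agent.LD.EZ
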