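import Mathlib
import Groth.Agent.Lib.Lead.EZ.ProjPre

/-! # The projection formula for extension by zero, sheaf level. -/

set_option autoImplicit false
universe u
open CategoryTheory Limits Opposite MonoidalCategory

namespace Groth.Agent.LD.EZ
open Groth.Agent.LD.MS Groth.Agent.LD.AbPull

variable {C : Type u} [SmallCategory C] {J : GrothendieckTopology C}
  (O : Sheaf J CommRingCat.{u}) (X : C)

/-- the explicit extension by zero. -/
noncomputable abbrev jS : ModSite.Mod (O.over X) ⥤ ModSite.Mod O := ezModSh (ModSite.ringSh O) X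

/-- restriction to the slice. -/
noncomputable abbrev rS : ModSite.Mod O ⥤ ModSite.Mod (O.over X) := ModSite.restr O X

/-- `j_! ⊣ j^*`. -/
noncomputable abbrev jrAdj : jS O X ⊣ rS O X := ezModShAdj (ModSite.ringSh O) X

/-- the two descriptions of the restriction of the underlying presheaf of modules. -/
noncomputable def inclRestrIso : incl O ⋙ jresP O X ≅ rS O X ⋙ incl (O.over X) :=
  NatIso.ofComponents (fun M => Iso.refl _)

/-- sheafification commutes with extension by zero. -/
noncomputable def kappa : ezP O X ⋙ shf O ≅ shf (O.over X) ⋙ jS O X :=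
  (((ezModAdj X (O.obj ⋙ forget₂ CommRingCat.{u} RingCat.{u})).comp (sadj' O)).ofNatIsoRight
    (inclRestrIso O X)).leftAdjointUniq ((sadj' (O.over X)).comp (jrAdj O X))


variable {O X}

/-- presheaf projection formula, natural in the module on the big site. -/
noncomputable def thetaR (P : PMod (O.over X)) :
    tensorLeft ((ezP O X).obj P) ≅ jresP O X ⋙ tensorLeft P ⋙ ezP O X :=
  NatIso.ofComponents (fun N => theta P N) (fun ν => theta_naturality_right P ν)

/-- presheaf projection formula, natural in the module on the slice. -/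
noncomputable def thetaL (N : PMod O) :
    ezP O X ⋙ tensorRight N ≅ tensorRight ((jresP O X).obj N) ⋙ ezP O X :=
  NatIso.ofComponents (fun P => theta P N) (fun π => theta_naturality_left π N)


/-- **Projection formula**, natural in the module on the big site:
`j_!P ⊗ - ≅ j_!(P ⊗ j^*(-))`. -/
noncomputable def projR (P : ModSite.Mod (O.over X)) :
    (ModSite.tensorBi O).obj ((jS O X).obj P) ≅
      rS O X ⋙ (ModSite.tensorBi (O.over X)).obj P ⋙ jS O X :=
  (show (ModSite.tensorBi O).obj ((jS O X).obj P) ≅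
      incl O ⋙ (tensorLeft ((ezP O X).obj ((incl (O.over X)).obj P)) ⋙ shf O) from
    (objSheafifyIso ((ezP O X).obj ((incl (O.over X)).obj P))).symm) ≪≫
  Functor.isoWhiskerLeft (incl O)
    (Functor.isoWhiskerRight (thetaR ((incl (O.over X)).obj P)) (shf O)) ≪≫
  (show incl O ⋙ ((jresP O X ⋙ tensorLeft ((incl (O.over X)).obj P) ⋙ ezP O X) ⋙ shf O) ≅
      (incl O ⋙ jresP O X) ⋙ (tensorLeft ((incl (O.over X)).obj P) ⋙ (ezP O X ⋙ shf O)) from
    Iso.refl _) ≪≫
  Functor.isoWhiskerRight (inclRestrIso O X) _ ≪≫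
  Functor.isoWhiskerLeft (rS O X ⋙ incl (O.over X))
    (Functor.isoWhiskerLeft (tensorLeft ((incl (O.over X)).obj P)) (kappa O X)) ≪≫
  (show (rS O X ⋙ incl (O.over X)) ⋙ (tensorLeft ((incl (O.over X)).obj P) ⋙
        (shf (O.over X) ⋙ jS O X)) ≅
      rS O X ⋙ ((incl (O.over X) ⋙ (tensorLeft ((incl (O.over X)).obj P) ⋙ shf (O.over X))) ⋙
        jS O X) from Iso.refl _) ≪≫
  Functor.isoWhiskerLeft (rS O X) (Functor.isoWhiskerRight (objIso P).symm (jS O X))


/-- the explicit extension by zero, written with `incl`. -/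
noncomputable def jSIso : jS O X ≅ incl (O.over X) ⋙ ezP O X ⋙ shf O :=
  NatIso.ofComponents (fun P => Iso.refl _) (by
    intro P P' f
    simp only [Iso.refl_hom]
    rfl)

/-- **Projection formula**, natural in the module on the slice:
`j_!(-) ⊗ N ≅ j_!(- ⊗ j^*N)`. -/
noncomputable def projL (N : ModSite.Mod O) :
    jS O X ⋙ (ModSite.tensorBi O).flip.obj N ≅
      (ModSite.tensorBi (O.over X)).flip.obj ((rS O X).obj N) ⋙ jS O X :=
  Functor.isoWhiskerLeft (jS O X) (flipIso N) ≪≫
  Functor.isoWhiskerRight jSIso (incl O ⋙ (tensorRight ((incl O).obj N) ⋙ shf O)) ≪≫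
  (show (incl (O.over X) ⋙ ezP O X ⋙ shf O) ⋙
        (incl O ⋙ (tensorRight ((incl O).obj N) ⋙ shf O)) ≅
      (incl (O.over X) ⋙ ezP O X) ⋙ ((shf O ⋙ incl O) ⋙ (tensorRight ((incl O).obj N) ⋙ shf O))
    from Iso.refl _) ≪≫
  Functor.isoWhiskerLeft (incl (O.over X) ⋙ ezP O X) (unitRightIso ((incl O).obj N)).symm ≪≫
  (show (incl (O.over X) ⋙ ezP O X) ⋙ (tensorRight ((incl O).obj N) ⋙ shf O) ≅
      incl (O.over X) ⋙ ((ezP O X ⋙ tensorRight ((incl O).obj N)) ⋙ shf O) from Iso.refl _) ≪≫
  Functor.isoWhiskerLeft (incl (O.over X))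
    (Functor.isoWhiskerRight (thetaL ((incl O).obj N)) (shf O)) ≪≫
  (show incl (O.over X) ⋙ ((tensorRight ((jresP O X).obj ((incl O).obj N)) ⋙ ezP O X) ⋙ shf O) ≅
      (incl (O.over X) ⋙ tensorRight ((jresP O X).obj ((incl O).obj N))) ⋙ (ezP O X ⋙ shf O)
    from Iso.refl _) ≪≫
  Functor.isoWhiskerLeft _ (kappa O X) ≪≫
  (show (incl (O.over X) ⋙ tensorRight ((jresP O X).obj ((incl O).obj N))) ⋙
        (shf (O.over X) ⋙ jS O X) ≅
      (incl (O.over X) ⋙ (tensorRight ((incl (O.over X)).obj ((rS O X).obj N)) ⋙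
        shf (O.over X))) ⋙ jS O X from Iso.refl _) ≪≫
  Functor.isoWhiskerRight (flipIso ((rS O X).obj N)).symm (jS O X)

end Groth.Agent.LD.EZ
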