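import Mathlib
import Groth.Agent.Lib.Lead.EZ.Proj
import Groth.Agent.Lib.Lead.KT.LocalExt

/-! # Consequences of the projection formula. -/

set_option autoImplicit false
universe u
open CategoryTheory Limits Opposite MonoidalCategory

namespace Groth.Agent.LD.EZ
open Groth.Agent.LD.MS Groth.Agent.LD.AbPull

variable {C : Type u} [SmallCategory C] {J : GrothendieckTopology C}
  (O : Sheaf J CommRingCat.{u}) (X : C)

/-- the prelude's extension by zero is the explicit one. -/
noncomputable def extZeroIso : ModSite.extZero O X ≅ jS O X :=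
  (ModSite.extZeroAdj O X).leftAdjointUniq (jrAdj O X)

/-- **S6169**: the projection formula. -/
theorem nonempty_projection_iso (P : ModSite.Mod (O.over X)) (N : ModSite.Mod O) :
    Nonempty ((ModSite.extZero O X).obj
        (((ModSite.tensorBi (O.over X)).obj P).obj ((ModSite.restr O X).obj N)) ≅
      ((ModSite.tensorBi O).obj ((ModSite.extZero O X).obj P)).obj N) :=
  ⟨(extZeroIso O X).app _ ≪≫ ((projR P).app N).symm ≪≫
    (((ModSite.tensorBi O).mapIso ((extZeroIso O X).app P)).app N).symm⟩

/-- **S6155**. -/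
theorem nonempty_freeOn_tensor_iso (M : ModSite.Mod O) :
    Nonempty (((ModSite.tensorBi O).obj (ModSite.freeOn O X)).obj M ≅
      (ModSite.extZero O X).obj ((ModSite.restr O X).obj M)) := by
  obtain ⟨e⟩ := nonempty_projection_iso O X (ModSite.unit (O.over X)) M
  exact ⟨e.symm ≪≫ (ModSite.extZero O X).mapIso
    (Groth.Agent.LD.KT.tensorUnitIso (O.over X) ((ModSite.restr O X).obj M))⟩


instance jS_preservesMono : (jS O X).PreservesMonomorphisms :=
  inferInstanceAs (ezModSh (ModSite.ringSh O) X).PreservesMonomorphisms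

instance jS_faithful : (jS O X).Faithful :=
  inferInstanceAs (ezModSh (ModSite.ringSh O) X).Faithful

instance rS_preservesMono : (rS O X).PreservesMonomorphisms :=
  haveI : PreservesFiniteLimits (rS O X) :=
    inferInstanceAs (PreservesFiniteLimits (SheafOfModules.overFunctor.{u} (ModSite.ringSh O) X))
  preservesMonomorphisms_of_preservesLimitsOfShape _

/-- `- ⊗ O ≅ id`. -/
noncomputable def flipUnitIso (O' : Sheaf J CommRingCat.{u}) :
    (ModSite.tensorBi O').flip.obj (ModSite.unit O') ≅ 𝟭 (ModSite.Mod O') :=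
  flipIso (ModSite.unit O') ≪≫
    Functor.isoWhiskerLeft (incl O')
      (Functor.isoWhiskerRight (rightUnitorNatIso (PMod O')) (shf O')) ≪≫
    (show incl O' ⋙ (𝟭 (PMod O') ⋙ shf O') ≅ incl O' ⋙ shf O' from Iso.refl _) ≪≫
    asIso (sadj' O').counit

/-- the structure sheaf is flat. -/
theorem isFlat_unit (O' : Sheaf J CommRingCat.{u}) : ModSite.IsFlat (ModSite.unit O') := by
  rw [isFlat_iff_preservesMono]
  exact Functor.preservesMonomorphisms.of_iso (flipUnitIso O').symm

/-- extension by zero preserves flatness. -/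
theorem isFlat_extZero (M : ModSite.Mod (O.over X)) (hM : ModSite.IsFlat M) :
    ModSite.IsFlat ((ModSite.extZero O X).obj M) := by
  rw [isFlat_iff_preservesMono]
  haveI := preservesMono_obj_of_isFlat hM
  haveI : ((ModSite.tensorBi (O.over X)).obj M ⋙ jS O X).PreservesMonomorphisms :=
    Functor.preservesMonomorphisms_comp _ _
  haveI : (rS O X ⋙ (ModSite.tensorBi (O.over X)).obj M ⋙ jS O X).PreservesMonomorphisms :=
    Functor.preservesMonomorphisms_comp _ _
  exact Functor.preservesMonomorphisms.of_iso
    ((projR M).symm ≪≫ braidIso ((jS O X).obj M) ≪≫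
      ((ModSite.tensorBi O).flip.mapIso ((extZeroIso O X).app M)).symm)

/-- **S6146**. -/
theorem isFlat_extZero_and_freeOn :
    (∀ M : ModSite.Mod (O.over X), ModSite.IsFlat M →
      ModSite.IsFlat ((ModSite.extZero O X).obj M)) ∧ ModSite.IsFlat (ModSite.freeOn O X) :=
  ⟨isFlat_extZero O X, isFlat_extZero O X _ (isFlat_unit (O.over X))⟩

/-- **S6147**: restriction preserves flatness. -/
theorem isFlat_restr (M : ModSite.Mod O) (hM : ModSite.IsFlat M) :
    ModSite.IsFlat ((ModSite.restr O X).obj M) := by
  rw [isFlat_iff_preservesMono]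
  haveI := preservesMono_flip_of_isFlat hM
  haveI : (jS O X ⋙ (ModSite.tensorBi O).flip.obj M).PreservesMonomorphisms :=
    Functor.preservesMonomorphisms_comp _ _
  haveI : ((ModSite.tensorBi (O.over X)).flip.obj ((rS O X).obj M) ⋙
      jS O X).PreservesMonomorphisms :=
    Functor.preservesMonomorphisms.of_iso (projL M)
  exact Functor.preservesMonomorphisms_of_preserves_of_reflects _ (jS O X)

end Groth.Agent.LD.EZ
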