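import Mathlib

/-! # Right derived functors of isomorphic functors are isomorphic. -/

set_option autoImplicit false
universe v v' u u'
open CategoryTheory Limits

namespace Groth.Agent.LD.EZ

variable {A : Type u} [Category.{v} A] [Abelian A] [HasInjectiveResolutions A]
  {B : Type u'} [Category.{v'} B] [Abelian B]

/-- right derived functors of isomorphic functors. -/
noncomputable def rightDerivedIsoOfIso {F G : A ⥤ B} [F.Additive] [G.Additive] (e : F ≅ G)
    (n : ℕ) : F.rightDerived n ≅ G.rightDerived n where
  hom := NatTrans.rightDerived e.hom n
  inv := NatTrans.rightDerived e.inv n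
  hom_inv_id := by
    rw [← NatTrans.rightDerived_comp, e.hom_inv_id, NatTrans.rightDerived_id]
  inv_hom_id := by
    rw [← NatTrans.rightDerived_comp, e.inv_hom_id, NatTrans.rightDerived_id]

end Groth.Agent.LD.EZ
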