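import Mathlib
import Groth.Agent.Lib.Lead.EZ.ProjStmts

/-! # Internal hom and localisation. -/

set_option autoImplicit false
universe u
open CategoryTheory Limits Opposite MonoidalCategory

namespace Groth.Agent.LD.EZ
open Groth.Agent.LD.MS Groth.Agent.LD.AbPull

variable {C : Type u} [SmallCategory C] {J : GrothendieckTopology C}
  (O : Sheaf J CommRingCat.{u}) (X : C)

/-- **localisation of the internal hom**, as an isomorphism of functors. -/
noncomputable def sheafHomRestrIso (M : ModSite.Mod O) [ModSite.HasSheafHom M]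
    [ModSite.HasSheafHom ((ModSite.restr O X).obj M)] :
    ModSite.sheafHom M ⋙ rS O X ≅ rS O X ⋙ ModSite.sheafHom ((ModSite.restr O X).obj M) :=
  (((jrAdj O X).comp (ModSite.sheafHomAdj M)).ofNatIsoLeft (projL M)).rightAdjointUniq
    ((ModSite.sheafHomAdj ((ModSite.restr O X).obj M)).comp (jrAdj O X))

/-- **S6156**. -/
theorem nonempty_restr_sheafHom_iso (M N : ModSite.Mod O) [ModSite.HasSheafHom M]
    [ModSite.HasSheafHom ((ModSite.restr O X).obj M)] :
    Nonempty ((ModSite.restr O X).obj ((ModSite.sheafHom M).obj N) ≅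
      (ModSite.sheafHom ((ModSite.restr O X).obj M)).obj ((ModSite.restr O X).obj N)) :=
  ⟨(sheafHomRestrIso O X M).app N⟩


section Terminal

variable {D : Type u} [SmallCategory D] {K : GrothendieckTopology D} (R' : Sheaf K RingCat.{u})

/-- global sections on a site with a terminal object. -/
noncomputable def unitHomAddEquivOfTerminal (F : SheafOfModules.{u} R') (T : D)
    (hT : IsTerminal T) : (SheafOfModules.unit R' ⟶ F) ≃+ F.val.obj (op T) where
  toFun f := (f.val.app (op T)).hom (1 : R'.obj.obj (op T))
  invFun x := F.unitHomEquiv.symm (PresheafOfModules.sectionsMk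
    (fun Y => (F.val.map (hT.from Y.unop).op).hom x) (by
      intro Y Z f
      change (F.val.map f).hom ((F.val.map (hT.from Y.unop).op).hom x) = _
      rw [← PresheafOfModules.map_comp_apply]
      exact F.val.congr_map_apply (Quiver.Hom.unop_inj (hT.hom_ext _ _)) x))
  left_inv f := by
    apply F.unitHomEquiv.injective
    rw [Equiv.apply_symm_apply]
    apply PresheafOfModules.sections_ext
    intro Y
    change (F.val.map (hT.from Y.unop).op).hom
        ((f.val.app (op T)).hom (1 : R'.obj.obj (op T))) =
      (f.val.app Y).hom (1 : R'.obj.obj Y)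
    rw [← PresheafOfModules.naturality_apply]
    congr 1
    exact (R'.obj.map (hT.from Y.unop).op).hom.map_one
  right_inv x := by
    change (F.unitHomEquiv (F.unitHomEquiv.symm _)).val (op T) = x
    rw [Equiv.apply_symm_apply]
    change (F.val.map (hT.from T).op).hom x = x
    have : hT.from T = 𝟙 T := hT.hom_ext _ _
    rw [this]
    simp
  map_add' f g := by
    rw [SheafOfModules.add_val]
    rfl

end Terminal


/-- precomposition with an isomorphism, additively. -/
def precompAddEquiv {T : Type*} [Category T] [Preadditive T] {A B : T} (e : A ≅ B) (Z : T) :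
    (B ⟶ Z) ≃+ (A ⟶ Z) where
  toFun f := e.hom ≫ f
  invFun g := e.inv ≫ g
  left_inv f := by simp
  right_inv g := by simp
  map_add' f g := Preadditive.comp_add _ _ _ _ _ _

instance jS_additive : (jS O X).Additive :=
  haveI : (rS O X).Additive :=
    inferInstanceAs (SheafOfModules.overFunctor.{u} (ModSite.ringSh O) X).Additive
  (jrAdj O X).left_adjoint_additive

/-- **S6170**: sections of the internal hom. -/
theorem nonempty_sect_sheafHom_addEquiv (M N : ModSite.Mod O) [ModSite.HasSheafHom M] :
    Nonempty (ModSite.sect ((ModSite.sheafHom M).obj N) X ≃+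
      ((ModSite.restr O X).obj M ⟶ (ModSite.restr O X).obj N)) := by
  haveI : (rS O X).Additive :=
    inferInstanceAs (SheafOfModules.overFunctor.{u} (ModSite.ringSh O) X).Additive
  let e1 : ((rS O X).obj M ⟶ (rS O X).obj N) ≃+ ((jS O X).obj ((rS O X).obj M) ⟶ N) :=
    ((jrAdj O X).homAddEquiv _ _).symm
  let e2 := precompAddEquiv ((jS O X).mapIso
    (Groth.Agent.LD.KT.tensorUnitIso (O.over X) ((rS O X).obj M))) N
  let e3 := precompAddEquiv ((projL M).app (ModSite.unit (O.over X))) N
  let e4 := (ModSite.sheafHomAdj M).homAddEquiv ((jS O X).obj (ModSite.unit (O.over X))) N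
  let e5 := (jrAdj O X).homAddEquiv (ModSite.unit (O.over X)) ((ModSite.sheafHom M).obj N)
  let e6 := unitHomAddEquivOfTerminal ((ModSite.ringSh O).over X)
    ((rS O X).obj ((ModSite.sheafHom M).obj N)) (Over.mk (𝟙 X)) Over.mkIdTerminal
  exact ⟨(e1.trans (e2.trans (e3.trans (e4.trans (e5.trans e6))))).symm⟩

end Groth.Agent.LD.EZ
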