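import Mathlib
import Groth.Agent.Lib.Lead.SC.RestrPush

/-! # Exact functors commute with right derived functors, naturally. -/

set_option autoImplicit false
universe v v' v'' u u' u''
open CategoryTheory Limits

namespace Groth.Agent.LD.EZ
open Groth.Agent.LD.SC

variable {C : Type u} [Category.{v} C] [Abelian C]
  {D : Type u'} [Category.{v'} D] [Abelian D]
  {E : Type u''} [Category.{v''} E] [Abelian E]
  [HasInjectiveResolutions C]
  (F : C ⥤ D) [F.Additive] (H' : D ⥤ E) [H'.Additive] [H'.PreservesHomology] (p : ℕ)

/-- the homology comparison for a complex. -/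
noncomputable def mapHomIso (K : CochainComplex C ℕ) :
    (((F ⋙ H').mapHomologicalComplex _).obj K).homology p ≅
      H'.obj (((F.mapHomologicalComplex _).obj K).homology p) :=
  (((F.mapHomologicalComplex _).obj K).sc p).mapHomologyIso H'

lemma mapHomIso_naturality {K L : CochainComplex C ℕ} (φ : K ⟶ L) :
    (HomologicalComplex.homologyFunctor E _ p).map (((F ⋙ H').mapHomologicalComplex _).map φ) ≫
      (mapHomIso F H' p L).hom =
    (mapHomIso F H' p K).hom ≫
      H'.map ((HomologicalComplex.homologyFunctor D _ p).map
        ((F.mapHomologicalComplex _).map φ)) :=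
  ShortComplex.mapHomologyIso_hom_naturality
    ((HomologicalComplex.shortComplexFunctor D _ p).map ((F.mapHomologicalComplex _).map φ)) H'

/-- exact functors commute with right derived functors, as functors. -/
noncomputable def rightDerivedPostcompNatIso :
    (F ⋙ H').rightDerived p ≅ F.rightDerived p ⋙ H' :=
  NatIso.ofComponents (fun Z => rightDerivedPostcompIso F H' Z p) (by
    intro Z W f
    change ((F ⋙ H').rightDerived p).map f ≫ (rightDerivedPostcompIso F H' W p).hom =
      (rightDerivedPostcompIso F H' Z p).hom ≫ H'.map ((F.rightDerived p).map f)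
    dsimp only [rightDerivedPostcompIso, Iso.trans_hom, Iso.symm_hom, Functor.mapIso_hom]
    let I := injectiveResolution Z
    let J := injectiveResolution W
    let φ : I.cocomplex ⟶ J.cocomplex := InjectiveResolution.desc f J I
    have comm : I.ι.f 0 ≫ φ.f 0 = f ≫ J.ι.f 0 := InjectiveResolution.desc_commutes_zero f J I
    have n1 := InjectiveResolution.isoRightDerivedObj_hom_naturality f I J φ comm (F ⋙ H') p
    have n2 := InjectiveResolution.isoRightDerivedObj_inv_naturality f I J φ comm F p
    have n3 := mapHomIso_naturality F H' p φ
    have n2' : H'.map ((HomologicalComplex.homologyFunctor D _ p).map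
          ((F.mapHomologicalComplex _).map φ)) ≫ H'.map (J.isoRightDerivedObj F p).inv =
        H'.map (I.isoRightDerivedObj F p).inv ≫ H'.map ((F.rightDerived p).map f) := by
      rw [← H'.map_comp, ← H'.map_comp]
      exact congrArg H'.map n2.symm
    refine (Category.assoc _ _ _).symm.trans ?_
    refine (congrArg (fun z => z ≫ _) n1).trans ?_
    refine (Category.assoc _ _ _).trans ?_
    refine (congrArg (fun z => _ ≫ z) ((Category.assoc _ _ _).symm.trans
      ((congrArg (fun z => z ≫ _) n3).trans (Category.assoc _ _ _)))).trans ?_
    refine (congrArg (fun z => _ ≫ _ ≫ z) n2').trans ?_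
    simp only [Category.assoc]
    rfl)

end Groth.Agent.LD.EZ
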