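import Mathlib
import Groth.Agent.Lib.Lead.EZ.PostcompNat
import Groth.Agent.Lib.Lead.EZ.DerivedIso
import Groth.Agent.Lib.Lead.EZ.HomLoc
import Groth.Prelude.Def_ModSite2

/-! # Localisation of the local Ext sheaves. -/

set_option autoImplicit false
universe u
open CategoryTheory Limits

namespace Groth.Agent.LD.EZ
open Groth.Agent.LD.SC

variable {C : Type u} [SmallCategory C] {J : GrothendieckTopology C}
  (O : Sheaf J CommRingCat.{u}) (X : C)

instance rS_additive : (rS O X).Additive :=
  inferInstanceAs (SheafOfModules.overFunctor.{u} (ModSite.ringSh O) X).Additive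

instance rS_preservesFiniteLimits : PreservesFiniteLimits (rS O X) :=
  inferInstanceAs (PreservesFiniteLimits (SheafOfModules.overFunctor.{u} (ModSite.ringSh O) X))

instance rS_preservesFiniteColimits : PreservesFiniteColimits (rS O X) :=
  inferInstanceAs (PreservesFiniteColimits (SheafOfModules.overFunctor.{u} (ModSite.ringSh O) X))

instance rS_preservesEpimorphisms : (rS O X).PreservesEpimorphisms :=
  inferInstanceAs (SheafOfModules.overFunctor.{u} (ModSite.ringSh O) X).PreservesEpimorphisms

instance rS_preservesInjectiveObjects : (rS O X).PreservesInjectiveObjects :=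
  inferInstanceAs (SheafOfModules.overFunctor.{u} (ModSite.ringSh O) X).PreservesInjectiveObjects

instance rS_preservesHomology : (rS O X).PreservesHomology :=
  Functor.preservesHomology_of_preservesEpis_and_kernels _

/-- **S12887**: the local Ext sheaves commute with localisation. -/
noncomputable def extShRestrIso (M : ModSite.Mod O) [ModSite.HasSheafHom M]
    [ModSite.HasSheafHom ((ModSite.restr O X).obj M)]
    [HasInjectiveResolutions (ModSite.Mod O)] [HasInjectiveResolutions (ModSite.Mod (O.over X))]
    (q : ℕ) :
    ModSite.extSh M q ⋙ ModSite.restr O X ≅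
      ModSite.restr O X ⋙ ModSite.extSh ((ModSite.restr O X).obj M) q :=
  (rightDerivedPostcompNatIso (ModSite.sheafHom M) (rS O X) q).symm ≪≫
    rightDerivedIsoOfIso (sheafHomRestrIso O X M) q ≪≫
    (rightDerivedCompNatIso (rS O X) (ModSite.sheafHom ((ModSite.restr O X).obj M))
      (rS O X ⋙ ModSite.sheafHom ((ModSite.restr O X).obj M)) (Iso.refl _) q).symm

end Groth.Agent.LD.EZ
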