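import Mathlib
import Groth.Agent.Lib.Lead.EZ.ProjStmts
import Groth.Agent.Lib.Lead.MS.TensorColim

/-! # The internal hom out of a finite free module is exact. -/

set_option autoImplicit false
universe u
open CategoryTheory Limits Opposite MonoidalCategory

namespace Groth.Agent.LD.EZ
open Groth.Agent.LD.MS

section General

variable {A : Type*} [Category A] [Abelian A] (ι : Type) [Finite ι]

/-- `M ↦ ∐_ι M`. -/
noncomputable abbrev copow : A ⥤ A := Functor.const (Discrete ι) ⋙ colim

/-- `M ↦ ∏_ι M`. -/
noncomputable abbrev pow : A ⥤ A := Functor.const (Discrete ι) ⋙ lim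

noncomputable def copowPowAdj : copow (A := A) ι ⊣ pow ι := constLimAdj.comp colimConstAdj

instance pow_preservesEpi : (pow (A := A) ι).PreservesEpimorphisms := by
  haveI : (Functor.const (Discrete ι) : A ⥤ _).PreservesEpimorphisms :=
    Functor.preservesEpimorphisms_of_adjunction (constLimAdj (C := A) (J := Discrete ι))
  haveI : HasFiniteBiproducts A := Abelian.hasFiniteBiproducts
  haveI : PreservesFiniteColimits (lim : (Discrete ι ⥤ A) ⥤ A) :=
    HasExactLimitsOfShape.preservesFiniteColimits
  haveI : (lim : (Discrete ι ⥤ A) ⥤ A).PreservesEpimorphisms :=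
    preservesEpimorphisms_of_preservesColimitsOfShape _
  exact Functor.preservesEpimorphisms_comp _ _

/-- the constant diagram on the identity functor, flipped, is the constant-diagram functor. -/
noncomputable def flipConstIso :
    ((Functor.const (Discrete ι)).obj (𝟭 A)).flip ≅ (Functor.const (Discrete ι) : A ⥤ _) :=
  NatIso.ofComponents (fun a => NatIso.ofComponents (fun _ => Iso.refl _))

end General

variable {C : Type u} [SmallCategory C] {J : GrothendieckTopology C}
  (O : Sheaf J CommRingCat.{u})

theorem flip_preservesColimit {K : Type} [SmallCategory K] (G : K ⥤ ModSite.Mod O) :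
    PreservesColimit G (ModSite.tensorBi O).flip := by
  apply preservesColimit_of_evaluation
  intro N
  haveI : PreservesColimitsOfSize.{0, 0} ((ModSite.tensorBi O).obj N) :=
    preservesSmallestColimits_of_preservesColimits.{u, u} _
  exact inferInstanceAs (PreservesColimit G ((ModSite.tensorBi O).obj N))

/-- `- ⊗ (∐_ι O) ≅ ∐_ι -`. -/
noncomputable def flipFreeIso (ι : Type) [Finite ι] :
    (ModSite.tensorBi O).flip.obj (∐ fun _ : ι => ModSite.unit O) ≅ copow ι :=
  haveI := flip_preservesColimit O (Discrete.functor fun _ : ι => ModSite.unit O)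
  preservesColimitIso (ModSite.tensorBi O).flip (Discrete.functor fun _ : ι => ModSite.unit O) ≪≫
  HasColimit.isoOfNatIso
    (show (Discrete.functor fun _ : ι => ModSite.unit O) ⋙ (ModSite.tensorBi O).flip ≅
      (Functor.const (Discrete ι)).obj (𝟭 (ModSite.Mod O)) from
      Discrete.natIso fun _ => flipUnitIso O) ≪≫
  colimitIsoFlipCompColim _ ≪≫ Functor.isoWhiskerRight (flipConstIso ι) colim

/-- the internal hom out of a finite free module is a finite power. -/
noncomputable def sheafHomFreeIso (ι : Type) [Finite ι]
    [ModSite.HasSheafHom (∐ fun _ : ι => ModSite.unit O)] :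
    ModSite.sheafHom (∐ fun _ : ι => ModSite.unit O) ≅ pow ι :=
  ((ModSite.sheafHomAdj _).ofNatIsoLeft (flipFreeIso O ι)).rightAdjointUniq (copowPowAdj ι)

theorem sheafHom_free_preservesEpi (ι : Type) [Finite ι]
    [ModSite.HasSheafHom (∐ fun _ : ι => ModSite.unit O)] :
    (ModSite.sheafHom (∐ fun _ : ι => ModSite.unit O)).PreservesEpimorphisms :=
  Functor.PreservesEpimorphisms.of_iso (sheafHomFreeIso O ι).symm

/-- invariance of the internal hom under isomorphism of the source. -/
noncomputable def sheafHomCongr {M N : ModSite.Mod O} (e : M ≅ N) [ModSite.HasSheafHom M]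
    [ModSite.HasSheafHom N] : ModSite.sheafHom M ≅ ModSite.sheafHom N :=
  ((ModSite.sheafHomAdj M).ofNatIsoLeft ((ModSite.tensorBi O).flip.mapIso e)).rightAdjointUniq
    (ModSite.sheafHomAdj N)

theorem sheafHom_preservesEpi_of_iso_free {M : ModSite.Mod O} (ι : Type) [Finite ι]
    (e : M ≅ ∐ fun _ : ι => ModSite.unit O) [ModSite.HasSheafHom M] :
    (ModSite.sheafHom M).PreservesEpimorphisms := by
  haveI := hasSheafHom (∐ fun _ : ι => ModSite.unit O)
  haveI := sheafHom_free_preservesEpi O ι
  exact Functor.PreservesEpimorphisms.of_iso (sheafHomCongr O e).symm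

end Groth.Agent.LD.EZ
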