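import Mathlib

/-! # An abstract lemma on kernels of maps between cokernels. -/

set_option autoImplicit false
universe v u
open CategoryTheory Limits

namespace Groth.Agent.LD.EZ

variable {𝒜 : Type u} [Category.{v} 𝒜] [Abelian 𝒜]

/-- `A/f(X) ⟶ B/i(f(X))` is a monomorphism when `i` is. -/
theorem mono_cokernel_desc_of_mono {X A B : 𝒜} (f : X ⟶ A) (i : A ⟶ B) [Mono i] :
    Mono (cokernel.desc f (i ≫ cokernel.π (f ≫ i))
      (by rw [← Category.assoc, cokernel.condition])) := by
  rw [Preadditive.mono_iff_cancel_zero]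
  intro Z z hz
  obtain ⟨Z', π', hπ', z', fac⟩ := surjective_up_to_refinements_of_epi (cokernel.π f) z
  have h1 : (z' ≫ i) ≫ cokernel.π (f ≫ i) = 0 := by
    have : z' ≫ cokernel.π f ≫ cokernel.desc f (i ≫ cokernel.π (f ≫ i))
        (by rw [← Category.assoc, cokernel.condition]) = 0 := by
      rw [← Category.assoc, ← fac, Category.assoc, hz, comp_zero]
    rw [cokernel.π_desc] at this
    rw [Category.assoc]
    exact this
  obtain ⟨Z'', π'', hπ'', w, fac'⟩ :=
    (CokernelCofork.IsColimit.comp_π_eq_zero_iff_up_to_refinements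
      (cokernelIsCokernel (f ≫ i)) (z' ≫ i)).1 h1
  have h2 : π'' ≫ z' = w ≫ f := by
    rw [← cancel_mono i, Category.assoc, Category.assoc]
    exact fac'
  have h3 : (π'' ≫ π') ≫ z = 0 := by
    rw [Category.assoc, fac, ← Category.assoc, h2, Category.assoc, cokernel.condition, comp_zero]
  haveI : Epi (π'' ≫ π') := epi_comp _ _
  exact (cancel_epi (π'' ≫ π')).1 (h3.trans comp_zero.symm)

/-- the key diagram chase: the kernel of `A/e_A ⟶ B/e_B` embeds in a quotient of `E_B`. -/
theorem exists_epi_mono_of_cokernel_map {A B EA EB : 𝒜} (i : A ⟶ B) [Mono i] (eA : EA ⟶ A)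
    (eB : EB ⟶ B) (ei : EA ⟶ EB) (w : ei ≫ eB = eA ≫ i) :
    ∃ (B'' : 𝒜) (p : EB ⟶ B'') (ιK : kernel (cokernel.map eA eB ei i w.symm) ⟶ B''),
      Epi p ∧ Mono ιK := by
  let Q := cokernel (eA ≫ i)
  let πQ : B ⟶ Q := cokernel.π (eA ≫ i)
  have ha0 : eA ≫ i ≫ πQ = 0 := by rw [← Category.assoc, cokernel.condition]
  let a : cokernel eA ⟶ Q := cokernel.desc eA (i ≫ πQ) ha0
  haveI : Mono a := mono_cokernel_desc_of_mono eA i
  have hb0 : (eA ≫ i) ≫ cokernel.π eB = 0 := by
    rw [← w, Category.assoc, cokernel.condition, comp_zero]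
  let b : Q ⟶ cokernel eB := cokernel.desc (eA ≫ i) (cokernel.π eB) hb0
  have hab : a ≫ b = cokernel.map eA eB ei i w.symm := by
    apply coequalizer.hom_ext
    simp only [a, b, πQ]
    erw [cokernel.π_desc_assoc, Category.assoc, cokernel.π_desc, cokernel.π_desc]
  have hκ : (kernel.ι (cokernel.map eA eB ei i w.symm) ≫ a) ≫ b = 0 := by
    rw [Category.assoc, hab, kernel.condition]
  have hp : (eB ≫ πQ) ≫ b = 0 := by
    rw [Category.assoc, cokernel.π_desc, cokernel.condition]
  refine ⟨kernel b, kernel.lift b (eB ≫ πQ) hp,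
    kernel.lift b (kernel.ι (cokernel.map eA eB ei i w.symm) ≫ a) hκ, ?_, ?_⟩
  · rw [epi_iff_surjective_up_to_refinements]
    intro Z z
    obtain ⟨Z₁, π₁, hπ₁, z₁, fac₁⟩ := surjective_up_to_refinements_of_epi πQ (z ≫ kernel.ι b)
    have h1 : z₁ ≫ cokernel.π eB = 0 := by
      have : z₁ ≫ πQ ≫ b = 0 := by
        rw [← Category.assoc, ← fac₁, Category.assoc, Category.assoc, kernel.condition, comp_zero,
          comp_zero]
      rw [cokernel.π_desc] at this
      exact this
    obtain ⟨Z₂, π₂, hπ₂, y, fac₂⟩ :=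
      (CokernelCofork.IsColimit.comp_π_eq_zero_iff_up_to_refinements
        (cokernelIsCokernel eB) z₁).1 h1
    refine ⟨Z₂, π₂ ≫ π₁, epi_comp _ _, y, ?_⟩
    rw [← cancel_mono (kernel.ι b), Category.assoc, Category.assoc, Category.assoc,
      kernel.lift_ι, fac₁, ← Category.assoc, fac₂, Category.assoc]
  · haveI : Mono (kernel.lift b (kernel.ι (cokernel.map eA eB ei i w.symm) ≫ a) hκ ≫
        kernel.ι b) := by
      rw [kernel.lift_ι]
      exact mono_comp _ _
    exact mono_of_mono _ (kernel.ι b)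

end Groth.Agent.LD.EZ
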