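import Mathlib
import Groth.Agent.Lib.Lead.EZ.Proj

/-! # Restriction to a slice commutes with sheafification (sheaves of modules). -/

set_option autoImplicit false
universe u
open CategoryTheory Limits Opposite MonoidalCategory

namespace Groth.Agent.LD.EZ
open Groth.Agent.LD.MS Groth.Agent.LD.AbPull

variable {C : Type u} [SmallCategory C] {J : GrothendieckTopology C}

/-- restriction of the sheafification map to a slice is inverted by sheafification on the slice. -/
theorem W_whiskerLeft_forget_toSheafify (X : C) (F : Cᵒᵖ ⥤ AddCommGrpCat.{u}) :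
    (J.over X).W (Functor.whiskerLeft (Over.forget X).op (toSheafify J F)) := by
  rw [← (Over.forget X).toSheafify_pullbackSheafificationCompatibility AddCommGrpCat.{u}
    (J.over X) J F]
  refine (J.over X).W.comp_mem _ _ ((J.over X).W_toSheafify _) ?_
  exact ((J.over X).W_sheafToPresheaf_map_iff_isIso
    (((Over.forget X).pushforwardContinuousSheafificationCompatibility AddCommGrpCat.{u}
      (J.over X) J).hom.app F)).2 inferInstance

variable (O : Sheaf J CommRingCat.{u}) (X : C)

theorem isIso_shf_map_jresP_unit (Q : PMod O) :
    IsIso ((shf (O.over X)).map ((jresP O X).map ((sadj' O).unit.app Q))) := by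
  rw [isIso_sheafify_map_iff]
  exact W_whiskerLeft_forget_toSheafify X Q.presheaf

instance isIso_counit_app (M : ModSite.Mod O) : IsIso ((sadj' O).counit.app M) :=
  inferInstance

/-- the comparison `a_X(Q|_X) ⟶ (aQ)|_X`. -/
noncomputable def restrShfHom (Q : PMod O) :
    (shf (O.over X)).obj ((jresP O X).obj Q) ⟶ (rS O X).obj ((shf O).obj Q) :=
  (shf (O.over X)).map ((jresP O X).map ((sadj' O).unit.app Q)) ≫
    (shf (O.over X)).map ((inclRestrIso O X).hom.app ((shf O).obj Q)) ≫
    (sadj' (O.over X)).counit.app ((rS O X).obj ((shf O).obj Q))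

instance (Q : PMod O) : IsIso (restrShfHom O X Q) := by
  haveI := isIso_shf_map_jresP_unit O X Q
  unfold restrShfHom
  infer_instance

lemma restrShfHom_naturality {Q Q' : PMod O} (f : Q ⟶ Q') :
    (shf (O.over X)).map ((jresP O X).map f) ≫ restrShfHom O X Q' =
      restrShfHom O X Q ≫ (rS O X).map ((shf O).map f) := by
  unfold restrShfHom
  have h1 : (jresP O X).map f ≫ (jresP O X).map ((sadj' O).unit.app Q') =
      (jresP O X).map ((sadj' O).unit.app Q) ≫
        (jresP O X).map ((incl O).map ((shf O).map f)) := by
    rw [← Functor.map_comp, ← Functor.map_comp]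
    congr 1
    exact (sadj' O).unit.naturality f
  have h2 : (jresP O X).map ((incl O).map ((shf O).map f)) ≫
        (inclRestrIso O X).hom.app ((shf O).obj Q') =
      (inclRestrIso O X).hom.app ((shf O).obj Q) ≫
        (incl (O.over X)).map ((rS O X).map ((shf O).map f)) :=
    (inclRestrIso O X).hom.naturality ((shf O).map f)
  have h3 : (shf (O.over X)).map ((incl (O.over X)).map ((rS O X).map ((shf O).map f))) ≫
        (sadj' (O.over X)).counit.app ((rS O X).obj ((shf O).obj Q')) =
      (sadj' (O.over X)).counit.app ((rS O X).obj ((shf O).obj Q)) ≫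
        (rS O X).map ((shf O).map f) :=
    (sadj' (O.over X)).counit.naturality ((rS O X).map ((shf O).map f))
  have e1 : (shf (O.over X)).map ((jresP O X).map f) ≫
        (shf (O.over X)).map ((jresP O X).map ((sadj' O).unit.app Q')) =
      (shf (O.over X)).map ((jresP O X).map ((sadj' O).unit.app Q)) ≫
        (shf (O.over X)).map ((jresP O X).map ((incl O).map ((shf O).map f))) := by
    have := congrArg (fun t => (shf (O.over X)).map t) h1
    simpa only [Functor.map_comp] using this
  have e2 : (shf (O.over X)).map ((jresP O X).map ((incl O).map ((shf O).map f))) ≫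
        (shf (O.over X)).map ((inclRestrIso O X).hom.app ((shf O).obj Q')) =
      (shf (O.over X)).map ((inclRestrIso O X).hom.app ((shf O).obj Q)) ≫
        (shf (O.over X)).map ((incl (O.over X)).map ((rS O X).map ((shf O).map f))) := by
    have := congrArg (fun t => (shf (O.over X)).map t) h2
    simpa only [Functor.map_comp] using this
  calc _ = ((shf (O.over X)).map ((jresP O X).map f) ≫
        (shf (O.over X)).map ((jresP O X).map ((sadj' O).unit.app Q'))) ≫
        (shf (O.over X)).map ((inclRestrIso O X).hom.app ((shf O).obj Q')) ≫
        (sadj' (O.over X)).counit.app ((rS O X).obj ((shf O).obj Q')) := by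
        simp only [Category.assoc]
    _ = (shf (O.over X)).map ((jresP O X).map ((sadj' O).unit.app Q)) ≫
        ((shf (O.over X)).map ((jresP O X).map ((incl O).map ((shf O).map f))) ≫
        (shf (O.over X)).map ((inclRestrIso O X).hom.app ((shf O).obj Q'))) ≫
        (sadj' (O.over X)).counit.app ((rS O X).obj ((shf O).obj Q')) := by
        rw [e1]; simp only [Category.assoc]
    _ = (shf (O.over X)).map ((jresP O X).map ((sadj' O).unit.app Q)) ≫
        (shf (O.over X)).map ((inclRestrIso O X).hom.app ((shf O).obj Q)) ≫
        ((shf (O.over X)).map ((incl (O.over X)).map ((rS O X).map ((shf O).map f))) ≫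
        (sadj' (O.over X)).counit.app ((rS O X).obj ((shf O).obj Q'))) := by
        rw [e2]; simp only [Category.assoc]
    _ = _ := by
        rw [h3]; simp only [Category.assoc]

/-- restriction to a slice commutes with sheafification. -/
noncomputable def restrShfIso : jresP O X ⋙ shf (O.over X) ≅ shf O ⋙ rS O X :=
  NatIso.ofComponents (fun Q => asIso (restrShfHom O X Q))
    (fun f => restrShfHom_naturality O X f)

variable {O X}

/-- restriction of presheaves of modules to the slice is strictly monoidal. -/
noncomputable def jresPTensorIso (P Q : PMod O) :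
    (jresP O X).obj (P ⊗ Q) ≅ ((jresP O X).obj P ⊗ (jresP O X).obj Q : PMod (O.over X)) :=
  PresheafOfModules.isoMk (fun V => Iso.refl _) (by
    intro V W f
    rfl)

variable (O X)

/-- **S6154**: restriction to a slice commutes with the tensor product. -/
noncomputable def restrTensorIso (M N : ModSite.Mod O) :
    (rS O X).obj (((ModSite.tensorBi O).obj M).obj N) ≅
      ((ModSite.tensorBi (O.over X)).obj ((rS O X).obj M)).obj ((rS O X).obj N) :=
  ((restrShfIso O X).app ((incl O).obj M ⊗ (incl O).obj N)).symm ≪≫
    (shf (O.over X)).mapIso (jresPTensorIso ((incl O).obj M) ((incl O).obj N))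

end Groth.Agent.LD.EZ
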