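import Mathlib
import Groth.Prelude.Def_ExtSupp
import Groth.Agent.Lib.Lead.EZ.RestrShf

/-! # Sections with support and the quotient `M/M_U`: the adjunction. -/

set_option autoImplicit false
universe u
open CategoryTheory Limits Opposite

namespace Groth.Agent.LD.EZ
open ModSite

variable {C : Type u} [SmallCategory C] {J : GrothendieckTopology C}
  (O : Sheaf J CommRingCat.{u}) (U : C)

lemma counit_comp_eq_zero_iff {M N : Mod O} (h : M ⟶ N) :
    (extZeroAdj O U).counit.app M ≫ h = 0 ↔ (restr O U).map h = 0 :=
  (ExtSupp.mem_homZ_iff U h).symm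

/-- the counit `j_!j^*M ⟶ M`. -/
noncomputable abbrev epsU (M : Mod O) : (extZero O U).obj ((restr O U).obj M) ⟶ M :=
  (extZeroAdj O U).counit.app M

/-- the projection `M ⟶ M/M_U`. -/
noncomputable abbrev piU (M : Mod O) : M ⟶ (quotOn O U).obj M := (quotOnπ O U).app M

instance (M : Mod O) : Epi (piU O U M) :=
  inferInstanceAs (Epi (cokernel.π ((extZeroAdj O U).counit.app M)))

lemma epsU_piU (M : Mod O) : epsU O U M ≫ piU O U M = 0 :=
  cokernel.condition ((extZeroAdj O U).counit.app M)

lemma piU_naturality {M M' : Mod O} (a : M ⟶ M') :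
    piU O U M ≫ (quotOn O U).map a = a ≫ piU O U M' :=
  ((quotOnπ O U).naturality a).symm

/-- maps out of `M/M_U`. -/
noncomputable def fromQuot {M N : Mod O} (h : M ⟶ N) (hh : epsU O U M ≫ h = 0) :
    (quotOn O U).obj M ⟶ N :=
  cokernel.desc ((extZeroAdj O U).counit.app M) h hh

lemma piU_fromQuot {M N : Mod O} (h : M ⟶ N) (hh : epsU O U M ≫ h = 0) :
    piU O U M ≫ fromQuot O U h hh = h :=
  cokernel.π_desc _ _ _



variable [HasPushOver O U]

lemma comp_unit_eq_zero_iff {M N : Mod O} (h : M ⟶ N) :
    h ≫ (restrPushOverAdj O U).unit.app N = 0 ↔ (restr O U).map h = 0 := by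
  let adj := restrPushOverAdj O U
  have key : (adj.homEquiv _ _).symm (h ≫ adj.unit.app N) = (restr O U).map h := by
    rw [adj.homEquiv_counit, Functor.map_comp, Category.assoc, adj.left_triangle_components,
      Category.comp_id]
  have key0 : (adj.homEquiv M ((restr O U).obj N)).symm 0 = 0 := by
    rw [adj.homEquiv_counit, Functor.map_zero, zero_comp]
  constructor
  · intro h0
    rw [← key, h0, key0]
  · intro h0
    apply (adj.homEquiv _ _).symm.injective
    rw [key, key0, h0]

lemma counit_comp_eq_zero_iff_comp_unit {M N : Mod O} (h : M ⟶ N) :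
    (extZeroAdj O U).counit.app M ≫ h = 0 ↔ h ≫ (restrPushOverAdj O U).unit.app N = 0 :=
  (counit_comp_eq_zero_iff O U h).trans (comp_unit_eq_zero_iff O U h).symm

/-- the unit `N ⟶ j_*j^*N`. -/
noncomputable abbrev etaU (N : Mod O) : N ⟶ (pushOver O U).obj ((restr O U).obj N) :=
  (restrPushOverAdj O U).unit.app N

/-- the inclusion `Γ_Z N ⟶ N`. -/
noncomputable abbrev iotaU (N : Mod O) : (sectOn O U).obj N ⟶ N := (sectOnι O U).app N

instance (N : Mod O) : Mono (iotaU O U N) :=
  inferInstanceAs (Mono (kernel.ι ((restrPushOverAdj O U).unit.app N)))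

lemma iotaU_etaU (N : Mod O) : iotaU O U N ≫ etaU O U N = 0 :=
  kernel.condition ((restrPushOverAdj O U).unit.app N)

lemma iotaU_naturality {N N' : Mod O} (n : N ⟶ N') :
    (sectOn O U).map n ≫ iotaU O U N' = iotaU O U N ≫ n :=
  (sectOnι O U).naturality n

/-- maps into `Γ_Z N`. -/
noncomputable def toSect {M N : Mod O} (h : M ⟶ N) (hh : h ≫ etaU O U N = 0) :
    M ⟶ (sectOn O U).obj N :=
  kernel.lift ((restrPushOverAdj O U).unit.app N) h hh

lemma toSect_iotaU {M N : Mod O} (h : M ⟶ N) (hh : h ≫ etaU O U N = 0) :
    toSect O U h hh ≫ iotaU O U N = h :=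
  kernel.lift_ι _ _ _

/-- `M ↦ M/M_U` is left adjoint to sections with support. -/
noncomputable def quotSectAdj : quotOn O U ⊣ sectOn O U :=
  Adjunction.mkOfHomEquiv
    { homEquiv := fun M N =>
        { toFun := fun g => toSect O U (piU O U M ≫ g)
            ((counit_comp_eq_zero_iff_comp_unit O U _).1 (by
              rw [← Category.assoc]
              exact (congrArg (· ≫ g) (epsU_piU O U M)).trans zero_comp))
          invFun := fun f => fromQuot O U (f ≫ iotaU O U N)
            ((counit_comp_eq_zero_iff_comp_unit O U _).2 (by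
              rw [Category.assoc]
              exact (congrArg (f ≫ ·) (iotaU_etaU O U N)).trans comp_zero))
          left_inv := fun g => by
            rw [← cancel_epi (piU O U M), piU_fromQuot, toSect_iotaU]
          right_inv := fun f => by
            rw [← cancel_mono (iotaU O U N), toSect_iotaU, piU_fromQuot] }
      homEquiv_naturality_left_symm := by
        intro M' M N a f
        change fromQuot O U ((a ≫ f) ≫ iotaU O U N) _ =
          (quotOn O U).map a ≫ fromQuot O U (f ≫ iotaU O U N) _
        rw [← cancel_epi (piU O U M'), piU_fromQuot, reassoc_of% (piU_naturality O U a),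
          piU_fromQuot, Category.assoc]
      homEquiv_naturality_right := by
        intro M N N' g n
        change toSect O U (piU O U M ≫ g ≫ n) _ =
          toSect O U (piU O U M ≫ g) _ ≫ (sectOn O U).map n
        rw [← cancel_mono (iotaU O U N'), toSect_iotaU, Category.assoc, iotaU_naturality,
          ← Category.assoc (toSect O U _ _), toSect_iotaU, Category.assoc] }

end Groth.Agent.LD.EZ
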