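import Mathlib
import Groth.Agent.Lib.Lead.EZ.Supp

/-! # Functors commuting with `M ↦ M/M_U`. -/

set_option autoImplicit false
universe u
open CategoryTheory Limits Opposite

namespace Groth.Agent.LD.EZ
open ModSite

variable {C : Type u} [SmallCategory C] {J : GrothendieckTopology C}
  (O : Sheaf J CommRingCat.{u}) (U : C)

/-- any map from an extension by zero dies in the quotient `B/B_U`. -/
lemma extZero_comp_piU {P : Mod (O.over U)} {B : Mod O} (u : (extZero O U).obj P ⟶ B) :
    u ≫ piU O U B = 0 := by
  have h : u = (extZero O U).map ((extZeroAdj O U).homEquiv _ _ u) ≫ epsU O U B := by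
    have := ((extZeroAdj O U).homEquiv_counit (X := P) (Y := B)
      (g := (extZeroAdj O U).homEquiv _ _ u))
    rw [Equiv.symm_apply_apply] at this
    exact this
  rw [h, Category.assoc]
  exact (congrArg (_ ≫ ·) (epsU_piU O U B)).trans comp_zero

variable [HasPushOver O U]

section Comm

variable (T : Mod O ⥤ Mod O) [T.Additive] [PreservesFiniteColimits T]
  (h2 : ∀ P : Mod (O.over U), ∃ P' : Mod (O.over U),
    Nonempty ((extZero O U).obj P' ≅ T.obj ((extZero O U).obj P)))
  (h3 : ∀ B : Mod O, IsNullOn O U B → IsNullOn O U (T.obj B))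

include h2 in
lemma T_epsU_piU (A : Mod O) : T.map (epsU O U A) ≫ piU O U (T.obj A) = 0 := by
  obtain ⟨P', ⟨φ⟩⟩ := h2 ((restr O U).obj A)
  rw [← cancel_epi φ.hom, comp_zero, ← Category.assoc]
  exact extZero_comp_piU O U _

include h3 in
lemma epsU_T_piU (A : Mod O) : epsU O U (T.obj A) ≫ T.map (piU O U A) = 0 := by
  rw [counit_comp_eq_zero_iff]
  have hz : IsZero ((restr O U).obj (T.obj ((quotOn O U).obj A))) :=
    h3 _ (ExtSupp.isNullOn_quotOn O U A)
  exact hz.eq_of_tgt _ _

/-- `T(A/A_U) ⟶ T(A)/T(A)_U`. -/
noncomputable def commHom (A : Mod O) :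
    T.obj ((quotOn O U).obj A) ⟶ (quotOn O U).obj (T.obj A) :=
  (PreservesCokernel.iso T ((extZeroAdj O U).counit.app A)).hom ≫
    cokernel.desc (T.map ((extZeroAdj O U).counit.app A)) (piU O U (T.obj A))
      (T_epsU_piU O U T h2 A)

lemma T_piU_commHom (A : Mod O) :
    T.map (piU O U A) ≫ commHom O U T h2 A = piU O U (T.obj A) := by
  unfold commHom
  rw [← Category.assoc]
  erw [PreservesCokernel.π_iso_hom, cokernel.π_desc]

/-- `T(A)/T(A)_U ⟶ T(A/A_U)`. -/
noncomputable def commInv (A : Mod O) :
    (quotOn O U).obj (T.obj A) ⟶ T.obj ((quotOn O U).obj A) :=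
  fromQuot O U (T.map (piU O U A)) (epsU_T_piU O U T h3 A)

lemma piU_commInv (A : Mod O) :
    piU O U (T.obj A) ≫ commInv O U T h3 A = T.map (piU O U A) :=
  piU_fromQuot O U _ _

instance epi_T_piU (A : Mod O) : Epi (T.map (piU O U A)) := inferInstance

/-- a right exact functor preserving extensions by zero and modules null on `U` commutes with
`M ↦ M/M_U`. -/
noncomputable def quotCommIso : quotOn O U ⋙ T ≅ T ⋙ quotOn O U :=
  NatIso.ofComponents (fun A =>
    { hom := commHom O U T h2 A
      inv := commInv O U T h3 A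
      hom_inv_id := by
        rw [← cancel_epi (T.map (piU O U A)), ← Category.assoc, T_piU_commHom, piU_commInv]
        exact (Category.comp_id _).symm
      inv_hom_id := by
        rw [← cancel_epi (piU O U (T.obj A)), ← Category.assoc, piU_commInv, T_piU_commHom]
        exact (Category.comp_id _).symm })
    (by
      intro A A' a
      dsimp only [Functor.comp_map, Functor.comp_obj]
      rw [← cancel_epi (T.map (piU O U A)), ← Category.assoc, ← T.map_comp, piU_naturality,
        T.map_comp, Category.assoc, T_piU_commHom, ← Category.assoc, T_piU_commHom,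
        piU_naturality])

end Comm

end Groth.Agent.LD.EZ
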