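import Mathlib
import Groth.Agent.Lib.Lead.EZ.SuppComm
import Groth.Agent.Lib.Lead.EZ.ProjStmts

/-! # `M ↦ M/M_U` commutes with tensor products; sections with support of internal homs. -/

set_option autoImplicit false
universe u
open CategoryTheory Limits Opposite

namespace Groth.Agent.LD.EZ
open ModSite Groth.Agent.LD.MS

variable {C : Type u} [SmallCategory C] {J : GrothendieckTopology C}
  (O : Sheaf J CommRingCat.{u}) (U : C) [HasPushOver O U]

section Natural

variable {T T' : Mod O ⥤ Mod O} [T.Additive] [PreservesFiniteColimits T]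
  [T'.Additive] [PreservesFiniteColimits T']
  (h2 : ∀ P : Mod (O.over U), ∃ P' : Mod (O.over U),
    Nonempty ((extZero O U).obj P' ≅ T.obj ((extZero O U).obj P)))
  (h2' : ∀ P : Mod (O.over U), ∃ P' : Mod (O.over U),
    Nonempty ((extZero O U).obj P' ≅ T'.obj ((extZero O U).obj P)))

lemma commHom_natural (τ : T ⟶ T') (A : Mod O) :
    τ.app ((quotOn O U).obj A) ≫ commHom O U T' h2' A =
      commHom O U T h2 A ≫ (quotOn O U).map (τ.app A) := by
  rw [← cancel_epi (T.map (piU O U A)), ← Category.assoc, τ.naturality, Category.assoc,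
    T_piU_commHom, ← Category.assoc, T_piU_commHom, piU_naturality]

end Natural

/-! ### `- ⊗ M` -/

lemma tensorFlip_h2 (M : Mod O) : ∀ P : Mod (O.over U), ∃ P' : Mod (O.over U),
    Nonempty ((extZero O U).obj P' ≅ ((tensorBi O).flip.obj M).obj ((extZero O U).obj P)) :=
  fun P => ⟨_, nonempty_projection_iso O U P M⟩

lemma tensorFlip_h3 (M : Mod O) : ∀ B : Mod O, IsNullOn O U B →
    IsNullOn O U (((tensorBi O).flip.obj M).obj B) := fun B hB =>
  IsZero.of_iso (Functor.map_isZero ((tensorBi (O.over U)).flip.obj ((rS O U).obj M)) hB)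
    (restrTensorIso O U B M)

/-- `(A/A_U) ⊗ M ≅ (A ⊗ M)/(A ⊗ M)_U`, natural in `A`. -/
noncomputable def quotTensorFlipIso (M : Mod O) :
    quotOn O U ⋙ (tensorBi O).flip.obj M ≅ (tensorBi O).flip.obj M ⋙ quotOn O U :=
  quotCommIso O U _ (tensorFlip_h2 O U M) (tensorFlip_h3 O U M)

/-! ### `A ⊗ -` -/

lemma tensorObj_h2 (A : Mod O) : ∀ P : Mod (O.over U), ∃ P' : Mod (O.over U),
    Nonempty ((extZero O U).obj P' ≅ ((tensorBi O).obj A).obj ((extZero O U).obj P)) := by
  intro P
  obtain ⟨P', ⟨e⟩⟩ := tensorFlip_h2 O U A P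
  exact ⟨P', ⟨e ≪≫ ((braidIso A).app _).symm⟩⟩

lemma tensorObj_h3 (A : Mod O) : ∀ B : Mod O, IsNullOn O U B →
    IsNullOn O U (((tensorBi O).obj A).obj B) := fun B hB =>
  IsZero.of_iso (Functor.map_isZero ((tensorBi (O.over U)).obj ((rS O U).obj A)) hB)
    (restrTensorIso O U A B)

/-- `A ⊗ (M/M_U) ≅ (A ⊗ M)/(A ⊗ M)_U`, natural in `M`. -/
noncomputable def quotTensorObjIso (A : Mod O) :
    quotOn O U ⋙ (tensorBi O).obj A ≅ (tensorBi O).obj A ⋙ quotOn O U :=
  quotCommIso O U _ (tensorObj_h2 O U A) (tensorObj_h3 O U A)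

/-- `(A/A_U) ⊗ M ≅ A ⊗ (M/M_U)`, natural in `A`. -/
noncomputable def quotSwapIso (M : Mod O) :
    quotOn O U ⋙ (tensorBi O).flip.obj M ≅ (tensorBi O).flip.obj ((quotOn O U).obj M) :=
  NatIso.ofComponents (fun A => (quotTensorFlipIso O U M).app A ≪≫
      ((quotTensorObjIso O U A).app M).symm)
    (by
      intro A A' a
      dsimp only [Iso.trans_hom, Iso.app_hom, Iso.symm_hom, Iso.app_inv, Functor.comp_map,
        Functor.comp_obj]
      have h1 := (quotTensorFlipIso O U M).hom.naturality a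
      have h2 := commHom_natural O U (tensorObj_h2 O U A) (tensorObj_h2 O U A')
        ((tensorBi O).map a) M
      dsimp only [Functor.comp_map, Functor.comp_obj] at h1
      rw [← Category.assoc, h1, Category.assoc, Category.assoc]
      congr 1
      rw [← Iso.app_inv, ← Iso.app_inv, Iso.comp_inv_eq, Category.assoc, Iso.eq_inv_comp]
      exact h2.symm)

end Groth.Agent.LD.EZ

namespace Groth.Agent.LD.EZ
open ModSite Groth.Agent.LD.MS

variable {C : Type u} [SmallCategory C] {J : GrothendieckTopology C}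
  (O : Sheaf J CommRingCat.{u}) (U : C) [HasPushOver O U]

/-- `Γ_Z ℋom(M, -) ≅ ℋom(M, Γ_Z -)`. -/
noncomputable def sectHomIso (M : Mod O) [HasSheafHom M] :
    sheafHom M ⋙ sectOn O U ≅ sectOn O U ⋙ sheafHom M :=
  (((quotSectAdj O U).comp (sheafHomAdj M)).ofNatIsoLeft
    (quotTensorFlipIso O U M)).rightAdjointUniq ((sheafHomAdj M).comp (quotSectAdj O U))

/-- `Γ_Z ℋom(M, -) ≅ ℋom(M/M_U, -)`. -/
noncomputable def sectHomQuotIso (M : Mod O) [HasSheafHom M] [HasSheafHom ((quotOn O U).obj M)] :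
    sheafHom M ⋙ sectOn O U ≅ sheafHom ((quotOn O U).obj M) :=
  (((quotSectAdj O U).comp (sheafHomAdj M)).ofNatIsoLeft
    (quotSwapIso O U M)).rightAdjointUniq (sheafHomAdj ((quotOn O U).obj M))

end Groth.Agent.LD.EZ
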