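import Mathlib
import Groth.Agent.Lib.Lead.EZ.SuppTensor
import Groth.Agent.Lib.Lead.Cech.Sheaf
import Groth.Agent.Lib.Lead.EZ.CokerMono

/-! # `M ↦ M/M_U` is exact; sections with support preserve injectives. -/

set_option autoImplicit false
universe u
open CategoryTheory Limits Opposite

namespace Groth.Agent.LD.EZ
open ModSite Groth.Agent.LD.MS Groth.Agent.LD.AbPull

variable {C : Type u} [SmallCategory C] {J : GrothendieckTopology C}

open scoped Classical in
/-- a subsheaf, vanishing over `U`, of a quotient of an extension by zero from `U` vanishes. -/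
theorem eq_zero_of_null_of_epi (U : C) (G : (Over U)ᵒᵖ ⥤ AddCommGrpCat.{u})
    {B T : Sheaf J AddCommGrpCat.{u}}
    (ψ : (presheafToSheaf J AddCommGrpCat.{u}).obj (ezPre U G) ⟶ B) [Epi ψ] (φ : T ⟶ B) [Mono φ]
    (hT : ∀ (V : C) (_ : V ⟶ U) (x : T.obj.obj (op V)), x = 0) (W : C)
    (s : T.obj.obj (op W)) : s = 0 := by
  haveI hls : Sheaf.IsLocallySurjective ψ :=
    (Sheaf.isLocallySurjective_iff_epi' (φ := ψ)).mpr inferInstance
  have hS₁ := Presheaf.imageSieve_mem J ψ.hom (U := op W) (φ.hom.app (op W) s)
  refine (T.property.isSeparated) W _ hS₁ s 0 (fun W' f hf => ?_)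
  obtain ⟨x, hx⟩ := hf
  have hS₂ := Presheaf.imageSieve_mem J (toSheafify J (ezPre U G)) (U := op W') x
  rw [map_zero]
  refine (T.property.isSeparated) W' _ hS₂ _ 0 (fun W'' g hg => ?_)
  obtain ⟨y, hy⟩ := hg
  rw [map_zero]
  by_cases hne : Nonempty (W'' ⟶ U)
  · exact hT W'' hne.some _
  · haveI : IsEmpty (W'' ⟶ U) := not_nonempty_iff.1 hne
    haveI : Subsingleton (EZ U G W'') :=
      inferInstanceAs (Subsingleton (DirectSum (W'' ⟶ U) (fun f => G.obj (op (Over.mk f)))))
    have hy0 : y = 0 := Subsingleton.elim (α := EZ U G W'') y 0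
    apply Groth.Agent.LD.CH.app_injective_of_mono φ W''
    rw [map_zero]
    have e1 := NatTrans.naturality_apply φ.hom g.op (T.obj.map f.op s)
    have e2 := NatTrans.naturality_apply φ.hom f.op s
    have e3 := NatTrans.naturality_apply ψ.hom g.op x
    rw [e1, e2, ← hx, ← e3, ← hy, hy0, map_zero, map_zero]

variable (O : Sheaf J CommRingCat.{u}) (U : C)

/-- a submodule, null on `U`, of a quotient of an extension by zero from `U` is zero. -/
theorem isZero_of_null_of_epi (P : Mod (O.over U)) {B T : Mod O} (p : (jS O U).obj P ⟶ B) [Epi p]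
    (ι : T ⟶ B) [Mono ι] (hT : IsNullOn O U T) : IsZero T := by
  rw [IsZero.iff_id_eq_zero]
  apply (SheafOfModules.toSheaf _).map_injective
  ext W s
  have hψ : Epi ((SheafOfModules.toSheaf (ringSh O)).map p) := inferInstance
  have hφ : Mono ((SheafOfModules.toSheaf (ringSh O)).map ι) := inferInstance
  have := @eq_zero_of_null_of_epi C _ J U P.val.presheaf _ _
    ((SheafOfModules.toSheaf (ringSh O)).map p) hψ ((SheafOfModules.toSheaf (ringSh O)).map ι) hφ
    (fun V t x => (ExtSupp.isNullOn_iff O U T).1 hT t x) W.unop s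
  exact this.trans (this.symm ▸ rfl)

lemma isNullOn_of_mono {T B : Mod O} (ι : T ⟶ B) [Mono ι] (hB : IsNullOn O U B) :
    IsNullOn O U T :=
  haveI : Mono ((rS O U).map ι) := inferInstance
  IsZero.of_mono ((rS O U).map ι) hB

variable [HasPushOver O U]

/-- **`M ↦ M/M_U` preserves monomorphisms.** -/
instance quotOn_preservesMono : (quotOn O U).PreservesMonomorphisms where
  preserves {A B} i hi := by
    have w : (extZero O U).map ((restr O U).map i) ≫ epsU O U B = epsU O U A ≫ i :=
      (extZeroAdj O U).counit.naturality i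
    obtain ⟨B'', p, ιK, hp, hι⟩ := exists_epi_mono_of_cokernel_map i (epsU O U A) (epsU O U B)
      ((extZero O U).map ((restr O U).map i)) w
    have hnull : IsNullOn O U (kernel ((quotOn O U).map i)) :=
      isNullOn_of_mono O U (kernel.ι ((quotOn O U).map i)) (ExtSupp.isNullOn_quotOn O U A)
    haveI : Epi ((extZeroIso O U).inv.app ((restr O U).obj B) ≫ p) := epi_comp _ _
    have hK : IsZero (kernel ((quotOn O U).map i)) :=
      @isZero_of_null_of_epi C _ J O U ((restr O U).obj B) B'' _
        ((extZeroIso O U).inv.app ((restr O U).obj B) ≫ p) inferInstance ιK hι hnull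
    exact Preadditive.mono_of_isZero_kernel _ hK

/-- sections with support preserve injective modules. -/
instance sectOn_preservesInjective : (sectOn O U).PreservesInjectiveObjects :=
  Functor.preservesInjectiveObjects_of_adjunction_of_preservesMonomorphisms (quotSectAdj O U)

end Groth.Agent.LD.EZ
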