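import Mathlib
import Groth.Prelude.Def_ToposFin2
import Groth.Agent.Lib.Lead.CechExt.Free
import Groth.Agent.Lib.Lead.KT.Core

/-! # The abelian sheaf `ℤ/ℤ_U` of `ToposFin`. -/

set_option autoImplicit false
universe u
open CategoryTheory Limits Opposite

namespace Groth.Agent.LD.EZ
open Groth.Agent.LD.CE Groth.Agent.LD.KT

variable {C : Type u} [SmallCategory C] (J : GrothendieckTopology C)

/-- sections of the terminal sheaf of sets. -/
noncomputable instance uniqueTop (W : Cᵒᵖ) : Unique ((⊤_ (Sheaf J (Type u))).obj.obj W) :=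
  Types.isTerminalEquivUnique _ (IsTerminal.isTerminalObj
    (sheafToPresheaf J (Type u) ⋙ (evaluation Cᵒᵖ (Type u)).obj W) _ terminalIsTerminal)

/-- maps out of a presheaf with one-element values are sections. -/
def secEquiv (P Q : Cᵒᵖ ⥤ Type u) [∀ W, Unique (P.obj W)] : (P ⟶ Q) ≃ Q.sections where
  toFun φ := ⟨fun W => φ.app W default, fun {W W'} f => by
    rw [← NatTrans.naturality_apply φ f default]
    congr 1
    exact Subsingleton.elim _ _⟩
  invFun s := { app := fun W => TypeCat.ofHom fun _ => s.1 W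
                naturality := fun W W' f => by
                  ext x
                  exact (s.2 f).symm }
  left_inv φ := by
    ext W x
    change φ.app W default = φ.app W x
    congr 1
    exact Subsingleton.elim _ _
  right_inv s := rfl

variable {J}

lemma homEquivR_naturality_left {R R' : Cᵒᵖ ⥤ Type u} (g : R ⟶ R')
    (A : Sheaf J AddCommGrpCat.{u}) (h : ZR J R' ⟶ A) :
    homEquivR R A ((presheafToSheaf J AddCommGrpCat.{u}).map
      (Functor.whiskerRight g AddCommGrpCat.free.{u}) ≫ h) = g ≫ homEquivR R' A h := by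
  simp only [homEquivR, Equiv.trans_apply, Adjunction.homEquiv_naturality_left]
  rfl

lemma sheafifyHomEquiv_apply (R : Cᵒᵖ ⥤ Type u) (G : Sheaf J AddCommGrpCat.{u})
    (φ : ((presheafToSheaf J (Type u)).obj R).obj ⟶ G.obj ⋙ forget AddCommGrpCat.{u}) :
    sheafifyHomEquiv J R G φ = toSheafify J R ≫ φ := by
  rfl

lemma homEquivR_zero_app (R : Cᵒᵖ ⥤ Type u) (A : Sheaf J AddCommGrpCat.{u}) (W : Cᵒᵖ)
    (x : R.obj W) : (homEquivR R A 0).app W x = (0 : A.obj.obj W) := by
  simp only [homEquivR, Equiv.trans_apply, Adjunction.homEquiv_unit, Functor.map_zero, comp_zero]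
  rw [Adjunction.homEquiv_unit]
  simp
  rfl

variable (U : C)

/-- `Hom(ℤ[ε U], A) ≃ A(U)`. -/
noncomputable def epsEquiv (A : Sheaf J AddCommGrpCat.{u}) :
    (ZR J (ToposFin.eps J U).obj ⟶ A) ≃ A.obj.obj (op U) :=
  (homEquivR _ A).trans ((sheafifyHomEquiv J (yoneda.obj U) A).trans yonedaEquiv)

lemma epsEquiv_zero (A : Sheaf J AddCommGrpCat.{u}) : epsEquiv U A 0 = 0 := by
  unfold epsEquiv
  rw [Equiv.trans_apply, Equiv.trans_apply, sheafifyHomEquiv_apply, yonedaEquiv_apply]
  exact homEquivR_zero_app _ A _ _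

/-- the map `ℤ[ε U] ⟶ ℤ[pt]`. -/
noncomputable abbrev zt : ZR J (ToposFin.eps J U).obj ⟶ ZR J (⊤_ (Sheaf J (Type u))).obj :=
  (ToposFin.freeAb J).map (terminal.from (ToposFin.eps J U))

lemma epsEquiv_zt_comp (A : Sheaf J AddCommGrpCat.{u})
    (h : ZR J (⊤_ (Sheaf J (Type u))).obj ⟶ A) :
    epsEquiv U A (zt U ≫ h) = (secEquiv _ _ (homEquivR _ A h)).1 (op U) := by
  have h1 := homEquivR_naturality_left (terminal.from (ToposFin.eps J U)).hom A h
  unfold epsEquiv
  rw [Equiv.trans_apply]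
  erw [h1]
  rw [Equiv.trans_apply, sheafifyHomEquiv_apply, yonedaEquiv_apply]
  change ((homEquivR (⊤_ ToposFin.Sh J).obj A) h).app (op U) _ = ((homEquivR (⊤_ ToposFin.Sh J).obj A) h).app (op U) _
  congr 1
  exact Subsingleton.elim _ _

/-- sections vanishing on `U`. -/
abbrev SecZ (G : Cᵒᵖ ⥤ AddCommGrpCat.{u}) : Type u :=
  {s : (G ⋙ forget AddCommGrpCat.{u}).sections // s.1 (op U) = (0 : G.obj (op U))}

/-- maps out of `ℤ/ℤ_U` are the global sections vanishing on `U`. -/
noncomputable def quotZEquiv (A : Sheaf J AddCommGrpCat.{u}) :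
    (ToposFin.quotZ (ToposFin.eps J U) ⟶ A) ≃ SecZ U A.obj where
  toFun f := ⟨secEquiv _ _ (homEquivR _ A (cokernel.π (zt U) ≫ f)), by
    rw [← epsEquiv_zt_comp, cokernel.condition_assoc, zero_comp, epsEquiv_zero]⟩
  invFun s := cokernel.desc (zt U) ((homEquivR _ A).symm ((secEquiv _ _).symm s.1)) (by
    apply (epsEquiv U A).injective
    rw [epsEquiv_zt_comp, epsEquiv_zero, Equiv.apply_symm_apply, Equiv.apply_symm_apply]
    exact s.2)
  left_inv f := by
    apply coequalizer.hom_ext
    simp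
  right_inv s := by
    apply Subtype.ext
    simp

lemma quotZEquiv_comp {A A' : Sheaf J AddCommGrpCat.{u}}
    (f : ToposFin.quotZ (ToposFin.eps J U) ⟶ A) (g : A ⟶ A') (W : Cᵒᵖ) :
    (quotZEquiv U A' (f ≫ g)).1.1 W = g.hom.app W ((quotZEquiv U A f).1.1 W) := by
  change (homEquivR _ A' (cokernel.π (zt U) ≫ f ≫ g)).app W default = _
  rw [← Category.assoc, homEquivR_comp]
  rfl

lemma isTF_of_iso {F G : Sheaf J AddCommGrpCat.{u}} (e : F ≅ G) (hG : IsTF G) : IsTF F :=
  isTF_of_mono e.hom hG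

lemma eq_zero_of_iso_hom_eq_zero {A B : AddCommGrpCat.{u}} (e : A ≅ B) (x : A)
    (h : e.hom x = 0) : x = 0 := by
  have h2 := congrArg e.inv h
  rwa [Iso.hom_inv_id_apply, map_zero] at h2

lemma tf_cokernel {A B : AddCommGrpCat.{u}} (f : A ⟶ B)
    (hB : ∀ (n : ℕ) (b : B), n ≠ 0 → n • b = 0 → b = 0)
    (h : f = 0 ∨ Function.Surjective f) (n : ℕ) (x : (cokernel f : AddCommGrpCat.{u}))
    (hn : n ≠ 0) (hx : n • x = 0) : x = 0 := by
  obtain rfl | h := h
  · have h1 : (cokernelZeroIsoTarget (X := A) (Y := B)).hom x = 0 := by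
      apply hB n _ hn
      rw [← map_nsmul, hx, map_zero]
    exact eq_zero_of_iso_hom_eq_zero _ x h1
  · obtain ⟨b, rfl⟩ := (AddCommGrpCat.epi_iff_surjective _).1
      (inferInstance : Epi (cokernel.π f)) x
    obtain ⟨a, rfl⟩ := h b
    exact congrArg (fun φ : A ⟶ cokernel f => φ a) (cokernel.condition f)

theorem isTF_quotZ : IsTF (ToposFin.quotZ (ToposFin.eps J U)) := by
  let g : (ToposFin.eps J U).obj ⋙ AddCommGrpCat.free.{u} ⟶
      (⊤_ (Sheaf J (Type u))).obj ⋙ AddCommGrpCat.free.{u} :=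
    Functor.whiskerRight (terminal.from (ToposFin.eps J U)).hom AddCommGrpCat.free
  have e : ToposFin.quotZ (ToposFin.eps J U) ≅
      (presheafToSheaf J AddCommGrpCat.{u}).obj (cokernel g) :=
    (PreservesCokernel.iso (presheafToSheaf J AddCommGrpCat.{u}) g).symm
  refine isTF_of_iso e (isTF_sheafify _ ?_)
  intro W n x hn hx
  let eW := PreservesCokernel.iso ((evaluation Cᵒᵖ AddCommGrpCat.{u}).obj W) g
  have h1 : eW.hom x = 0 := by
    refine tf_cokernel (g.app W) (fun m b hm hb => freeAb_tf _ m hm b hb) ?_ n _ hn ?_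
    · by_cases hK : IsEmpty ((ToposFin.eps J U).obj.obj W)
      · left
        haveI : Subsingleton ((((ToposFin.eps J U).obj ⋙ AddCommGrpCat.free.{u}).obj W :
            AddCommGrpCat.{u})) :=
          inferInstanceAs (Subsingleton (FreeAbelianGroup ((ToposFin.eps J U).obj.obj W)))
        exact (AddCommGrpCat.isZero_of_subsingleton _).eq_of_src _ _
      · right
        rw [not_isEmpty_iff] at hK
        obtain ⟨k⟩ := hK
        intro y
        induction y using FreeAbelianGroup.induction_on with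
        | zero => exact ⟨0, map_zero _⟩
        | of t =>
          refine ⟨FreeAbelianGroup.of k, ?_⟩
          change FreeAbelianGroup.of _ = FreeAbelianGroup.of t
          congr 1
          exact Subsingleton.elim _ _
        | neg t ih =>
          obtain ⟨a, ha⟩ := ih
          exact ⟨-a, by rw [map_neg, ha]; rfl⟩
        | add x y hx hy =>
          obtain ⟨a, ha⟩ := hx
          obtain ⟨b, hb⟩ := hy
          exact ⟨a + b, by rw [map_add, ha, hb]; rfl⟩
    · rw [← map_nsmul]
      erw [hx]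
      exact map_zero _
  exact eq_zero_of_iso_hom_eq_zero eW x h1

end Groth.Agent.LD.EZ
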