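import Mathlib
import Groth.Agent.Lib.Lead.EZ.QuotZ
import Groth.Agent.Lib.Lead.EZ.Supp

/-! # `Hom_O(O/O_U, F) ≃ Hom_ℤ(ℤ/ℤ_U, F)`. -/

set_option autoImplicit false
universe u
open CategoryTheory Limits Opposite

namespace Groth.Agent.LD.EZ
open Groth.Agent.LD.CE Groth.Agent.LD.KT ModSite

variable {C : Type u} [SmallCategory C] {J : GrothendieckTopology C}
  (O : Sheaf J CommRingCat.{u}) (U : C)

lemma restr_map_unit_eq_zero_iff (F : Mod O) (h : unit O ⟶ F) :
    (restr O U).map h = 0 ↔ (F.unitHomEquiv h).val (op U) = 0 := by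
  constructor
  · intro h0
    exact congrArg (fun ψ : (restr O U).obj (unit O) ⟶ (restr O U).obj F =>
      (ψ.val.app (op (Over.mk (𝟙 U)))).hom (1 : (ringSh O).obj.obj (op U))) h0
  · intro h0
    apply (SheafOfModules.toSheaf _).map_injective
    ext Y m
    have hV : (F.unitHomEquiv h).val (op Y.unop.left) = 0 := by
      rw [← PresheafOfModules.sections_property (F.unitHomEquiv h) Y.unop.hom.op]
      erw [h0]
      exact map_zero _
    rw [SheafOfModules.unitHomEquiv_apply_coe] at hV
    change (h.val.app (op Y.unop.left)).hom m = 0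
    let m' : (ringSh O).obj.obj (op Y.unop.left) := m
    have h1 : (h.val.app (op Y.unop.left)).hom m =
        m' • (h.val.app (op Y.unop.left)).hom (1 : (ringSh O).obj.obj (op Y.unop.left)) := by
      rw [← map_smul]
      congr 1
      exact (mul_one m').symm
    have hV' : (h.val.app (op Y.unop.left)).hom (1 : (ringSh O).obj.obj (op Y.unop.left)) =
        (0 : F.val.obj (op Y.unop.left)) := hV
    rw [h1, hV', smul_zero]

/-- maps out of `O/O_U` are the global sections vanishing on `U`. -/
noncomputable def quotUnitEquiv (F : Mod O) :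
    ((quotOn O U).obj (unit O) ⟶ F) ≃ SecZ U (toAb F).obj where
  toFun f := ⟨F.unitHomEquiv (piU O U (unit O) ≫ f), by
    have h1 : epsU O U (unit O) ≫ piU O U (unit O) ≫ f = 0 := by
      rw [← Category.assoc]
      exact (congrArg (· ≫ f) (epsU_piU O U (unit O))).trans zero_comp
    exact (restr_map_unit_eq_zero_iff O U F _).1 ((counit_comp_eq_zero_iff O U _).1 h1)⟩
  invFun s := fromQuot O U (F.unitHomEquiv.symm s.1) (by
    rw [counit_comp_eq_zero_iff, restr_map_unit_eq_zero_iff, Equiv.apply_symm_apply]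
    exact s.2)
  left_inv f := by
    rw [← cancel_epi (piU O U (unit O)), piU_fromQuot, Equiv.symm_apply_apply]
  right_inv s := by
    apply Subtype.ext
    change F.unitHomEquiv (piU O U (unit O) ≫ fromQuot O U (F.unitHomEquiv.symm s.1) _) = s.1
    rw [piU_fromQuot, Equiv.apply_symm_apply]

/-- `Hom_O(O/O_U, F) ≃ Hom_ℤ(ℤ/ℤ_U, F_ab)`. -/
noncomputable def quotCompareEquiv (F : Mod O) :
    ((quotOn O U).obj (unit O) ⟶ F) ≃ (ToposFin.quotZ (ToposFin.eps J U) ⟶ toAb F) :=
  (quotUnitEquiv O U F).trans (quotZEquiv U (toAb F)).symm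

lemma quotCompareEquiv_comp {F F' : Mod O} (ψ : (quotOn O U).obj (unit O) ⟶ F) (g : F ⟶ F') :
    quotCompareEquiv O U F' (ψ ≫ g) =
      quotCompareEquiv O U F ψ ≫ (SheafOfModules.toSheaf (ringSh O)).map g := by
  apply (quotZEquiv U (toAb F')).injective
  unfold quotCompareEquiv
  rw [Equiv.trans_apply, Equiv.apply_symm_apply]
  apply Subtype.ext
  apply Subtype.ext
  funext W
  rw [quotZEquiv_comp, Equiv.trans_apply, Equiv.apply_symm_apply]
  rfl

end Groth.Agent.LD.EZ
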