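import Mathlib
import Groth.Agent.Lib.Lead.EZ.QuotZMod
import Groth.Agent.Lib.Lead.EZ.QuotExact
import Groth.Agent.Lib.Lead.KT.LocalExt
import Groth.Agent.Lib.Lead.GSS.Groth3
import Groth.Agent.Lib.Lead.GSS.Degen

/-! # Spectral sequences for cohomology with supports on a ringed site. -/

set_option autoImplicit false
universe u
open CategoryTheory Limits Opposite Abelian

namespace Groth.Agent.LD.EZ
open Groth.Agent.LD.CE Groth.Agent.LD.KT Groth.Agent.LD.GSS ModSite

variable {C : Type u} [SmallCategory C] {J : GrothendieckTopology C}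

lemma isTF_ZC : IsTF (ZC J) := by
  refine isTF_sheafify _ ?_
  intro W m x hm hx
  have hx' : m • x.down = 0 := congrArg ULift.down hx
  have : x.down = 0 := by
    rcases smul_eq_zero.1 hx' with h | h
    · exact absurd h hm
    · exact h
  exact ULift.ext _ _ this

variable (O : Sheaf J CommRingCat.{u}) (U : C)

/-- enough injectives from injective resolutions. -/
lemma enoughInjectives_of_hasInjectiveResolutions (A : Type*) [Category A] [Abelian A]
    [HasInjectiveResolutions A] : EnoughInjectives A :=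
  ⟨fun X => ⟨⟨(injectiveResolution X).cocomplex.X 0, inferInstance,
    (HomologicalComplex.singleObjXSelf (ComplexShape.up ℕ) 0 X).inv ≫
      (injectiveResolution X).ι.f 0, inferInstance⟩⟩⟩

attribute [local instance] HasDerivedCategory.standard in
/-- `Ext^n_O(O/O_U, M) ≃ Ext^n_ℤ(ℤ/ℤ_U, M)`. -/
theorem nonempty_ext_quotUnit_equiv [HasExt.{u} (Mod O)] [HasInjectiveResolutions (Mod O)]
    (M : Mod O) (n : ℕ) :
    Nonempty (Ext.{u} ((quotOn O U).obj (unit O)) M n ≃+
      Ext.{u} (ToposFin.quotZ (ToposFin.eps J U)) (toAb M) n) := by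
  haveI : PreservesFiniteColimits (SheafOfModules.toSheaf.{u} (ringSh O)) :=
    PreservesColimitsOfSize.preservesFiniteColimits _
  haveI : PreservesLimitsOfSize.{u, u} (SheafOfModules.toSheaf.{u} (ringSh O)) :=
    (Ladj (ringSh O)).rightAdjoint_preservesLimits
  haveI : PreservesFiniteLimits (SheafOfModules.toSheaf.{u} (ringSh O)) :=
    PreservesLimitsOfSize.preservesFiniteLimits _
  haveI : (SheafOfModules.toSheaf.{u} (ringSh O)).PreservesHomology := inferInstance
  refine nonempty_ext_equiv_of_exact (SheafOfModules.toSheaf (ringSh O)) _ _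
    (homFIsoOfEquiv (SheafOfModules.toSheaf (ringSh O)) (quotCompareEquiv O U)
      (fun M M' ψ g => quotCompareEquiv_comp O U ψ g))
    (fun Q hQ k => ?_) M n
  haveI := hQ
  exact subsingleton_ext_toSheaf_of_injective (ringSh O) Q _ (isTF_quotZ U) k

variable [HasPushOver O U]

/-- `Hom_O(O/O_U, F) ≃ Γ(Γ_Z F)`. -/
noncomputable def quotSectGlobalEquiv (F : Mod O) :
    ((quotOn O U).obj (unit O) ⟶ F) ≃
      (ZC J ⟶ (sectOn O U ⋙ SheafOfModules.toSheaf (ringSh O)).obj F) :=
  ((quotSectAdj O U).homEquiv (unit O) F).trans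
    (unitEquiv J (ringSh O) ((sectOn O U).obj F))

lemma quotSectGlobalEquiv_comp {F F' : Mod O} (ψ : (quotOn O U).obj (unit O) ⟶ F) (g : F ⟶ F') :
    quotSectGlobalEquiv O U F' (ψ ≫ g) =
      quotSectGlobalEquiv O U F ψ ≫ (sectOn O U ⋙ SheafOfModules.toSheaf (ringSh O)).map g := by
  simp only [quotSectGlobalEquiv, Equiv.trans_apply]
  rw [Functor.comp_map, ← unitEquiv_comp, ← Adjunction.homEquiv_naturality_right]

attribute [local instance] HasDerivedCategory.standard in
/-- the spectral sequence `H^p(C, ℋ^q_Z(M)) ⇒ H^{p+q}_Z(M)`. -/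
theorem exists_ss_HC_HZsh [HasInjectiveResolutions (Mod O)] (M : Mod O) :
    ∃ (E : E₂CohomologicalSpectralSequence AddCommGrpCat.{u})
      (a : SpSeq.Abutment E (fun n : ℤ =>
        if 0 ≤ n then AddCommGrpCat.of (ModSite.HZ U M n.toNat)
          else AddCommGrpCat.of PUnit.{u + 1})),
      (∀ n : ℤ, a.IsFinite n) ∧ SpSeq.IsBounded E ∧
      ∀ p q : ℤ, Nonempty ((E.page 2 le_rfl).X (p, q) ≅
        (if 0 ≤ p ∧ 0 ≤ q then
          AddCommGrpCat.of (ModSite.HC O ((ModSite.HZsh O U q.toNat).obj M) p.toNat)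
          else AddCommGrpCat.of PUnit.{u + 1})) := by
  haveI := enoughInjectives_of_hasInjectiveResolutions (Mod O)
  haveI : HasExt.{u} (Mod O) := hasExt_of_enoughInjectives.{u} (Mod O)
  have hz : IsZero (AddCommGrpCat.of PUnit.{u + 1}) := by
    rw [IsZero.iff_id_eq_zero]
    ext x
  haveI : PreservesFiniteColimits (SheafOfModules.toSheaf.{u} (ringSh O)) :=
    PreservesColimitsOfSize.preservesFiniteColimits _
  haveI : PreservesLimitsOfSize.{u, u} (SheafOfModules.toSheaf.{u} (ringSh O)) :=
    (Ladj (ringSh O)).rightAdjoint_preservesLimits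
  haveI : PreservesFiniteLimits (SheafOfModules.toSheaf.{u} (ringSh O)) :=
    PreservesLimitsOfSize.preservesFiniteLimits _
  haveI : (SheafOfModules.toSheaf.{u} (ringSh O)).PreservesHomology := inferInstance
  exact exists_gss'' (sectOn O U ⋙ SheafOfModules.toSheaf (ringSh O)) (ZC J)
    ((quotOn O U).obj (unit O))
    (homFIsoOfEquiv (sectOn O U ⋙ SheafOfModules.toSheaf (ringSh O)) (quotSectGlobalEquiv O U)
      (fun F F' ψ g => quotSectGlobalEquiv_comp O U ψ g))
    (fun Q hQ k => by
      haveI := hQ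
      exact subsingleton_ext_toSheaf_of_injective (ringSh O) ((sectOn O U).obj Q) _ isTF_ZC k)
    M (fun q => toAb ((ModSite.HZsh O U q).obj M))
    (fun q => ⟨rightDerivedObjCompIso (sectOn O U) (SheafOfModules.toSheaf (ringSh O)) M q⟩)
    (fun n => AddCommGrpCat.of (ModSite.HZ U M n))
    (fun n => ⟨(Classical.choice (nonempty_ext_quotUnit_equiv O U M n)).toAddCommGrpIso⟩)
    _ _ hz hz

end Groth.Agent.LD.EZ
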