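import Mathlib
import Groth.Agent.Lib.Lead.EZ.HomFree
import Groth.Agent.Lib.Lead.EZ.HomLoc
import Groth.Agent.Lib.Lead.EZ.ExtShLoc
import Groth.Agent.Lib.Lead.QC.SuppPullback
import Groth.Agent.Lib.Lead.SC.ClosedEmb
import Groth.Agent.Lib.Lead.EZ.SuppSS
import Groth.Prelude.Def_FlatMod2

/-! # The internal hom out of a finite locally free module on a scheme is exact. -/

set_option autoImplicit false
universe u
open CategoryTheory Limits Opposite AlgebraicGeometry TopologicalSpace

namespace Groth.Agent.LD.EZ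
open Groth.Agent.LD.MS Groth.Agent.LD.QC

variable {X : Scheme.{u}}

lemma sheafOfModules_section_eq_zero {C : Type*} [Category C] {J : GrothendieckTopology C}
    {R : Sheaf J RingCat.{u}} (N : SheafOfModules.{u} R) (h : IsZero N) (V : Cᵒᵖ)
    (s : N.val.obj V) : s = 0 := by
  have h1 : 𝟙 N = 0 := (IsZero.iff_id_eq_zero N).mp h
  have h2 := congr($(h1).val.app V s)
  exact h2

/-- a module vanishing on the slices of an open cover is zero. -/
theorem isZero_of_isZero_restr (M : X.Modules)
    (h : ∀ x : X, ∃ U : X.Opens, x ∈ U ∧ IsZero ((rS X.sheaf U).obj M)) : IsZero M := by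
  apply isZero_of_forall_sections
  intro W s
  apply section_eq_zero_of_germ
  intro x hx
  obtain ⟨U, hxU, hU⟩ := h x
  have h0 : M.presheaf.map (homOfLE (inf_le_left : W ⊓ U ≤ W)).op s = 0 :=
    sheafOfModules_section_eq_zero _ hU (op (Over.mk (homOfLE (inf_le_right : W ⊓ U ≤ U)))) _
  have h1 := TopCat.Presheaf.germ_res_apply M.presheaf (homOfLE (inf_le_left : W ⊓ U ≤ W)) x
    ⟨hx, hxU⟩ s
  rw [← h1, h0, map_zero]

/-- a morphism which is an epimorphism on the slices of an open cover is an epimorphism. -/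
theorem epi_of_epi_restr {M N : X.Modules} (φ : M ⟶ N)
    (h : ∀ x : X, ∃ U : X.Opens, x ∈ U ∧ Epi ((rS X.sheaf U).map φ)) : Epi φ := by
  have hz : IsZero (cokernel φ) := by
    apply isZero_of_isZero_restr
    intro x
    obtain ⟨U, hxU, hU⟩ := h x
    refine ⟨U, hxU, ?_⟩
    have e : (rS X.sheaf U).obj (cokernel φ) ≅ cokernel ((rS X.sheaf U).map φ) :=
      PreservesCokernel.iso (rS X.sheaf U) φ
    exact IsZero.of_iso (isZero_cokernel_of_epi _) e
  exact Preadditive.epi_of_isZero_cokernel φ hz

/-- a free restriction gives a free localisation. -/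
noncomputable def restrFreeIso (E : X.Modules) (U : X.Opens) (n : ℕ)
    (e : E.restrict U.ι ≅ FlatMod.freeMod (↑U) n) :
    (rS X.sheaf U).obj E ≅ ∐ fun _ : Fin n => ModSite.unit (X.sheaf.over U) :=
  ((Scheme.Modules.overEquiv U).unitIso.app _) ≪≫
    (Scheme.Modules.overEquiv U).inverse.mapIso
      ((Scheme.Modules.overFunctorEquiv U).app E ≪≫ e) ≪≫
    PreservesCoproduct.iso (Scheme.Modules.overEquiv U).inverse _ ≪≫
    Sigma.mapIso (fun _ => Opens.sheafOfModulesEquivOverInverseUnit U X.ringCatSheaf)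

/-- **the internal hom out of a finite locally free module preserves epimorphisms.** -/
theorem sheafHom_preservesEpi_of_isFinLocFree (E : X.Modules) (hE : FlatMod.IsFinLocFree E)
    [ModSite.HasSheafHom (O := X.sheaf) E] :
    (ModSite.sheafHom (O := X.sheaf) E).PreservesEpimorphisms := by
  constructor
  intro G G' φ hφ
  apply epi_of_epi_restr
  intro x
  obtain ⟨U, n, hxU, ⟨e⟩⟩ := hE x
  refine ⟨U, hxU, ?_⟩
  haveI := hasSheafHom ((ModSite.restr X.sheaf U).obj E)
  haveI := sheafHom_preservesEpi_of_iso_free (X.sheaf.over U) (Fin n) (restrFreeIso E U n e)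
  haveI : Epi ((rS X.sheaf U).map φ) := inferInstance
  have h1 : Epi ((rS X.sheaf U ⋙ ModSite.sheafHom ((ModSite.restr X.sheaf U).obj E)).map φ) := by
    rw [Functor.comp_map]
    infer_instance
  have h2 := NatIso.naturality_2 (sheafHomRestrIso X.sheaf U E) φ
  have h3 : (rS X.sheaf U).map ((ModSite.sheafHom (O := X.sheaf) E).map φ) = _ := h2.symm
  rw [h3]
  haveI := h1
  exact epi_comp _ _

/-- **vanishing of the local Ext sheaves of a finite locally free module.** -/
theorem isZero_extSh_of_isFinLocFree (E : X.Modules) (hE : FlatMod.IsFinLocFree E)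
    [ModSite.HasSheafHom (O := X.sheaf) E] [HasInjectiveResolutions (ModSite.Mod X.sheaf)]
    (q : ℕ) (G : X.Modules) :
    IsZero ((ModSite.extSh (O := X.sheaf) E (q + 1)).obj G) := by
  haveI := sheafHom_preservesEpi_of_isFinLocFree E hE
  haveI : PreservesFiniteLimits (ModSite.sheafHom (O := X.sheaf) E) :=
    haveI : PreservesLimitsOfSize.{0, 0} (ModSite.sheafHom (O := X.sheaf) E) :=
      (ModSite.sheafHomAdj (O := X.sheaf) E).rightAdjoint_preservesLimits
    PreservesLimitsOfSize.preservesFiniteLimits _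
  haveI : EnoughInjectives (ModSite.Mod X.sheaf) :=
    enoughInjectives_of_hasInjectiveResolutions _
  exact Groth.Agent.LD.SC.isZero_rightDerived_succ_of_preservesEpi
    (ModSite.sheafHom (O := X.sheaf) E) G q

end Groth.Agent.LD.EZ
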