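import Mathlib
import Groth.Agent.S11919
import Groth.Agent.Lib.Lead.EZ.HomLocFree
import Groth.Agent.Lib.Lead.SS.Abut
import Groth.Agent.Lib.Lead.MS.Flat2
import Groth.Agent.Lib.Lead.KS.Chase
import Groth.Prelude.Def_DCoh4

/-! # Global Ext out of a finite locally free module is cohomology of the internal hom. -/

set_option autoImplicit false
universe u
open CategoryTheory Limits Opposite AlgebraicGeometry TopologicalSpace
open scoped ZeroObject

namespace Groth.Agent.LD.EZ
open Groth.Agent.LD.MS Groth.Agent.LD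

variable {X : Scheme.{u}}

/-- isomorphic modules have isomorphic cohomology. -/
noncomputable def HHaddEquivOfIso {M N : X.Modules} (e : M ≅ N) (i : ℕ) :
    Coh.HH X M i ≃+ Coh.HH X N i where
  toFun := CL.HHmapZ e.hom i
  invFun := CL.HHmapZ e.inv i
  left_inv x := by rw [← CL.HHmapZ_comp, Iso.hom_inv_id, CL.HHmapZ_id]
  right_inv x := by rw [← CL.HHmapZ_comp, Iso.inv_hom_id, CL.HHmapZ_id]
  map_add' := map_add _

/-- the two internal homs (right adjoint of `- ⊗ A`, right adjoint of `A ⊗ -`) agree. -/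
noncomputable def sheafHomDCohIso (A : X.Modules) [ModSite.HasSheafHom (O := X.sheaf) A]
    [DCoh.HasSheafHom A] : ModSite.sheafHom (O := X.sheaf) A ≅ DCoh.sheafHom A :=
  ((ModSite.sheafHomAdj (O := X.sheaf) A).ofNatIsoLeft
    (braidIso (O := X.sheaf) A).symm).rightAdjointUniq (DCoh.sheafHomAdj A)

theorem nonempty_ext_addEquiv_HH_sheafHom [HasExt.{u} X.Modules]
    (A B : X.Modules) (hA : FlatMod.IsFinLocFree A) [DCoh.HasSheafHom A] (p : ℕ) :
    Nonempty (Abelian.Ext A B p ≃+ Coh.HH X ((DCoh.sheafHom A).obj B) p) := by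
  haveI : ModSite.HasSheafHom (O := X.sheaf) A := hasSheafHom _
  haveI := Groth.Agent.H1.sheafOfModules_isGrothendieckAbelian
    (Opens.grothendieckTopology X) X.ringCatSheaf
  haveI : EnoughInjectives (ModSite.Mod X.sheaf) :=
    inferInstanceAs (EnoughInjectives (SheafOfModules.{u} X.ringCatSheaf))
  haveI : HasInjectiveResolutions (ModSite.Mod X.sheaf) := inferInstance
  obtain ⟨E, a, hfin, -, hE2⟩ := Groth.Agent.S11919.result X A B
  have hdeg : ∀ m q' : ℤ, q' ≠ 0 → IsZero ((E.page 2 le_rfl).X (m - q', q')) := by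
    intro m q' hq'
    obtain ⟨e⟩ := hE2 (m - q') q'
    refine IsZero.of_iso ?_ e
    by_cases hc : 0 ≤ m - q' ∧ 0 ≤ q'
    · rw [if_pos hc]
      obtain ⟨k, hk⟩ : ∃ k : ℕ, q'.toNat = k + 1 := ⟨q'.toNat - 1, by omega⟩
      rw [hk]
      haveI := CL.subsingleton_HH_of_isZero (isZero_extSh_of_isFinLocFree A hA k B)
        (m - q').toNat
      exact AddCommGrpCat.isZero_of_subsingleton _
    · rw [if_neg hc]
      exact isZero_zero _
  have hst : SpSeq.StationaryAt E ((p : ℤ) - 0, 0) 2 := by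
    refine ⟨le_rfl, fun r' h₀ hr' => ⟨?_, ?_⟩⟩
    · refine IsZero.eq_of_src (SS.isZero_page_of_le E 2 le_rfl _ ?_ r' hr') _ _
      have := hdeg ((p : ℤ) - 1) (r' - 1) (by omega)
      have e : (((p : ℤ) - 1) - (r' - 1), r' - 1) = ((p : ℤ) - 0, 0) - (r', 1 - r') := by
        ext <;> simp <;> omega
      rwa [e] at this
    · refine IsZero.eq_of_tgt (SS.isZero_page_of_le E 2 le_rfl _ ?_ r' hr') _ _
      have := hdeg ((p : ℤ) + 1) (1 - r') (by omega)
      have e : (((p : ℤ) + 1) - (1 - r'), 1 - r') = ((p : ℤ) - 0, 0) + (r', 1 - r') := by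
        ext <;> simp <;> omega
      rwa [e] at this
  have hexh : a.IsExhaustive (p : ℤ) := by
    obtain ⟨b, hb⟩ := (hfin (p : ℤ)).1
    exact ⟨fun _ _ => le_top, fun c hc => hb ▸ hc ⟨b, rfl⟩⟩
  obtain ⟨e1⟩ := SS.nonempty_iso_of_single E a 2 le_rfl (fun _ => 0) hdeg (p : ℤ)
    (hfin (p : ℤ)).2 hexh hst
  obtain ⟨e2⟩ := hE2 ((p : ℤ) - 0) 0
  have e3 := e1 ≪≫ e2
  rw [if_pos (by omega), if_pos (by omega)] at e3
  simp only [Int.toNat_natCast, Int.toNat_zero] at e3
  have e4 : Abelian.Ext A B p ≃+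
      Coh.HH X ((ModSite.extSh (O := X.sheaf) A 0).obj B) p := e3.addCommGroupIsoToAddEquiv
  haveI : PreservesFiniteLimits (ModSite.sheafHom (O := X.sheaf) A) :=
    haveI : PreservesLimitsOfSize.{0, 0} (ModSite.sheafHom (O := X.sheaf) A) :=
      (ModSite.sheafHomAdj (O := X.sheaf) A).rightAdjoint_preservesLimits
    PreservesLimitsOfSize.preservesFiniteLimits _
  let e5 : (ModSite.extSh (O := X.sheaf) A 0).obj B ≅ (DCoh.sheafHom A).obj B :=
    (ModSite.sheafHom (O := X.sheaf) A).rightDerivedZeroIsoSelf.app B ≪≫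
      (sheafHomDCohIso A).app B
  exact ⟨e4.trans (HHaddEquivOfIso e5 p)⟩

end Groth.Agent.LD.EZ
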