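import Mathlib
import Groth.Prelude.Def_Formal
import Groth.Prelude.Def_KLin
import Groth.Agent.Lib.Lead.MS.Flat

/-! # Multiplication by a global function is preserved by tensor products and internal homs. -/

set_option autoImplicit false
universe u
open CategoryTheory Limits Opposite MonoidalCategory AlgebraicGeometry TopologicalSpace

namespace Groth.Agent.LD.EZ
open Groth.Agent.LD.MS

variable {X : Scheme.{u}}

/-- the restriction of a global function, in the ring acting on presheaves of modules. -/
noncomputable abbrev resP (r : Coh.Γtop X) (U : (Opens X)ᵒᵖ) :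
    (X.sheaf.obj ⋙ forget₂ CommRingCat.{u} RingCat.{u}).obj U := Coh.resTop X U r

lemma resP_comp (r : Coh.Γtop X) (U V : (Opens X)ᵒᵖ) (f : U ⟶ V) :
    ((X.sheaf.obj ⋙ forget₂ CommRingCat.{u} RingCat.{u}).map f).hom (resP r U) = resP r V :=
  Coh.resTop_comp U V f r

/-- multiplication by a global function on a presheaf of modules. -/
noncomputable def smulP (P : PMod X.sheaf) (r : Coh.Γtop X) : P ⟶ P :=
  PresheafOfModules.homMk
    { app := fun U => AddCommGrpCat.ofHom (DistribSMul.toAddMonoidHom (P.obj U) (resP r U))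
      naturality := by
        intro U V f
        ext m
        change resP r V • (P.map f).hom m = (P.map f).hom (resP r U • m)
        rw [← resP_comp r U V f]
        exact (P.map_smul f (resP r U) m).symm }
    (by
      intro U s m
      change resP r U • (s • m) = s • (resP r U • m)
      rw [← mul_smul, ← mul_smul]
      congr 1
      exact @mul_comm Γ(X, Opposite.unop U) _ (Coh.resTop X U r) s)

lemma smulP_app_apply (P : PMod X.sheaf) (r : Coh.Γtop X) (U : (Opens X)ᵒᵖ) (m : P.obj U) :
    ((smulP P r).app U).hom m = resP r U • m := rfl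

lemma smulP_naturality {P Q : PMod X.sheaf} (φ : P ⟶ Q) (r : Coh.Γtop X) :
    φ ≫ smulP Q r = smulP P r ≫ φ := by
  ext U m
  change resP r U • (φ.app U).hom m = (φ.app U).hom (resP r U • m)
  exact ((φ.app U).hom.map_smul (resP r U) m).symm

lemma smulP_whiskerRight (P Q : PMod X.sheaf) (r : Coh.Γtop X) :
    smulP P r ▷ Q = smulP (P ⊗ Q) r := by
  ext U : 1
  rw [PresheafOfModules.whiskerRight_app]
  apply ModuleCat.MonoidalCategory.tensor_ext
  intro m n
  rw [ModuleCat.MonoidalCategory.whiskerRight_apply]
  rfl

lemma incl_map_smulModΓ (M : X.Modules) (r : Coh.Γtop X) :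
    (incl X.sheaf).map (Formal.smulModΓ M r) = smulP ((incl X.sheaf).obj M) r := rfl

lemma shf_map_smulP (P : PMod X.sheaf) (r : Coh.Γtop X) :
    (shf X.sheaf).map (smulP P r) = Formal.smulModΓ ((shf X.sheaf).obj P) r := by
  apply ((sadj' X.sheaf).homEquiv P _).injective
  rw [Adjunction.homEquiv_unit, Adjunction.homEquiv_unit, incl_map_smulModΓ]
  exact ((sadj' X.sheaf).unit.naturality (smulP P r)).symm.trans
    (smulP_naturality ((sadj' X.sheaf).unit.app P) r).symm

lemma flip_map_smulModΓ (F N : X.Modules) (r : Coh.Γtop X) :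
    ((ModSite.tensorBi X.sheaf).flip.obj F).map (Formal.smulModΓ N r) =
      Formal.smulModΓ (((ModSite.tensorBi X.sheaf).flip.obj F).obj N) r := by
  change (shf X.sheaf).map ((incl X.sheaf).map (Formal.smulModΓ N r) ▷ (incl X.sheaf).obj F) = _
  rw [incl_map_smulModΓ, smulP_whiskerRight, shf_map_smulP]
  rfl

/-- the internal hom commutes with the multiplication by a global function. -/
theorem sheafHom_map_smulModΓ (F B : X.Modules) [ModSite.HasSheafHom (O := X.sheaf) F]
    (r : Coh.Γtop X) :
    (ModSite.sheafHom (O := X.sheaf) F).map (Formal.smulModΓ B r) =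
      Formal.smulModΓ ((ModSite.sheafHom (O := X.sheaf) F).obj B) r := by
  apply ((ModSite.sheafHomAdj (O := X.sheaf) F).homEquiv _ _).symm.injective
  rw [Adjunction.homEquiv_counit, Adjunction.homEquiv_counit, flip_map_smulModΓ]
  exact ((ModSite.sheafHomAdj (O := X.sheaf) F).counit.naturality (Formal.smulModΓ B r)).trans
    (KLin.comp_smulModΓ ((ModSite.sheafHomAdj (O := X.sheaf) F).counit.app B) r)

end Groth.Agent.LD.EZ
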