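import Mathlib
import Groth.Agent.Lib.Lead.EZ.Proj
import Groth.Agent.Lib.Lead.EZ.ExtShLoc
import Groth.Agent.Lib.Lead.SC.FunSES
import Groth.Agent.Lib.Lead.SC.MapResNat

/-! # `ℋ^q_Z` on a ringed site for a subterminal `U`: `ℋ¹_Z = coker(id → j_*j^*)`, `ℋ^{q+1}_Z = R^q j_* j^*`. -/

set_option autoImplicit false
universe u
open CategoryTheory Limits Opposite

namespace Groth.Agent.LD.EZ
open Groth.Agent.LD.AbPull Groth.Agent.LD.SC

open scoped Classical in
lemma toAddMonoid_injective_of_subsingleton {ι : Type*} [Subsingleton ι] {β : ι → Type*}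
    [∀ i, AddCommMonoid (β i)] {γ : Type*} [AddCommMonoid γ] (φ : ∀ i, β i →+ γ)
    (hφ : ∀ i, Function.Injective (φ i)) :
    Function.Injective (DirectSum.toAddMonoid φ) := by
  intro x y hxy
  rcases isEmpty_or_nonempty ι with h | ⟨⟨i⟩⟩
  · exact Subsingleton.elim _ _
  · have hx : ∀ z : DirectSum ι β, z = DirectSum.of β i (z i) := by
      intro z
      refine DFinsupp.ext (fun j => ?_)
      obtain rfl := Subsingleton.elim i j
      exact (DirectSum.of_eq_same i (z i)).symm
    rw [hx x, hx y, DirectSum.toAddMonoid_of, DirectSum.toAddMonoid_of] at hxy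
    rw [hx x, hx y, hφ i hxy]

section Pre
variable {C : Type u} [SmallCategory C] {X : C} {R₀ : Cᵒᵖ ⥤ RingCat.{u}}

lemma ezModAdj_counit_app (H : PresheafOfModules.{u} R₀) :
    (ezModAdj X R₀).counit.app H = (ezModHomEquiv _ H).symm (𝟙 _) := by
  rw [← Adjunction.homEquiv_symm_id]
  unfold ezModAdj
  rw [Adjunction.mkOfHomEquiv_homEquiv]

open scoped Classical in
lemma mono_ezModAdj_counit_app (hX : ∀ V : C, Subsingleton (V ⟶ X))
    (H : PresheafOfModules.{u} R₀) : Mono ((ezModAdj X R₀).counit.app H) := by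
  apply (PresheafOfModules.toPresheaf R₀).mono_of_mono_map
  haveI : ∀ V, Mono (((PresheafOfModules.toPresheaf R₀).map
      ((ezModAdj X R₀).counit.app H)).app V) := fun V => by
    rw [AddCommGrpCat.mono_iff_injective, ezModAdj_counit_app]
    change Function.Injective (ezDesc X (abOf (𝟙 ((jresMod X R₀).obj H))) V.unop)
    unfold ezDesc
    haveI := hX V.unop
    exact toAddMonoid_injective_of_subsingleton _ (fun f => Function.injective_id)
  exact NatTrans.mono_of_mono_app _

end Pre

section Abstract

universe v₁ v₂ u₁ u₂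
variable {A : Type u₁} [Category.{v₁} A] {B : Type u₂} [Category.{v₂} B]
  {L : B ⥤ A} {F : A ⥤ B} {R : B ⥤ A} (adj1 : L ⊣ F) (adj2 : F ⊣ R)

/-- for `L ⊣ F ⊣ R`, if the counit `L F M ⟶ M` is mono at `M = R F I` and `I` is injective,
then the unit `I ⟶ R F I` is a split epimorphism. -/
lemma unit_comp_eq_id_of_mono_counit (I : A) [Injective I]
    [Mono (adj1.counit.app (R.obj (F.obj I)))] :
    ∃ k : R.obj (F.obj I) ⟶ I, k ≫ adj2.unit.app I = 𝟙 _ := by
  let M := R.obj (F.obj I)
  let g : F.obj M ⟶ F.obj I := adj2.counit.app (F.obj I)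
  let g' : L.obj (F.obj M) ⟶ I := L.map g ≫ adj1.counit.app I
  refine ⟨Injective.factorThru g' (adj1.counit.app M), ?_⟩
  have hk : adj1.counit.app M ≫ Injective.factorThru g' (adj1.counit.app M) = g' :=
    Injective.comp_factorThru _ _
  apply (adj2.homEquiv M (F.obj I)).symm.injective
  rw [Adjunction.homEquiv_counit, Adjunction.homEquiv_counit, F.map_comp, Category.assoc,
    adj2.left_triangle_components, Category.comp_id, F.map_id, Category.id_comp]
  apply (adj1.homEquiv (F.obj M) I).symm.injective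
  rw [Adjunction.homEquiv_counit, Adjunction.homEquiv_counit]
  have := adj1.counit.naturality (Injective.factorThru g' (adj1.counit.app M))
  simp only [Functor.comp_map, Functor.id_map] at this
  rw [this]
  exact hk

lemma epi_unit_app_of_mono_counit (I : A) [Injective I]
    [Mono (adj1.counit.app (R.obj (F.obj I)))] : Epi (adj2.unit.app I) := by
  obtain ⟨k, hk⟩ := unit_comp_eq_id_of_mono_counit adj1 adj2 I
  exact epi_of_epi_fac hk

end Abstract

section Sh
variable {C : Type u} [SmallCategory C] {J : GrothendieckTopology C} (R : Sheaf J RingCat.{u})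
  (X : C)

lemma mono_ezModShAdj_counit_app (hX : ∀ V : C, Subsingleton (V ⟶ X))
    (M : SheafOfModules.{u} R) : Mono ((ezModShAdj R X).counit.app M) := by
  rw [show (ezModShAdj R X).counit.app M =
    (𝟭 (SheafOfModules.{u} R)).map ((ezModShAdj R X).counit.app M) from rfl]
  unfold ezModShAdj
  rw [Adjunction.map_restrictFullyFaithful_counit_app, Adjunction.comp_counit_app]
  haveI := mono_ezModAdj_counit_app (X := X) hX
    ((SheafOfModules.forget R ⋙ PresheafOfModules.restrictScalars (𝟙 R.obj)).obj
      ((𝟭 (SheafOfModules.{u} R)).obj M))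
  have h2 : PreservesFiniteLimits (PresheafOfModules.sheafification.{u} (𝟙 R.obj)) := inferInstance
  haveI : (PresheafOfModules.sheafification.{u} (𝟙 R.obj)).PreservesMonomorphisms :=
    preservesMonomorphisms_of_preservesLimitsOfShape _
  haveI : IsIso ((PresheafOfModules.sheafificationAdjunction (𝟙 R.obj)).counit.app
      ((𝟭 (SheafOfModules.{u} R)).obj M)) := by
    infer_instance
  refine @mono_comp _ _ _ _ _ _ inferInstance _ (@mono_comp _ _ _ _ _ _ inferInstance _ ?_)
  exact mono_comp _ _

end Sh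

section Site

variable {C : Type u} [SmallCategory C] {J : GrothendieckTopology C}
  (O : Sheaf J CommRingCat.{u}) (U : C) [ModSite.HasPushOver O U]

/-- `j_* j^*`. -/
noncomputable abbrev G3 : ModSite.Mod O ⥤ ModSite.Mod O :=
  ModSite.restr O U ⋙ ModSite.pushOver O U

lemma epi_unit_app (hU : ∀ V : C, Subsingleton (V ⟶ U)) (I : ModSite.Mod O) [Injective I] :
    Epi ((ModSite.restrPushOverAdj O U).unit.app I) :=
  haveI := mono_ezModShAdj_counit_app (ModSite.ringSh O) U hU
    ((ModSite.pushOver O U).obj ((ModSite.restr O U).obj I))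
  epi_unit_app_of_mono_counit (jrAdj O U) (ModSite.restrPushOverAdj O U) I

lemma wS : ModSite.sectOnι O U ≫ (ModSite.restrPushOverAdj O U).unit = 0 := by
  ext F : 2
  exact kernel.condition _

lemma shortExact_S (hU : ∀ V : C, Subsingleton (V ⟶ U)) (I : ModSite.Mod O) (hI : Injective I) :
    (ShortComplex.mk ((ModSite.sectOnι O U).app I) ((ModSite.restrPushOverAdj O U).unit.app I)
      (FunSES.app_comp_app (ModSite.sectOnι O U) (ModSite.restrPushOverAdj O U).unit
        (wS O U) I)).ShortExact := by
  haveI : Mono ((ModSite.sectOnι O U).app I) :=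
    inferInstanceAs (Mono (kernel.ι ((ModSite.restrPushOverAdj O U).unit.app I)))
  haveI : Epi ((ModSite.restrPushOverAdj O U).unit.app I) := epi_unit_app O U hU I
  exact { exact := ShortComplex.exact_of_f_is_kernel _ (kernelIsKernel _) }

variable [(ModSite.pushOver O U).Additive]

instance : (G3 O U).Additive := by
  haveI : (ModSite.restr O U).Additive := rS_additive O U
  infer_instance


variable [HasInjectiveResolutions (ModSite.Mod O)]

instance : PreservesFiniteLimits (G3 O U) := by
  haveI : PreservesLimits (ModSite.pushOver O U) :=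
    (ModSite.restrPushOverAdj O U).rightAdjoint_preservesLimits
  haveI : PreservesFiniteLimits (ModSite.pushOver O U) := inferInstance
  haveI : PreservesFiniteLimits (ModSite.restr O U) := rS_preservesFiniteLimits O U
  exact comp_preservesFiniteLimits _ _

omit [ModSite.HasPushOver O U] [(ModSite.pushOver O U).Additive] in
lemma isZero_rightDerived_idS (n : ℕ) (F : ModSite.Mod O) :
    IsZero (((𝟭 (ModSite.Mod O)).rightDerived (n + 1)).obj F) :=
  FunSES.isZero_rightDerived_succ_of_exact (𝟭 (ModSite.Mod O)) n F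

/-- `ℋ¹_Z ≅ coker (id ⟶ j_* j^*)` for `U` subterminal. -/
noncomputable def HZshOneIsoS (hU : ∀ V : C, Subsingleton (V ⟶ U)) :
    ModSite.HZsh O U 1 ≅ cokernel (ModSite.restrPushOverAdj O U).unit :=
  (FunSES.cokerIso (ModSite.sectOnι O U) (ModSite.restrPushOverAdj O U).unit (wS O U)
    (shortExact_S O U hU) (fun F => isZero_rightDerived_idS O 0 F)).symm

/-- `ℋ^{q+1}_Z ≅ j^* ⋙ R^q j_*` for `q ≥ 1`, `U` subterminal. -/
noncomputable def HZshSuccIsoS (hU : ∀ V : C, Subsingleton (V ⟶ U))
    [HasInjectiveResolutions (ModSite.Mod (O.over U))] (k : ℕ) :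
    ModSite.HZsh O U (k + 1 + 1) ≅
      ModSite.restr O U ⋙ (ModSite.pushOver O U).rightDerived (k + 1) :=
  (FunSES.δIso (ModSite.sectOnι O U) (ModSite.restrPushOverAdj O U).unit (wS O U)
      (shortExact_S O U hU) (k + 1)
      (fun F => isZero_rightDerived_idS O k F) (fun F => isZero_rightDerived_idS O (k + 1) F)).symm ≪≫
    (rightDerivedCompNatIso (ModSite.restr O U) (ModSite.pushOver O U) (G3 O U)
      (Iso.refl _) (k + 1)).symm

end Site

end Groth.Agent.LD.EZ
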