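import Mathlib
import Groth.Agent.Lib.Lead.EZ.Restr

/-! # Restriction of `𝒪_X`-modules to an open subscheme: exactness and injectives (P1). -/

set_option autoImplicit false
universe u
open CategoryTheory Limits AlgebraicGeometry

namespace Groth.Agent.LD.EZ

variable {X : Scheme.{u}}

lemma preservesInjectiveObjects_of_iso {A B : Type*} [Category A] [Category B]
    {F G : A ⥤ B} (e : F ≅ G) [F.PreservesInjectiveObjects] : G.PreservesInjectiveObjects where
  injective_obj {I} hI := by
    haveI := hI
    haveI : Injective (F.obj I) := Functor.injective_obj F I
    exact Injective.of_iso (e.app I) inferInstance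

instance preservesInjectiveObjects_equivalence {A B : Type*} [Category A] [Category B]
    (e : A ≌ B) : e.functor.PreservesInjectiveObjects :=
  Functor.preservesInjectiveObjects_of_adjunction_of_preservesMonomorphisms e.symm.toAdjunction

instance preservesInjectiveObjects_comp {A B D : Type*} [Category A] [Category B] [Category D]
    (F : A ⥤ B) (G : B ⥤ D) [F.PreservesInjectiveObjects] [G.PreservesInjectiveObjects] :
    (F ⋙ G).PreservesInjectiveObjects where
  injective_obj {I} hI := by
    haveI := hI
    haveI : Injective (F.obj I) := Functor.injective_obj F I
    exact Functor.injective_obj G (F.obj I)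

instance preservesInjectiveObjects_restrictFunctor_ι (U : X.Opens) :
    (Scheme.Modules.restrictFunctor U.ι).PreservesInjectiveObjects := by
  haveI h1 : (SheafOfModules.overFunctor.{u} X.ringCatSheaf U).PreservesInjectiveObjects :=
    overFunctor_preservesInjectiveObjects X.ringCatSheaf U
  haveI h2 : (Scheme.Modules.overEquiv U).functor.PreservesInjectiveObjects :=
    preservesInjectiveObjects_equivalence _
  haveI h3 : (SheafOfModules.overFunctor.{u} X.ringCatSheaf U ⋙
      (Scheme.Modules.overEquiv U).functor).PreservesInjectiveObjects :=
    preservesInjectiveObjects_comp _ _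
  exact @preservesInjectiveObjects_of_iso _ _ _ _ _ _ (Scheme.Modules.overFunctorEquiv U) h3

end Groth.Agent.LD.EZ
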