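import Mathlib
import Groth.Agent.Lib.Helper8.LC.Delta
import Groth.Agent.Lib.Helper8.LC.Comp

/-! # `Ext^•(P, -)` as a cohomological δ-functor. -/

set_option autoImplicit false
universe w v u
open CategoryTheory Limits Opposite Abelian

namespace Groth.Agent.LD.EZ
open Groth.Agent.H8.LC

variable {C : Type u} [Category.{v} C] [Abelian C] [HasExt.{w} C] (P : C)

/-- `Ext^•(P, -)` as a δ-functor. -/
noncomputable def extDeltaFunctor : DeltaFunctor C AddCommGrpCat.{w} where
  F n := extFunctorObj P n
  δ hS n := AddCommGrpCat.ofHom (hS.extClass.postcomp P rfl)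
  δ_naturality hS hS' φ n := by
    ext x
    change (x.comp hS.extClass rfl).comp (Ext.mk₀ φ.τ₁) (add_zero (n + 1)) =
      (x.comp (Ext.mk₀ φ.τ₃) (add_zero n)).comp hS'.extClass rfl
    rw [Ext.comp_assoc_of_third_deg_zero, ShortComplex.ShortExact.extClass_naturality hS hS' φ,
      ← Ext.comp_assoc_of_second_deg_zero]
  map_comp_map hS n := by
    rw [← Functor.map_comp, _root_.CategoryTheory.ShortComplex.zero]
    ext x
    change x.comp (Ext.mk₀ (0 : _ ⟶ _)) (add_zero n) = 0
    rw [Ext.mk₀_zero, Ext.comp_zero]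
  map_comp_δ hS n := by
    ext x
    change (x.comp (Ext.mk₀ _) (add_zero n)).comp hS.extClass rfl = 0
    rw [Ext.comp_assoc_of_second_deg_zero, ShortComplex.ShortExact.comp_extClass, Ext.comp_zero]
  δ_comp_map hS n := by
    ext x
    change (x.comp hS.extClass rfl).comp (Ext.mk₀ _) (add_zero (n + 1)) = 0
    rw [Ext.comp_assoc_of_third_deg_zero, ShortComplex.ShortExact.extClass_comp, Ext.comp_zero]
  mono₀ hS := by
    haveI := hS.mono_f
    exact Ext.mono_postcomp_mk₀_of_mono P _
  exact₂ hS n := Ext.covariant_sequence_exact₂' P hS n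
  exact₃ hS n := Ext.covariant_sequence_exact₃' P hS n (n + 1) rfl
  exact₁ hS n := Ext.covariant_sequence_exact₁' P hS n (n + 1) rfl

theorem extDeltaFunctor_effaceable : (extDeltaFunctor P).Effaceable := by
  intro I _ n
  haveI : Subsingleton (Ext P I (n + 1)) := subsingleton_of_forall_eq 0
    (fun x => Ext.eq_zero_of_injective x)
  exact AddCommGrpCat.isZero_of_subsingleton (AddCommGrpCat.of (Ext P I (n + 1)))

section Transfer

variable {C' : Type*} [Category C'] [Abelian C'] [HasExt.{w} C'] [EnoughInjectives C]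
  (T : C ⥤ C') [T.Additive] [PreservesFiniteLimits T] [PreservesFiniteColimits T] (P' : C')
  (hT : ∀ (I : C) [Injective I] (n : ℕ), Subsingleton (Ext P' (T.obj I) (n + 1)))
  (e₀ : extFunctorObj P 0 ≅ T ⋙ extFunctorObj P' 0)

include hT in
theorem precomp_effaceable : ((extDeltaFunctor P').precomp T).Effaceable := by
  intro I _ n
  haveI := hT I n
  exact AddCommGrpCat.isZero_of_subsingleton (AddCommGrpCat.of (Ext P' (T.obj I) (n + 1)))

/-- **transfer of `Ext`** along an exact functor sending injectives to acyclics, as a natural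
isomorphism of functors. -/
noncomputable def extTransferIso (n : ℕ) : extFunctorObj P n ≅ T ⋙ extFunctorObj P' n :=
  DeltaFunctor.extIso (T := extDeltaFunctor P) (S := (extDeltaFunctor P').precomp T)
    (extDeltaFunctor_effaceable P) (precomp_effaceable T P' hT) e₀ n

end Transfer

end Groth.Agent.LD.EZ
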