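import Mathlib
import Groth.Agent.Lib.Lead.EZ.ExtDelta
import Groth.Agent.Lib.Lead.KT.LocalExt

/-! # `Ext^n(M, -) ≅ H^n(Hom(M, -))` naturally, when the internal hom out of `M` is exact. -/

set_option autoImplicit false
universe w v u
open CategoryTheory Limits Opposite Abelian

namespace Groth.Agent.LD.EZ
open Groth.Agent.LD.KT Groth.Agent.LD.MS Groth.Agent.LD.GSS

section General

variable {A : Type u} [Category.{v} A] [Abelian A] [HasExt.{v} A] (P : A)

/-- `Ext^0(P, -) ≅ Hom(P, -)`. -/
noncomputable def ext0NatIso : extFunctorObj P 0 ≅ preadditiveCoyoneda.obj (op P) :=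
  NatIso.ofComponents (fun Y => (Ext.addEquiv₀ (X := P) (Y := Y)).toAddCommGrpIso)
    (fun {Y Y'} f => by
      ext x
      obtain ⟨g, rfl⟩ := Ext.addEquiv₀.symm.surjective x
      change Ext.addEquiv₀ ((Ext.addEquiv₀.symm g).comp (Ext.mk₀ f) (add_zero 0)) =
        Ext.addEquiv₀ (Ext.addEquiv₀.symm g) ≫ f
      rw [AddEquiv.apply_symm_apply]
      change Ext.addEquiv₀ ((Ext.mk₀ g).comp (Ext.mk₀ f) (add_zero 0)) = g ≫ f
      rw [Ext.mk₀_comp_mk₀]
      exact Ext.addEquiv₀.apply_symm_apply (g ≫ f))

end General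

variable {C : Type u} [SmallCategory C] {J : GrothendieckTopology C}
  (O : Sheaf J CommRingCat.{u})

attribute [local instance] HasDerivedCategory.standard in
/-- **`Ext^n(M, -) ≅ H^n(Hom_O(M, -))`**, naturally. -/
noncomputable def extSheafHomIso (M : ModSite.Mod O) [ModSite.HasSheafHom M]
    [(ModSite.sheafHom M).PreservesEpimorphisms] [HasExt.{u} (ModSite.Mod O)]
    [EnoughInjectives (ModSite.Mod O)] (n : ℕ) :
    extFunctorObj M n ≅ homAb O M ⋙ extFunctorObj (ZC J) n := by
  haveI : PreservesFiniteColimits (SheafOfModules.toSheaf.{u} (ModSite.ringSh O)) :=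
    PreservesColimitsOfSize.preservesFiniteColimits _
  haveI : PreservesLimitsOfSize.{u, u} (SheafOfModules.toSheaf.{u} (ModSite.ringSh O)) :=
    (Ladj (ModSite.ringSh O)).rightAdjoint_preservesLimits
  haveI : PreservesFiniteLimits (SheafOfModules.toSheaf.{u} (ModSite.ringSh O)) :=
    PreservesLimitsOfSize.preservesFiniteLimits _
  haveI : PreservesFiniteLimits (ModSite.sheafHom M) :=
    haveI : PreservesLimitsOfSize.{0, 0} (ModSite.sheafHom M) :=
      (ModSite.sheafHomAdj M).rightAdjoint_preservesLimits
    PreservesLimitsOfSize.preservesFiniteLimits _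
  haveI : (ModSite.sheafHom M).PreservesHomology :=
    Functor.preservesHomology_of_preservesEpis_and_kernels _
  haveI : PreservesFiniteColimits (ModSite.sheafHom M) :=
    Functor.preservesFiniteColimits_of_preservesHomology _
  haveI : PreservesFiniteLimits (homAb O M) := comp_preservesFiniteLimits _ _
  haveI : PreservesFiniteColimits (homAb O M) := comp_preservesFiniteColimits _ _
  refine extTransferIso M (homAb O M) (ZC J) (fun Q hQ k => ?_) ?_ n
  · refine subsingleton_ext_sheafHom_of_injective O M Q _ (isTF_sheafify _ ?_) k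
    intro W m x hm hx
    have hx' : m • x.down = 0 := congrArg ULift.down hx
    have : x.down = 0 := by
      rcases smul_eq_zero.1 hx' with h | h
      · exact absurd h hm
      · exact h
    exact ULift.ext _ _ this
  · exact ext0NatIso M ≪≫
      (homFIsoOfEquiv (homAb O M) (homEquivGlobal O M)
        (fun N N' ψ g => homEquivGlobal_comp O M ψ g)).symm ≪≫
      Functor.isoWhiskerLeft (homAb O M) (ext0NatIso (ZC J)).symm

end Groth.Agent.LD.EZ
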