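import Mathlib
import Groth.Agent.Lib.Lead.EZ.ExtLocFreeNat
import Groth.Agent.Lib.Lead.EZ.SmulCenter
import Groth.Agent.Lib.Lead.EZ.HomLocFree
import Groth.Agent.Lib.Lead.EZ.ExtLocFree
import Groth.Agent.Lib.Lead.PN.ClosedSub

/-! # `Ext^n(F, B) ≃ₗ H^n(X, Hom(F, B))` for finite locally free `F`, linearly over a base ring. -/

set_option autoImplicit false
universe u
open CategoryTheory Limits Opposite Abelian AlgebraicGeometry TopologicalSpace

namespace Groth.Agent.LD.EZ
open Groth.Agent.LD.KT Groth.Agent.LD.MS Groth.Agent.LD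

variable {X : Scheme.{u}} (A : Type u) [CommRing A] [X.Over (Spec (CommRingCat.of A))]

attribute [local instance] HasDerivedCategory.standard in
theorem nonempty_ext_linearEquiv_HH_sheafHom [HasExt.{u} X.Modules]
    (F B : X.Modules) (hF : FlatMod.IsFinLocFree F) [ModSite.HasSheafHom (O := X.sheaf) F]
    (n : ℕ) :
    Nonempty (Ext F B n ≃ₗ[A]
      Coh.HH X ((ModSite.sheafHom (O := X.sheaf) F).obj B) n) := by
  haveI := sheafHom_preservesEpi_of_isFinLocFree F hF
  haveI := Groth.Agent.H1.sheafOfModules_isGrothendieckAbelian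
    (Opens.grothendieckTopology X) X.ringCatSheaf
  haveI : EnoughInjectives (ModSite.Mod X.sheaf) :=
    inferInstanceAs (EnoughInjectives (SheafOfModules.{u} X.ringCatSheaf))
  haveI : HasExt.{u} (ModSite.Mod X.sheaf) := ‹HasExt.{u} X.Modules›
  let θ := extSheafHomIso X.sheaf F n
  let e : Ext F B n ≃+ Coh.HH X ((ModSite.sheafHom (O := X.sheaf) F).obj B) n :=
    (θ.app B).addCommGroupIsoToAddEquiv
  refine ⟨{ e with map_smul' := ?_ }⟩
  intro a α
  have h1 : a • α = α.comp (Ext.mk₀ (a • 𝟙 B)) (add_zero n) := Ext.smul_eq_comp_mk₀ α a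
  have hnat := congrArg (fun t => t.hom α) (θ.hom.naturality (a • 𝟙 B))
  have h2 : (homAb X.sheaf F).map (a • 𝟙 B) =
      Coh.smulAb ((ModSite.sheafHom (O := X.sheaf) F).obj B)
        (Coh.toGlobal (X ↘ Spec (CommRingCat.of A)) a) := by
    rw [KLin.smul_id]
    change (SheafOfModules.toSheaf X.ringCatSheaf).map
      ((ModSite.sheafHom (O := X.sheaf) F).map (Formal.smulModΓ B _)) = _
    rw [sheafHom_map_smulModΓ]
    rfl
  change e (a • α) = a • e α
  rw [h1]
  refine hnat.trans ?_
  change ((extFunctorObj (ZC (Opens.grothendieckTopology X)) n).map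
    ((homAb X.sheaf F).map (a • 𝟙 B))).hom (e α) = _
  rw [h2]
  rfl

end Groth.Agent.LD.EZ
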