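import Mathlib
import Groth.Agent.Lib.Lead.EZ.Proj

/-! # Maps out of the free module `j_{X!} O_X` are sections over `X`; pullback of free modules. -/

set_option autoImplicit false
universe u
open CategoryTheory Limits Opposite

namespace Groth.Agent.LD.EZ

section General

universe v₁ u₁ w
variable {A : Type u₁} [Category.{v₁} A]

/-- two objects corepresenting the same functor (given by hom-bijections to a family `S` with
"pushforward maps" `mapS`) are isomorphic. -/
noncomputable def isoOfHomEquiv (X Y : A) (S : A → Type w) (eX : ∀ Z, (X ⟶ Z) ≃ S Z)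
    (eY : ∀ Z, (Y ⟶ Z) ≃ S Z) (mapS : ∀ {Z Z' : A}, (Z ⟶ Z') → S Z → S Z')
    (hX : ∀ {Z Z' : A} (ψ : X ⟶ Z) (g : Z ⟶ Z'), eX Z' (ψ ≫ g) = mapS g (eX Z ψ))
    (hY : ∀ {Z Z' : A} (ψ : Y ⟶ Z) (g : Z ⟶ Z'), eY Z' (ψ ≫ g) = mapS g (eY Z ψ)) : X ≅ Y :=
  Coyoneda.ext X Y (fun f => (eY _).symm (eX _ f)) (fun f => (eX _).symm (eY _ f))
    (fun f => by simp) (fun f => by simp)
    (fun f g => by
      apply (eX _).injective
      rw [hX, Equiv.apply_symm_apply, Equiv.apply_symm_apply, hY])

end General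

section Sec

variable {C : Type u} [SmallCategory C] {J : GrothendieckTopology C} {R : Sheaf J RingCat.{u}}

/-- sections of a sheaf of modules are the elements over a terminal object. -/
noncomputable def sectionsEquivTerminal (M : SheafOfModules.{u} R) {T : C} (hT : IsTerminal T) :
    M.sections ≃ M.val.obj (op T) where
  toFun s := s.val (op T)
  invFun x := PresheafOfModules.sectionsMk (fun V => M.val.map (hT.from V.unop).op x) (by
    intro V W f
    change M.val.presheaf.map f (M.val.presheaf.map (hT.from V.unop).op x) =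
      M.val.presheaf.map (hT.from W.unop).op x
    rw [← ConcreteCategory.comp_apply, ← M.val.presheaf.map_comp]
    have : (hT.from V.unop).op ≫ f = (hT.from W.unop).op :=
      Quiver.Hom.unop_inj (hT.hom_ext _ _)
    rw [this])
  left_inv s := by
    apply Subtype.ext
    funext V
    exact PresheafOfModules.sections_property s (hT.from V.unop).op
  right_inv x := by
    change M.val.presheaf.map (hT.from T).op x = x
    rw [hT.hom_ext (hT.from T) (𝟙 T), op_id, M.val.presheaf.map_id]
    rfl

end Sec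

section Free

variable {C : Type u} [SmallCategory C] {J : GrothendieckTopology C}
  (O : Sheaf J CommRingCat.{u}) (X : C)

/-- `Hom(j_{X!}O_X, M) ≃ M(X)`. -/
noncomputable def freeOnEquiv (M : ModSite.Mod O) :
    (ModSite.freeOn O X ⟶ M) ≃ M.val.obj (op X) :=
  ((ModSite.extZeroAdj O X).homEquiv _ M).trans
    ((SheafOfModules.unitHomEquiv ((ModSite.restr O X).obj M)).trans
      (sectionsEquivTerminal ((ModSite.restr O X).obj M) (Over.mkIdTerminal (X := X))))

lemma freeOnEquiv_comp {M M' : ModSite.Mod O} (ψ : ModSite.freeOn O X ⟶ M) (g : M ⟶ M') :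
    freeOnEquiv O X M' (ψ ≫ g) = g.val.app (op X) (freeOnEquiv O X M ψ) := by
  unfold freeOnEquiv
  simp only [Equiv.trans_apply]
  rw [Adjunction.homEquiv_naturality_right, SheafOfModules.unitHomEquiv_comp_apply]
  rfl

end Free

section Pull

variable {C D : Type u} [SmallCategory C] [SmallCategory D] {J : GrothendieckTopology C}
  {K : GrothendieckTopology D} {O_C : Sheaf J CommRingCat.{u}} {O_D : Sheaf K CommRingCat.{u}}
  (f : ModSite.RMor O_C O_D) (X : D)

/-- `Hom(f^* j_{X!}O, M) ≃ M(u X)`. -/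
noncomputable def pullFreeOnEquiv (M : ModSite.Mod O_C) :
    (f.pull.obj (ModSite.freeOn O_D X) ⟶ M) ≃ M.val.obj (op (f.fn.obj X)) :=
  (f.adj.homEquiv _ M).trans (freeOnEquiv O_D X (f.push.obj M))

lemma pullFreeOnEquiv_comp {M M' : ModSite.Mod O_C}
    (ψ : f.pull.obj (ModSite.freeOn O_D X) ⟶ M) (g : M ⟶ M') :
    pullFreeOnEquiv f X M' (ψ ≫ g) = g.val.app (op (f.fn.obj X)) (pullFreeOnEquiv f X M ψ) := by
  unfold pullFreeOnEquiv
  simp only [Equiv.trans_apply]
  rw [Adjunction.homEquiv_naturality_right]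
  exact freeOnEquiv_comp O_D X _ (f.push.map g)

/-- **S6153**: `f^*(A'_X) ≅ A_{u X}`. -/
noncomputable def pullFreeOnIso :
    f.pull.obj (ModSite.freeOn O_D X) ≅ ModSite.freeOn O_C (f.fn.obj X) :=
  isoOfHomEquiv _ _ (fun M : ModSite.Mod O_C => M.val.obj (op (f.fn.obj X)))
    (pullFreeOnEquiv f X) (freeOnEquiv O_C (f.fn.obj X))
    (fun g x => g.val.app (op (f.fn.obj X)) x)
    (fun ψ g => pullFreeOnEquiv_comp f X ψ g)
    (fun ψ g => freeOnEquiv_comp O_C (f.fn.obj X) ψ g)

end Pull

end Groth.Agent.LD.EZ
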