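import Groth.Agent.Lib.Lead.EZ.ExtShLoc
import Groth.Agent.Lib.Lead.EZ.Supp
import Groth.Agent.Lib.Lead.MS.TensorColim
import Groth.Agent.Lib.Lead.XS.Restr
import Groth.Agent.Lib.Lead.QC.SerreSupp
import Groth.Agent.Lib.Helper5.Curve2.A

/-! # Ext sheaves with supports of a module supported in the closed set (S12880) -/

set_option autoImplicit false
universe u
open CategoryTheory Limits Opposite AlgebraicGeometry

namespace Groth.Agent.LD.EZ
open ModSite

section Site

variable {C : Type u} [SmallCategory C] {J : GrothendieckTopology C}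
  (O : Sheaf J CommRingCat.{u}) (U : C)

/-- the internal hom out of a zero object is zero. -/
lemma isZero_sheafHom_of_isZero (M : Mod O) [HasSheafHom M] (hM : IsZero M) (N : Mod O) :
    IsZero ((sheafHom M).obj N) := by
  rw [IsZero.iff_id_eq_zero]
  apply ((sheafHomAdj M).homEquiv _ _).symm.injective
  have hz : IsZero (((tensorBi O).flip.obj M).obj ((sheafHom M).obj N)) :=
    Functor.map_isZero ((tensorBi O).obj ((sheafHom M).obj N)) hM
  exact hz.eq_of_src _ _

/-- the internal hom out of a module null on `U` is null on `U`. -/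
lemma isNullOn_sheafHom (M : Mod O) [HasSheafHom M] (hM : IsNullOn O U M) (N : Mod O) :
    IsNullOn O U ((sheafHom M).obj N) := by
  haveI : HasSheafHom ((restr O U).obj M) := Groth.Agent.LD.MS.hasSheafHom _
  exact IsZero.of_iso (isZero_sheafHom_of_isZero (O.over U) _ hM _)
    ((sheafHomRestrIso O U M).app N)

/-- a module all of whose sections over objects over `U` vanish is null on `U`. -/
lemma isNullOn_of_subsingleton (F : Mod O)
    (h : ∀ Y : Over U, Subsingleton (F.val.obj (op Y.left))) : IsNullOn O U F := by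
  unfold IsNullOn
  rw [IsZero.iff_id_eq_zero]
  apply (SheafOfModules.toSheaf _).map_injective
  ext Y m
  haveI := h Y.unop
  exact Subsingleton.elim (α := F.val.obj (op Y.unop.left)) _ _

variable [HasPushOver O U]

/-- on a module null on `U`, all sections are supported in the complement. -/
lemma isIso_sectOnι_app (N : Mod O) (hN : IsNullOn O U N) :
    IsIso ((sectOnι O U).app N) := by
  have h0 : (restrPushOverAdj O U).unit.app N = 0 := by
    have := (comp_unit_eq_zero_iff O U (𝟙 N)).2 (hN.eq_of_src _ _)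
    rwa [Category.id_comp] at this
  have key : IsIso (kernel.ι ((restrPushOverAdj O U).unit.app N)) := by
    refine ⟨⟨kernel.lift _ (𝟙 N) ((Category.id_comp _).trans h0), ?_, ?_⟩⟩
    · rw [← cancel_mono (kernel.ι ((restrPushOverAdj O U).unit.app N)), Category.assoc,
        kernel.lift_ι]
      exact (Category.comp_id _).trans (Category.id_comp _).symm
    · exact kernel.lift_ι _ _ _
  exact key

/-- if `M` is null on `U`, the Ext sheaves of `M` with supports in the complement of `U` are
the Ext sheaves. -/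
noncomputable def extZShIsoOfNull (M : Mod O) [HasSheafHom M]
    [HasInjectiveResolutions (Mod O)] (hM : IsNullOn O U M) (q : ℕ) :
    extZSh U M q ≅ extSh M q :=
  haveI : IsIso (Functor.whiskerLeft (sheafHom M) (sectOnι O U)) := by
    haveI : ∀ N, IsIso ((Functor.whiskerLeft (sheafHom M) (sectOnι O U)).app N) := fun N =>
      isIso_sectOnι_app O U _ (isNullOn_sheafHom O U M hM N)
    exact NatIso.isIso_of_isIso_app _
  rightDerivedIsoOfIso
    (asIso (Functor.whiskerLeft (sheafHom M) (sectOnι O U)) ≪≫ (sheafHom M).rightUnitor) q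

end Site

section Sch

/-- a module whose support misses `U` is null on `U`. -/
lemma isNullOn_of_support (X : Scheme.{u}) (U : X.Opens) (F : X.Modules)
    (hsupp : ∀ x ∈ CohB1.support F, x ∉ (U : Set X)) : ModSite.IsNullOn X.sheaf U F := by
  apply isNullOn_of_subsingleton
  intro Y
  refine ⟨fun s t => Groth.Agent.H5.Curve2.sec_ext F Y.left s t (fun x hx => ?_)⟩
  have hxU : x ∈ (U : Set X) := Y.hom.le hx
  haveI : Subsingleton (F.presheaf.stalk x) := by
    by_contra hns
    exact hsupp x hns hxU
  exact Subsingleton.elim _ _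

/-- the Ext sheaves of coherent modules on a locally Noetherian scheme are coherent. -/
theorem isCoh_extSh_of_isLocallyNoetherian (X : Scheme.{u}) [IsLocallyNoetherian X]
    (F G : X.Modules) (hF : Coh.IsCoh F) (hG : Coh.IsCoh G)
    [ModSite.HasSheafHom (O := X.sheaf) F] [HasInjectiveResolutions (ModSite.Mod X.sheaf)]
    (i : ℕ) : Coh.IsCoh ((ModSite.extSh (O := X.sheaf) F i).obj G) := by
  haveI := hF.1
  haveI := hG.1
  apply Groth.Agent.H4.PSch4.isCoh_of_local
  intro x
  obtain ⟨U, hU, hxU, -⟩ := exists_isAffineOpen_mem_and_subset (x := x) (U := ⊤) trivial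
  refine ⟨U.toScheme, U.ι, inferInstance, ?_, ?_⟩
  · rw [Scheme.Opens.range_ι]
    exact hxU
  · haveI : IsAffine U.toScheme := hU
    haveI : IsLocallyNoetherian U.toScheme := isLocallyNoetherian_of_isOpenImmersion U.ι
    haveI : HasInjectiveResolutions (ModSite.Mod U.toScheme.sheaf) :=
      Groth.Agent.LD.QCQS.hasInjRes U.toScheme
    have e := Groth.Agent.LD.XS.extShRestrObjIso U.ι F i G
    have hFU : Coh.IsCoh (F.restrict U.ι) :=
      ⟨Groth.Agent.LD.QC.qc_restrict U.ι F, Groth.Agent.LD.QC.isFiniteType_restrict U.ι F hF.2⟩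
    have hGU : Coh.IsCoh (G.restrict U.ι) :=
      ⟨Groth.Agent.LD.QC.qc_restrict U.ι G, Groth.Agent.LD.QC.isFiniteType_restrict U.ι G hG.2⟩
    have hc := Groth.Agent.LD.XS.isCoh_extSh (Groth.Agent.LD.XS.hasRes_of_isAffine U.toScheme) i
      (F.restrict U.ι) hFU (G.restrict U.ι) hGU
    exact Groth.Agent.LD.QC.isCoh_of_iso e.symm hc

/-- **S12880.** -/
theorem s12880 (X : Scheme.{u}) [IsLocallyNoetherian X] (U : X.Opens)
    (F G : X.Modules) (hF : Coh.IsCoh F) (hG : Coh.IsCoh G)
    (hsupp : ∀ x ∈ CohB1.support F, x ∉ (U : Set X))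
    [ModSite.HasSheafHom (O := X.sheaf) F] [HasInjectiveResolutions (ModSite.Mod X.sheaf)]
    (i : ℕ) : Coh.IsCoh ((ModSite.extZSh (O := X.sheaf) U F i).obj G) := by
  have e := (extZShIsoOfNull X.sheaf U F (isNullOn_of_support X U F hsupp) i).app G
  exact Groth.Agent.LD.QC.isCoh_of_iso e.symm
    (isCoh_extSh_of_isLocallyNoetherian X F G hF hG i)

end Sch

end Groth.Agent.LD.EZ
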