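import Groth.Agent.Lib.Lead.XS.StalkExt
import Groth.Agent.Lib.Lead.XS.Restr
import Groth.Agent.Lib.Helper2.RpA2
import Groth.Agent.Lib.Helper2.HomSh3
import Groth.Agent.Lib.Lead.QC.LocFree3

/-!
# The sections of the local Ext sheaves over an affine scheme

On an affine locally Noetherian scheme `Y`, for `F` coherent and `G` quasi-coherent:
`Γ(Y, 𝓔xt^i(F, G)) ≃ Ext^i_{Γ(Y, O)}(Γ(F), Γ(G))`, linearly over the ring of global functions.
The proof is the dimension shifting of `XS/StalkExt`, with the global sections functor (exact on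
quasi-coherent modules over an affine scheme) in place of the stalk functor.
-/

set_option autoImplicit false
set_option linter.style.haveILetI false
noncomputable section
universe u
open CategoryTheory Limits AlgebraicGeometry TopologicalSpace Opposite Abelian

attribute [-instance] Groth.Agent.LD.QC.stalkModule
attribute [local instance] Groth.Agent.LD.MS.hasSheafHom

namespace Groth.Agent.LD.AffSecExt

open Groth.Agent.H2.HomSh Groth.Agent.LD Groth.Agent.LD.PD.HA Groth.Agent.LD.QC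
  Groth.Agent.LD.XS Groth.Agent.LD.XS.StalkExt

variable {Y : Scheme.{u}}

/-- the short complex of global sections. -/
def secSC (S : ShortComplex Y.Modules) : ShortComplex (ModuleCat.{u} Γ(Y, ⊤)) :=
  ShortComplex.moduleCatMk (appLinear S.f ⊤) (appLinear S.g ⊤)
    (LinearMap.ext fun m => by
      have h : (S.f ≫ S.g).app ⊤ m = 0 := by
        rw [S.zero]
        rfl
      exact h)

/-- global sections of a short exact sequence of quasi-coherent modules on an affine scheme. -/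
lemma secSC_shortExact [IsAffine Y] (S : ShortComplex Y.Modules) (hS : S.ShortExact)
    (h₁ : S.X₁.IsQuasicoherent) (h₂ : S.X₂.IsQuasicoherent) (h₃ : S.X₃.IsQuasicoherent) :
    (secSC S).ShortExact := by
  haveI := hS.mono_f
  haveI := hS.epi_g
  obtain ⟨hsurj, hex⟩ := Groth.Agent.H2.RpA.sections_exact h₁ h₂ h₃ S.f S.g S.zero hS.exact
  refine ModuleCat.shortComplex_shortExact (secSC S) ?_ (mono_app S.f ⊤) hsurj
  intro x
  constructor
  · intro hx
    obtain ⟨y, hy⟩ := hex x hx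
    exact ⟨y, hy⟩
  · rintro ⟨y, rfl⟩
    have h : (S.f ≫ S.g).app ⊤ y = 0 := by
      rw [S.zero]
      rfl
    exact h

/-- the global sections of a finite locally free module on an affine scheme are projective. -/
lemma projective_sections [IsAffine Y] (L : Y.Modules) (hL : FlatMod.IsFinLocFree L) :
    Projective (ModuleCat.of Γ(Y, ⊤) Γ(L, ⊤)) := by
  haveI := qc_of_isFinLocFree L hL
  obtain ⟨hfp, hflat⟩ := (isFinLocFree_iff_sections L).mp hL ⊤ (isAffineOpen_top Y)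
  haveI := hfp
  haveI := hflat
  haveI : Module.Projective Γ(Y, ⊤) Γ(L, ⊤) := Module.Flat.projective_of_finitePresentation
  exact (IsProjective.iff_projective _).mp inferInstance

variable [IsAffine Y] [IsLocallyNoetherian Y] [HasInjectiveResolutions (ModSite.Mod Y.sheaf)]

/-- degree one. -/
theorem nonempty_sections_ext_one {S : ShortComplex Y.Modules}
    (hS : S.ShortExact) (hL : FlatMod.IsFinLocFree S.X₂)
    (hK : Coh.IsCoh S.X₁) (hLc : Coh.IsCoh S.X₂) (hFq : S.X₃.IsQuasicoherent)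
    (G : Y.Modules) [G.IsQuasicoherent] :
    Nonempty (Γ((ModSite.extSh (O := Y.sheaf) S.X₃ 1).obj G, ⊤) ≃ₗ[Γ(Y, ⊤)]
      Ext (ModuleCat.of Γ(Y, ⊤) Γ(S.X₃, ⊤)) (ModuleCat.of Γ(Y, ⊤) Γ(G, ⊤)) 1) := by
  haveI := hK.1
  haveI := hLc.1
  haveI := hS.mono_f
  haveI := hS.epi_g
  have hfpK := QC.isFinitePresentation_of_qc_ft S.X₁ hK.1 hK.2
  have hfpL := QC.isFinitePresentation_of_qc_ft S.X₂ hLc.1 hLc.2
  obtain ⟨ec⟩ := Groth.Agent.LD.XS.nonempty_cokernel_iso hS hL G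
  have hq2 : (RefHull.homSh S.X₂ G).IsQuasicoherent := qc_homSh hfpL
  have hq1 : (RefHull.homSh S.X₁ G).IsQuasicoherent := qc_homSh hfpK
  have hqc : (cokernel (preHom S.f G)).IsQuasicoherent := qc_cokernel _ hq2 hq1
  obtain ⟨h1, h3⟩ := Groth.Agent.H2.RpA.sections_exact hq2 hq1 hqc (preHom S.f G)
    (cokernel.π (preHom S.f G)) (cokernel.condition _) (ShortComplex.exact_cokernel _)
  have h2 : ∀ a : Γ(RefHull.homSh S.X₂ G, ⊤),
      (cokernel.π (preHom S.f G)).app ⊤ ((preHom S.f G).app ⊤ a) = 0 := fun a => by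
    have h : (preHom S.f G ≫ cokernel.π (preHom S.f G)).app ⊤ a = 0 := by
      rw [cokernel.condition]
      rfl
    exact h
  have hSx : (secSC S).ShortExact := secSC_shortExact S hS hK.1 hLc.1 hFq
  haveI hproj : Projective (ModuleCat.of Γ(Y, ⊤) Γ(S.X₂, ⊤)) := projective_sections S.X₂ hL
  haveI : Projective (secSC S).X₂ := hproj
  let Gx : ModuleCat.{u} Γ(Y, ⊤) := ModuleCat.of Γ(Y, ⊤) Γ(G, ⊤)
  have hE1 : Subsingleton (Ext (secSC S).X₂ Gx 1) := Ext.subsingleton_of_projective _ _ 0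
  let τ₁ : Γ(RefHull.homSh S.X₂ G, ⊤) ≃ₗ[Γ(Y, ⊤)] ((secSC S).X₂ ⟶ Gx) :=
    (Groth.Agent.H2.HomSh.secEquiv (F := S.X₂) (G := G) (isAffineOpen_top Y)) ≪≫ₗ
      (homEquivLin (secSC S).X₂ Gx).symm
  let τ₂ : Γ(RefHull.homSh S.X₁ G, ⊤) ≃ₗ[Γ(Y, ⊤)] ((secSC S).X₁ ⟶ Gx) :=
    (Groth.Agent.H2.HomSh.secEquiv (F := S.X₁) (G := G) (isAffineOpen_top Y)) ≪≫ₗ
      (homEquivLin (secSC S).X₁ Gx).symm
  obtain ⟨Θ⟩ := Groth.Agent.LD.XS.nonempty_linearEquiv_of_coker
    (appLinear (preHom S.f G) ⊤) (appLinear (cokernel.π (preHom S.f G)) ⊤) h1 h2 h3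
    (Linear.leftComp Γ(Y, ⊤) Gx (secSC S).f)
    (extConn Γ(Y, ⊤) hSx Gx)
    (extConn_surjective Γ(Y, ⊤) hSx Gx hE1)
    (fun φ => extConn_comp Γ(Y, ⊤) hSx Gx φ)
    (fun ψ hψ => extConn_exact Γ(Y, ⊤) hSx Gx ψ hψ)
    τ₁ τ₂ (by
      intro y
      refine ModuleCat.hom_ext (LinearMap.ext fun m => ?_)
      change app ((preHom S.f G).app ⊤ y) le_rfl m = app y le_rfl (S.f.app ⊤ m)
      rw [preHom_app]
      exact app_preSec S.f y le_rfl m)
  exact ⟨(Groth.Agent.H2.RpA.secEquiv ec ⊤).symm ≪≫ₗ Θ⟩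

/-- **the global sections of the local Ext sheaves on an affine scheme.** -/
theorem nonempty_sections_extSh_equiv (hY : HasRes Y) :
    ∀ (i : ℕ) (F : Y.Modules), Coh.IsCoh F → ∀ (G : Y.Modules), G.IsQuasicoherent →
      Nonempty (Γ((ModSite.extSh (O := Y.sheaf) F i).obj G, ⊤) ≃ₗ[Γ(Y, ⊤)]
        Ext (ModuleCat.of Γ(Y, ⊤) Γ(F, ⊤)) (ModuleCat.of Γ(Y, ⊤) Γ(G, ⊤)) i) := by
  intro i
  induction i with
  | zero =>
    intro F hF G hG
    haveI := hF.1
    obtain ⟨e⟩ := Groth.Agent.LD.XS.nonempty_zero_iso F G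
    let Fx : ModuleCat.{u} Γ(Y, ⊤) := ModuleCat.of Γ(Y, ⊤) Γ(F, ⊤)
    let Gx : ModuleCat.{u} Γ(Y, ⊤) := ModuleCat.of Γ(Y, ⊤) Γ(G, ⊤)
    exact ⟨(Groth.Agent.H2.RpA.secEquiv e ⊤).symm ≪≫ₗ
      (Groth.Agent.H2.HomSh.secEquiv (F := F) (G := G) (isAffineOpen_top Y)) ≪≫ₗ
      (homEquivLin Fx Gx).symm ≪≫ₗ (Ext.linearEquiv₀ (R := Γ(Y, ⊤))).symm⟩
  | succ i ih =>
    intro F hF G hG
    haveI := hG
    obtain ⟨K, L, ι, π, w, hS, hL, hK⟩ := Groth.Agent.LD.XS.exists_ses hY F hF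
    have hLc : Coh.IsCoh L :=
      ⟨QC.qc_of_isFinLocFree L hL,
        haveI := QC.isFinitePresentation_of_isFinLocFree L hL
        inferInstance⟩
    cases i with
    | zero =>
      exact nonempty_sections_ext_one (S := ShortComplex.mk ι π w) hS hL hK hLc hF.1 G
    | succ i =>
      obtain ⟨Θ⟩ := ih K hK G hG
      obtain ⟨es⟩ := Groth.Agent.LD.XS.nonempty_shift_iso (S := ShortComplex.mk ι π w) hS hL G i
      have hSx : (secSC (ShortComplex.mk ι π w)).ShortExact :=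
        secSC_shortExact (ShortComplex.mk ι π w) hS hK.1 hLc.1 hF.1
      haveI hproj : Projective (ModuleCat.of Γ(Y, ⊤) Γ(L, ⊤)) := projective_sections L hL
      haveI : Projective (secSC (ShortComplex.mk ι π w)).X₂ := hproj
      let Gx : ModuleCat.{u} Γ(Y, ⊤) := ModuleCat.of Γ(Y, ⊤) Γ(G, ⊤)
      obtain ⟨Ψ⟩ := nonempty_ext_shift Γ(Y, ⊤) hSx Gx i
        (Ext.subsingleton_of_projective _ _ i) (Ext.subsingleton_of_projective _ _ (i + 1))
      exact ⟨(Groth.Agent.H2.RpA.secEquiv es ⊤).symm ≪≫ₗ Θ ≪≫ₗ Ψ⟩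

end Groth.Agent.LD.AffSecExt
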