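import Mathlib

/-!
# Transport of `Ext` groups of modules along a ring isomorphism

Given a ring isomorphism `ρ : R ≃+* R'` and `ρ`-semilinear additive equivalences `A ≃+ A'`,
`B ≃+ B'`, the groups `Ext^i_R(A, B)` and `Ext^i_{R'}(A', B')` are identified `ρ`-semilinearly.
-/

set_option autoImplicit false
noncomputable section
universe u
open CategoryTheory Limits Opposite Abelian

namespace Groth.Agent.LD.ExtTransport

variable {R R' : Type u} [CommRing R] [CommRing R'] (ρ : R ≃+* R')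
  {A B : Type u} [AddCommGroup A] [Module R A] [AddCommGroup B] [Module R B]
  {A' B' : Type u} [AddCommGroup A'] [Module R' A'] [AddCommGroup B'] [Module R' B']

/-- a semilinear additive equivalence, as an isomorphism after restriction of scalars. -/
def isoOfSemilinear (τA : A ≃+ A') (hA : ∀ (r : R) (a : A), τA (r • a) = ρ r • τA a) :
    (ModuleCat.restrictScalars ρ.symm.toRingHom).obj (ModuleCat.of R A) ≅ ModuleCat.of R' A' :=
  letI mA : Module R' A := Module.compHom A ρ.symm.toRingHom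
  LinearEquiv.toModuleIso (R := R') (X₁ := A) (X₂ := A')
    { toFun := fun m => τA m
      map_add' := fun m m' => τA.map_add m m'
      map_smul' := fun r' m => by
        show τA (ρ.symm r' • m) = r' • τA m
        rw [hA, RingEquiv.apply_symm_apply]
      invFun := fun m' => τA.symm m'
      left_inv := τA.left_inv
      right_inv := τA.right_inv }

theorem exists_ext_semilinearEquiv
    (τA : A ≃+ A') (hA : ∀ (r : R) (a : A), τA (r • a) = ρ r • τA a)
    (τB : B ≃+ B') (hB : ∀ (r : R) (b : B), τB (r • b) = ρ r • τB b) (i : ℕ) :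
    ∃ φ : Ext (ModuleCat.of R A) (ModuleCat.of R B) i ≃+
        Ext (ModuleCat.of R' A') (ModuleCat.of R' B') i,
      ∀ (r : R) (e : Ext (ModuleCat.of R A) (ModuleCat.of R B) i), φ (r • e) = ρ r • φ e := by
  let Φ : ModuleCat.{u} R ⥤ ModuleCat.{u} R' := ModuleCat.restrictScalars ρ.symm.toRingHom
  haveI : Φ.IsEquivalence := ModuleCat.restrictScalars_isEquivalence_of_ringEquiv ρ.symm
  let a : Φ.obj (ModuleCat.of R A) ≅ ModuleCat.of R' A' := isoOfSemilinear ρ τA hA
  let b : Φ.obj (ModuleCat.of R B) ≅ ModuleCat.of R' B' := isoOfSemilinear ρ τB hB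
  let e1 : Ext (ModuleCat.of R A) (ModuleCat.of R B) i ≃+
      Ext (Φ.obj (ModuleCat.of R A)) (Φ.obj (ModuleCat.of R B)) i :=
    AddEquiv.ofBijective (Φ.mapExtAddHom _ _ i)
      (Functor.mapExt_bijective_of_preservesProjectiveObjects Φ _ _ i)
  let e2 : Ext (Φ.obj (ModuleCat.of R A)) (Φ.obj (ModuleCat.of R B)) i ≃+
      Ext (Φ.obj (ModuleCat.of R A)) (ModuleCat.of R' B') i :=
    (((extFunctor i).obj (op (Φ.obj (ModuleCat.of R A)))).mapIso b).addCommGroupIsoToAddEquiv
  let e3 : Ext (Φ.obj (ModuleCat.of R A)) (ModuleCat.of R' B') i ≃+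
      Ext (ModuleCat.of R' A') (ModuleCat.of R' B') i :=
    (((extFunctor i).mapIso a.symm.op).app (ModuleCat.of R' B')).addCommGroupIsoToAddEquiv
  refine ⟨e1.trans (e2.trans e3), fun r e => ?_⟩
  have h1 : e1 (r • e) = ρ r • e1 e := by
    show (r • e).mapExactFunctor Φ = ρ r • e.mapExactFunctor Φ
    have hk : Φ.map (r • 𝟙 (ModuleCat.of R B)) = ρ r • 𝟙 (Φ.obj (ModuleCat.of R B)) := by
      ext m
      show r • (show B from m) = ρ.symm (ρ r) • (show B from m)
      rw [RingEquiv.symm_apply_apply]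
    rw [Ext.smul_eq_comp_mk₀ e r, Ext.mapExactFunctor_comp, Ext.mapExactFunctor_mk₀, hk,
      ← Ext.smul_eq_comp_mk₀]
  have h2 : ∀ (s : R') (z : Ext (Φ.obj (ModuleCat.of R A)) (Φ.obj (ModuleCat.of R B)) i),
      e2 (s • z) = s • e2 z := fun s z => by
    show (s • z).comp (Ext.mk₀ b.hom) (add_zero i) = s • z.comp (Ext.mk₀ b.hom) (add_zero i)
    exact Ext.smul_comp _ _ _ _
  have h3 : ∀ (s : R') (z : Ext (Φ.obj (ModuleCat.of R A)) (ModuleCat.of R' B') i),
      e3 (s • z) = s • e3 z := fun s z => by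
    show (Ext.mk₀ a.inv).comp (s • z) (zero_add i) = s • (Ext.mk₀ a.inv).comp z (zero_add i)
    exact Ext.comp_smul _ _ _ _
  show e3 (e2 (e1 (r • e))) = ρ r • e3 (e2 (e1 e))
  rw [h1, h2, h3]

/-- assembling a linear equivalence from semilinear pieces. -/
def assemble {S S' : Type*} [CommRing S] [CommRing S'] (σ : S ≃+* S')
    {P Q P' Q' : Type*} [AddCommGroup P] [Module S P] [AddCommGroup Q] [Module S Q]
    [AddCommGroup P'] [Module S' P'] [AddCommGroup Q'] [Module S' Q']
    (τ : P ≃+ P') (hτ : ∀ (r : S) (p : P), τ (r • p) = σ r • τ p) (Θ : P ≃ₗ[S] Q)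
    (φ : Q ≃+ Q') (hφ : ∀ (r : S) (q : Q), φ (r • q) = σ r • φ q) : P' ≃ₗ[S'] Q' where
  toFun p' := φ (Θ (τ.symm p'))
  map_add' x y := by rw [map_add, map_add, map_add]
  map_smul' r' p' := by
    have h : τ.symm (r' • p') = σ.symm r' • τ.symm p' := by
      apply τ.injective
      rw [τ.apply_symm_apply, hτ, σ.apply_symm_apply, τ.apply_symm_apply]
    show φ (Θ (τ.symm (r' • p'))) = r' • φ (Θ (τ.symm p'))
    rw [h, map_smul, hφ, σ.apply_symm_apply]
  invFun q' := τ (Θ.symm (φ.symm q'))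
  left_inv p' := by
    show τ (Θ.symm (φ.symm (φ (Θ (τ.symm p'))))) = p'
    rw [φ.symm_apply_apply, Θ.symm_apply_apply, τ.apply_symm_apply]
  right_inv q' := by
    show φ (Θ (τ.symm (τ (Θ.symm (φ.symm q'))))) = q'
    rw [τ.symm_apply_apply, Θ.apply_symm_apply, φ.apply_symm_apply]

end Groth.Agent.LD.ExtTransport
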