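import Groth.Agent.Lib.Lead.EZ.AffSecExt
import Groth.Agent.Lib.Lead.EZ.ExtTransport
import Groth.Agent.Lib.Lead.QC.SubExtRestrict
import Groth.Agent.Lib.Lead.QCQS.Base

/-!
# The sections of the local Ext sheaves over an affine open of a locally Noetherian scheme

`Γ(U, 𝓔xt^i(F, G)) ≃ Ext^i_{Γ(U, O)}(F(U), G(U))` for `U` affine open, `F` coherent and `G`
quasi-coherent, by restriction to the affine scheme `U` and transport of structure.
-/

set_option autoImplicit false
set_option linter.style.haveILetI false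
noncomputable section
universe u
open CategoryTheory Limits AlgebraicGeometry TopologicalSpace Opposite Abelian

attribute [-instance] Groth.Agent.LD.QC.stalkModule
attribute [local instance] Groth.Agent.LD.MS.hasSheafHom

namespace Groth.Agent.LD.AffSecExtGen

open Groth.Agent.LD.QC Groth.Agent.LD Groth.Agent.LD.XS Groth.Agent.LD.ExtTransport

variable {X : Scheme.{u}}

/-- the scalar action on the sections of a restricted module (copied from helper4's
`H4.VALocPE.restrict_smul`, to avoid importing that file). -/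
lemma restrict_smul {U' : Scheme.{u}} (f : U' ⟶ X) [IsOpenImmersion f] (M : X.Modules)
    (W : U'.Opens) (r : Γ(U', W)) (x : Γ(M.restrict f, W)) :
    r • x = (show Γ(M.restrict f, W) from
      ((f.appIso W).inv.hom r) • (show Γ(M, f ''ᵁ W) from x)) := rfl

/-- the scalar action on the sections of a module restricted to an open subscheme (copied from
helper4's `H4.VALocPE.restrict_ι_smul`). -/
lemma restrict_ι_smul (U : X.Opens) (M : X.Modules)
    (W : (U : Scheme.{u}).Opens) (r : Γ((U : Scheme.{u}), W)) (x : Γ(M.restrict U.ι, W)) :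
    r • x = (show Γ(M.restrict U.ι, W) from
      (show Γ(X, U.ι ''ᵁ W) from r) • (show Γ(M, U.ι ''ᵁ W) from x)) := by
  rw [restrict_smul]
  have h : (U.ι.appIso W).inv = 𝟙 _ := by
    rw [Scheme.Opens.ι_appIso]; rfl
  rw [h]
  rfl

/-- the ring isomorphism `Γ(U, ⊤) ≃ Γ(X, U)`. -/
def ringEquivΓ (U : X.Opens) : Γ(U.toScheme, ⊤) ≃+* Γ(X, U) :=
  U.topIso.commRingCatIsoToRingEquiv

/-- the corresponding identification of sections of modules. -/
def addEquivΓ (U : X.Opens) (M : X.Modules) : Γ(M.restrict U.ι, ⊤) ≃+ Γ(M, U) :=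
  (M.presheaf.mapIso (eqToIso U.ι_image_top.symm).op).addCommGroupIsoToAddEquiv

lemma addEquivΓ_smul (U : X.Opens) (M : X.Modules) (a : Γ(U.toScheme, ⊤))
    (m : Γ(M.restrict U.ι, ⊤)) :
    addEquivΓ U M (a • m) = ringEquivΓ U a • addEquivΓ U M m := by
  rw [restrict_ι_smul U M ⊤ a m]
  exact Scheme.Modules.map_smul M _ _ _

/-- **the sections of the local Ext sheaves over an affine open.** -/
theorem nonempty_sections_extSh_equiv [IsLocallyNoetherian X]
    [HasInjectiveResolutions (ModSite.Mod X.sheaf)] (U : X.Opens) (hU : IsAffineOpen U)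
    (F G : X.Modules) (hF : Coh.IsCoh F) (hG : G.IsQuasicoherent) (i : ℕ) :
    Nonempty (Γ((ModSite.extSh (O := X.sheaf) F i).obj G, U) ≃ₗ[Γ(X, U)]
      Ext (ModuleCat.of Γ(X, U) Γ(F, U)) (ModuleCat.of Γ(X, U) Γ(G, U)) i) := by
  haveI : IsAffine U.toScheme := hU
  haveI : IsLocallyNoetherian U.toScheme := isLocallyNoetherian_of_isOpenImmersion U.ι
  haveI : HasInjectiveResolutions (ModSite.Mod U.toScheme.sheaf) :=
    Groth.Agent.LD.QCQS.hasInjRes U.toScheme
  haveI := hF.1
  haveI := hG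
  have hFW : Coh.IsCoh (F.restrict U.ι) :=
    ⟨qc_restrict U.ι F, isFiniteType_restrict U.ι F hF.2⟩
  have hGW : (G.restrict U.ι).IsQuasicoherent := qc_restrict U.ι G
  obtain ⟨Θ⟩ := AffSecExt.nonempty_sections_extSh_equiv
    (Groth.Agent.LD.XS.hasRes_of_isAffine U.toScheme) i _ hFW (G.restrict U.ι) hGW
  let e1 : (Scheme.Modules.restrictFunctor U.ι).obj ((ModSite.extSh (O := X.sheaf) F i).obj G) ≅
      (ModSite.extSh (O := U.toScheme.sheaf) (F.restrict U.ι) i).obj (G.restrict U.ι) :=
    Groth.Agent.LD.XS.extShRestrObjIso U.ι F i G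
  obtain ⟨φ, hφ⟩ := exists_ext_semilinearEquiv (ringEquivΓ U)
    (addEquivΓ U F) (addEquivΓ_smul U F) (addEquivΓ U G) (addEquivΓ_smul U G) i
  exact ⟨assemble (ringEquivΓ U)
    (addEquivΓ U ((ModSite.extSh (O := X.sheaf) F i).obj G))
    (addEquivΓ_smul U _) ((Groth.Agent.H2.RpA.secEquiv e1 ⊤) ≪≫ₗ Θ) φ hφ⟩

end Groth.Agent.LD.AffSecExtGen
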