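import Mathlib

/-! # The right derived functors of `Hom(P, -)` are the `Ext` functors. -/

set_option autoImplicit false
universe v u
open CategoryTheory Limits Opposite Abelian

namespace Groth.Agent.LD.EZ

variable {A : Type u} [Category.{v} A] [Abelian A] [HasExt.{v} A] (P : A)

/-- `Hom(P, -)` with values in abelian groups. -/
abbrev hP : A ⥤ AddCommGrpCat.{v} := preadditiveCoyoneda.obj (op P)

section Resolution

variable {Y : A} (R : InjectiveResolution Y)

/-- the complex `Hom(P, R^•)`. -/
noncomputable abbrev homK : CochainComplex AddCommGrpCat.{v} ℕ :=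
  ((hP P).mapHomologicalComplex (ComplexShape.up ℕ)).obj R.cocomplex

lemma homK_d_apply (i j : ℕ) (f : P ⟶ R.cocomplex.X i) :
    (homK P R).d i j f = f ≫ R.cocomplex.d i j := rfl

lemma iCycles_comp_d (q : ℕ) (x : ((homK P R).cycles q : AddCommGrpCat.{v})) :
    (show P ⟶ R.cocomplex.X q from (homK P R).iCycles q x) ≫ R.cocomplex.d q (q + 1) = 0 :=
  congrArg (fun φ : (homK P R).cycles q ⟶ (homK P R).X (q + 1) => φ x)
    ((homK P R).iCycles_d q (q + 1))

/-- cycles of `Hom(P, R^•)` give Ext classes. -/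
noncomputable def cyclesToExt (q : ℕ) :
    ((homK P R).cycles q : AddCommGrpCat.{v}) →+ Ext.{v} P Y q :=
  AddMonoidHom.mk' (fun x => R.extMk (show P ⟶ R.cocomplex.X q from (homK P R).iCycles q x)
    (q + 1) rfl (iCycles_comp_d P R q x)) (fun x y => by
      rw [InjectiveResolution.add_extMk]
      congr 1
      exact map_add _ _ _)

lemma cyclesToExt_apply (q : ℕ) (x : ((homK P R).cycles q : AddCommGrpCat.{v})) :
    cyclesToExt P R q x = R.extMk (show P ⟶ R.cocomplex.X q from (homK P R).iCycles q x)
      (q + 1) rfl (iCycles_comp_d P R q x) := rfl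

lemma extMk_congr {q : ℕ} {f g : P ⟶ R.cocomplex.X q} (h : f = g)
    (hf : f ≫ R.cocomplex.d q (q + 1) = 0) :
    R.extMk f (q + 1) rfl hf = R.extMk g (q + 1) rfl (h ▸ hf) := by
  subst h
  rfl

lemma toCycles_cyclesToExt (i q : ℕ) (g : P ⟶ R.cocomplex.X i) :
    cyclesToExt P R q ((homK P R).toCycles i q g) = 0 := by
  rw [cyclesToExt_apply]
  have h1 : (show P ⟶ R.cocomplex.X q from
      (homK P R).iCycles q ((homK P R).toCycles i q g)) = g ≫ R.cocomplex.d i q :=
    congrArg (fun φ : (homK P R).X i ⟶ (homK P R).X q => φ g) ((homK P R).toCycles_i i q)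
  rw [extMk_congr P R h1]
  by_cases h : i + 1 = q
  · exact (R.extMk_eq_zero_iff _ _ rfl _ i h).2 ⟨g, rfl⟩
  · have h2 : g ≫ R.cocomplex.d i q = 0 := by
      rw [R.cocomplex.shape i q h, comp_zero]
    rw [extMk_congr P R h2]
    exact R.extMk_zero (q + 1) rfl

/-- `H^q(Hom(P, R^•)) ⟶ Ext^q(P, Y)`. -/
noncomputable def homologyToExt (q : ℕ) :
    (homK P R).homology q ⟶ AddCommGrpCat.of (Ext.{v} P Y q) :=
  ((homK P R).homologyIsCokernel _ q rfl).desc
    (CokernelCofork.ofπ (AddCommGrpCat.ofHom (cyclesToExt P R q)) (by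
      ext g
      exact toCycles_cyclesToExt P R _ q g))

lemma homologyπ_homologyToExt (q : ℕ) :
    (homK P R).homologyπ q ≫ homologyToExt P R q = AddCommGrpCat.ofHom (cyclesToExt P R q) :=
  ((homK P R).homologyIsCokernel _ q rfl).fac _ WalkingParallelPair.one

lemma exists_cycle (q : ℕ) (f : P ⟶ R.cocomplex.X q) (hf : f ≫ R.cocomplex.d q (q + 1) = 0) :
    ∃ x : ((homK P R).cycles q : AddCommGrpCat.{v}), (homK P R).iCycles q x = f := by
  have hf' : ((homK P R).sc q).g f = 0 := by
    have : ∀ j, j = q + 1 → f ≫ R.cocomplex.d q j = 0 := by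
      rintro _ rfl
      exact hf
    exact this _ (CochainComplex.next ℕ q)
  exact ⟨((homK P R).sc q).abCyclesIso.inv ⟨f, hf'⟩,
    ((homK P R).sc q).abCyclesIso_inv_apply_iCycles ⟨f, hf'⟩⟩

lemma homologyToExt_surjective (q : ℕ) : Function.Surjective (homologyToExt P R q) := by
  intro α
  obtain ⟨f, hf, rfl⟩ := R.extMk_surjective α (q + 1) rfl
  obtain ⟨x, hx⟩ := exists_cycle P R q f hf
  refine ⟨(homK P R).homologyπ q x, ?_⟩
  have := congrArg (fun φ : (homK P R).cycles q ⟶ AddCommGrpCat.of (Ext.{v} P Y q) => φ x)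
    (homologyπ_homologyToExt P R q)
  refine this.trans ?_
  change cyclesToExt P R q x = _
  rw [cyclesToExt_apply, extMk_congr P R hx]

lemma extMk_zero_eq_zero_iff (f : P ⟶ R.cocomplex.X 0) (hf : f ≫ R.cocomplex.d 0 1 = 0) :
    R.extMk f 1 rfl hf = 0 ↔ f = 0 := by
  simp only [← R.extEquivCohomologyClass.apply_eq_iff_eq,
    InjectiveResolution.extEquivCohomologyClass_extMk,
    InjectiveResolution.extEquivCohomologyClass_zero,
    CochainComplex.HomComplex.CohomologyClass.mk_eq_zero_iff]
  rw [CochainComplex.HomComplex.Cocycle.fromSingleMk_mem_coboundaries_iff _ _ _ _ _ (-1) (by lia)]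
  constructor
  · rintro ⟨g, hg⟩
    have hg0 : g = 0 :=
      (R.cochainComplex.isZero_of_isStrictlyGE 0 (-1) (by lia)).eq_of_tgt _ _
    rw [hg0, zero_comp] at hg
    rw [← cancel_mono (R.cochainComplexXIso 0 0 rfl).inv, zero_comp]
    exact hg.symm
  · rintro rfl
    exact ⟨0, by simp⟩

lemma homologyToExt_injective (q : ℕ) : Function.Injective (homologyToExt P R q) := by
  rw [injective_iff_map_eq_zero]
  intro h hh
  obtain ⟨x, rfl⟩ := (AddCommGrpCat.epi_iff_surjective _).1
    (inferInstance : Epi ((homK P R).homologyπ q)) h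
  have h1 : cyclesToExt P R q x = 0 :=
    (congrArg (fun φ : (homK P R).cycles q ⟶ AddCommGrpCat.of (Ext.{v} P Y q) => φ x)
      (homologyπ_homologyToExt P R q)).symm.trans hh
  rw [cyclesToExt_apply] at h1
  have hinj := (AddCommGrpCat.mono_iff_injective _).1
    (inferInstance : Mono ((homK P R).iCycles q))
  obtain _ | p := q
  · have h2 := (extMk_zero_eq_zero_iff P R _ _).1 h1
    have : x = 0 := hinj (h2.trans (map_zero _).symm)
    rw [this, map_zero]
  · obtain ⟨g, hg⟩ := (R.extMk_eq_zero_iff _ _ rfl _ p rfl).1 h1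
    have h3 : (homK P R).iCycles (p + 1) ((homK P R).toCycles p (p + 1) g) =
        g ≫ R.cocomplex.d p (p + 1) :=
      congrArg (fun φ : (homK P R).X p ⟶ (homK P R).X (p + 1) => φ g)
        ((homK P R).toCycles_i p (p + 1))
    have : x = (homK P R).toCycles p (p + 1) g := hinj (hg.symm.trans h3.symm)
    rw [this]
    exact congrArg (fun φ : (homK P R).X p ⟶ (homK P R).homology (p + 1) => φ g)
      ((homK P R).toCycles_comp_homologyπ p (p + 1))

/-- `H^q(Hom(P, R^•)) ≅ Ext^q(P, Y)`. -/
noncomputable def homologyIsoExt (q : ℕ) :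
    (homK P R).homology q ≅ AddCommGrpCat.of (Ext.{v} P Y q) :=
  haveI : IsIso (homologyToExt P R q) := (ConcreteCategory.isIso_iff_bijective _).2
    ⟨homologyToExt_injective P R q, homologyToExt_surjective P R q⟩
  asIso (homologyToExt P R q)

lemma homologyIsoExt_hom (q : ℕ) : (homologyIsoExt P R q).hom = homologyToExt P R q := rfl

end Resolution

lemma homologyToExt_naturality {Y Y' : A} (f : Y ⟶ Y') (R : InjectiveResolution Y)
    (R' : InjectiveResolution Y') (φ : InjectiveResolution.Hom R R' f) (q : ℕ) :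
    HomologicalComplex.homologyMap
        (((hP P).mapHomologicalComplex (ComplexShape.up ℕ)).map φ.hom) q ≫
      homologyToExt P R' q = homologyToExt P R q ≫ (extFunctorObj P q).map f := by
  rw [← cancel_epi ((homK P R).homologyπ q), HomologicalComplex.homologyπ_naturality_assoc,
    homologyπ_homologyToExt]
  refine Eq.trans ?_ ((congrArg (fun t : (homK P R).cycles q ⟶ (extFunctorObj P q).obj Y =>
    t ≫ (extFunctorObj P q).map f) (homologyπ_homologyToExt P R q)).symm.trans
      (Category.assoc _ _ _))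
  ext x
  change cyclesToExt P R' q (HomologicalComplex.cyclesMap
      (((hP P).mapHomologicalComplex (ComplexShape.up ℕ)).map φ.hom) q x) =
    (cyclesToExt P R q x).comp (Ext.mk₀ f) (add_zero q)
  rw [cyclesToExt_apply, cyclesToExt_apply, InjectiveResolution.extMk_comp_mk₀ _ _ rfl _ φ]
  apply extMk_congr
  exact congrArg (fun θ : (homK P R).cycles q ⟶ (homK P R').X q => θ x)
    (HomologicalComplex.cyclesMap_i
      (((hP P).mapHomologicalComplex (ComplexShape.up ℕ)).map φ.hom) q)

/-- **The right derived functors of `Hom(P, -)` are the `Ext^q(P, -)`.** -/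
noncomputable def coyonedaRightDerivedIso [HasInjectiveResolutions A] (q : ℕ) :
    (hP P).rightDerived q ≅ extFunctorObj P q :=
  NatIso.ofComponents (fun Y => (injectiveResolution Y).isoRightDerivedObj (hP P) q ≪≫
      homologyIsoExt P (injectiveResolution Y) q)
    (fun {Y Y'} f => by
      let φ := InjectiveResolution.desc f (injectiveResolution Y') (injectiveResolution Y)
      have comm := InjectiveResolution.desc_commutes_zero f (injectiveResolution Y')
        (injectiveResolution Y)
      dsimp only [Iso.trans_hom]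
      rw [← Category.assoc, InjectiveResolution.isoRightDerivedObj_hom_naturality f _ _ φ comm
        (hP P) q, Category.assoc, Category.assoc]
      congr 1
      exact homologyToExt_naturality P f _ _ ⟨φ, by simpa using comm⟩ q)

end Groth.Agent.LD.EZ
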