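import Mathlib
import Groth.Agent.Lib.Lead.EZ.SuppSS
import Groth.Agent.Lib.Lead.EZ.SuppTensor

/-! # The spectral sequence `H^p_Z(ℰxt^q(M, N)) ⇒ Ext^{p+q}_Z(M, N)`. -/

set_option autoImplicit false
universe u
open CategoryTheory Limits Opposite Abelian

namespace Groth.Agent.LD.EZ
open Groth.Agent.LD.CE Groth.Agent.LD.KT Groth.Agent.LD.GSS ModSite

variable {C : Type u} [SmallCategory C] {J : GrothendieckTopology C}
  (O : Sheaf J CommRingCat.{u}) (U : C) [HasPushOver O U]

/-- `(O/O_U) ⊗ M ≅ M/M_U`. -/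
noncomputable def quotUnitTensorIso (M : Mod O) :
    ((tensorBi O).flip.obj M).obj ((quotOn O U).obj (unit O)) ≅ (quotOn O U).obj M :=
  (quotTensorFlipIso O U M).app (unit O) ≪≫ (quotOn O U).mapIso (tensorUnitIso O M)

/-- `Hom(M/M_U, F) ≃ Hom_ℤ(ℤ/ℤ_U, Hom_O(M, F))`. -/
noncomputable def homEquivZ (M : Mod O) [HasSheafHom M] (F : Mod O) :
    ((quotOn O U).obj M ⟶ F) ≃ (ToposFin.quotZ (ToposFin.eps J U) ⟶ (homAb O M).obj F) :=
  ((Iso.homFromEquiv (quotUnitTensorIso O U M)).symm.trans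
    ((sheafHomAdj M).homEquiv ((quotOn O U).obj (unit O)) F)).trans
      (quotCompareEquiv O U ((sheafHom M).obj F))

lemma homEquivZ_comp (M : Mod O) [HasSheafHom M] {F F' : Mod O}
    (ψ : (quotOn O U).obj M ⟶ F) (g : F ⟶ F') :
    homEquivZ O U M F' (ψ ≫ g) = homEquivZ O U M F ψ ≫ (homAb O M).map g := by
  simp only [homEquivZ, Equiv.trans_apply]
  rw [Functor.comp_map, ← quotCompareEquiv_comp, ← Adjunction.homEquiv_naturality_right]
  congr 2

attribute [local instance] HasDerivedCategory.standard in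
/-- the spectral sequence `H^p_Z(ℰxt^q(M, N)) ⇒ Ext^{p+q}_Z(M, N)`. -/
theorem exists_ss_HZ_extSh [HasExt.{u} (Mod O)] [HasInjectiveResolutions (Mod O)]
    (M N : Mod O) [HasSheafHom M] :
    ∃ (E : E₂CohomologicalSpectralSequence AddCommGrpCat.{u})
      (a : SpSeq.Abutment E (fun n : ℤ =>
        if 0 ≤ n then AddCommGrpCat.of (ExtSupp.ExtZ U M N n.toNat)
          else AddCommGrpCat.of PUnit.{u + 1})),
      (∀ n, a.IsFinite n) ∧ SpSeq.IsBounded E ∧
      ∀ p q : ℤ, Nonempty ((E.page 2 le_rfl).X (p, q) ≅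
        (if 0 ≤ p ∧ 0 ≤ q then
          AddCommGrpCat.of (ModSite.HZ U ((ModSite.extSh M q.toNat).obj N) p.toNat)
         else AddCommGrpCat.of PUnit.{u + 1})) := by
  have hz : IsZero (AddCommGrpCat.of PUnit.{u + 1}) := by
    rw [IsZero.iff_id_eq_zero]
    ext x
  haveI : PreservesFiniteColimits (SheafOfModules.toSheaf.{u} (ringSh O)) :=
    PreservesColimitsOfSize.preservesFiniteColimits _
  haveI : PreservesLimitsOfSize.{u, u} (SheafOfModules.toSheaf.{u} (ringSh O)) :=
    (Ladj (ringSh O)).rightAdjoint_preservesLimits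
  haveI : PreservesFiniteLimits (SheafOfModules.toSheaf.{u} (ringSh O)) :=
    PreservesLimitsOfSize.preservesFiniteLimits _
  haveI : (SheafOfModules.toSheaf.{u} (ringSh O)).PreservesHomology := inferInstance
  exact exists_gss'' (homAb O M) (ToposFin.quotZ (ToposFin.eps J U)) ((quotOn O U).obj M)
    (homFIsoOfEquiv (homAb O M) (homEquivZ O U M)
      (fun F F' ψ g => homEquivZ_comp O U M ψ g))
    (fun Q hQ k => by
      haveI := hQ
      exact subsingleton_ext_sheafHom_of_injective O M Q _ (isTF_quotZ U) k)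
    N (fun q => toAb ((ModSite.extSh M q).obj N))
    (fun q => ⟨rightDerivedObjCompIso (sheafHom M) (SheafOfModules.toSheaf (ringSh O)) N q⟩)
    (fun n => AddCommGrpCat.of (ExtSupp.ExtZ U M N n))
    (fun n => ⟨Iso.refl _⟩)
    _ _ hz hz

end Groth.Agent.LD.EZ
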