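import Mathlib
import Groth.Agent.Lib.Lead.EZ.SuppSS2
import Groth.Agent.Lib.Lead.EZ.CoyonedaExt
import Groth.Agent.Lib.Lead.EZ.DerivedIso

/-! # `Ext` with supports as a derived functor. -/

set_option autoImplicit false
universe u
open CategoryTheory Limits Opposite Abelian

namespace Groth.Agent.LD.EZ
open Groth.Agent.LD.CE Groth.Agent.LD.KT Groth.Agent.LD.GSS ModSite

variable {C : Type u} [SmallCategory C] {J : GrothendieckTopology C}
  (O : Sheaf J CommRingCat.{u}) (U : C) [HasPushOver O U]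

/-- `Hom(M/M_U, N) ≃ Γ(Γ_Z(Hom_O(M, N)))`. -/
noncomputable def gammaZHomEquiv (M : Mod O) [HasSheafHom M] (N : Mod O) :
    ((quotOn O U).obj M ⟶ N) ≃ (unit O ⟶ (sheafHom M ⋙ sectOn O U).obj N) :=
  ((Iso.homFromEquiv (quotUnitTensorIso O U M)).symm.trans
    ((sheafHomAdj M).homEquiv ((quotOn O U).obj (unit O)) N)).trans
      ((quotSectAdj O U).homEquiv (unit O) ((sheafHom M).obj N))

lemma gammaZHomEquiv_comp (M : Mod O) [HasSheafHom M] {N N' : Mod O}
    (ψ : (quotOn O U).obj M ⟶ N) (g : N ⟶ N') :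
    gammaZHomEquiv O U M N' (ψ ≫ g) =
      gammaZHomEquiv O U M N ψ ≫ (sheafHom M ⋙ sectOn O U).map g := by
  simp only [gammaZHomEquiv, Equiv.trans_apply]
  rw [Functor.comp_map, ← Adjunction.homEquiv_naturality_right,
    ← Adjunction.homEquiv_naturality_right]
  congr 2

/-- `Γ(Γ_Z(Hom_O(M, -))) ≅ Hom(M/M_U, -)`. -/
noncomputable def gammaZHomIso (M : Mod O) [HasSheafHom M] :
    ExtSupp.gammaZHom U M ≅ preadditiveCoyoneda.obj (op ((quotOn O U).obj M)) :=
  homFIsoOfEquiv (sheafHom M ⋙ sectOn O U) (gammaZHomEquiv O U M)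
    (fun N N' ψ g => gammaZHomEquiv_comp O U M ψ g)

/-- `Ext^q_{O,Z}(M, -)` as a derived functor. -/
theorem nonempty_extZR_iso [HasExt.{u} (Mod O)] [HasInjectiveResolutions (Mod O)]
    (M : Mod O) [HasSheafHom M] (q : ℕ) :
    Nonempty (ExtSupp.ExtZR U M q ≅ Abelian.extFunctorObj ((quotOn O U).obj M) q) :=
  ⟨rightDerivedIsoOfIso (gammaZHomIso O U M) q ≪≫
    coyonedaRightDerivedIso ((quotOn O U).obj M) q⟩

end Groth.Agent.LD.EZ
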