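import Mathlib
import Groth.Agent.Lib.Lead.EZ.FreeOn
import Groth.Agent.H4.SPt8
import Groth.Agent.H4.FlatPull1
import Groth.Prelude.Def_DCoh4

/-! # The internal hom into an injective module is flasque

`P U = j_{U!} O_U` corepresents sections over `U`; the transition map `P U ⟶ P V` (`U ≤ V`) is an
isomorphism on the stalks at the points of `U` and has vanishing source stalks elsewhere, so that
`F ⊗ P U ⟶ F ⊗ P V` is a monomorphism for every `F`. -/

set_option autoImplicit false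
universe u
open CategoryTheory Limits Opposite AlgebraicGeometry TopologicalSpace MonoidalCategory

namespace Groth.Agent.LD.HomFlasque

open Groth.Agent.H4.SPt4 Groth.Agent.H4.SPt8

variable {X : Scheme.{u}}

/-- the free module on an open -/
noncomputable abbrev P (U : X.Opens) : X.Modules := ModSite.freeOn X.sheaf U

/-- maps out of it are sections -/
noncomputable def eP (U : X.Opens) (M : X.Modules) : (P U ⟶ M) ≃ M.val.obj (op U) :=
  EZ.freeOnEquiv X.sheaf U M

lemma eP_comp (U : X.Opens) {M M' : X.Modules} (ψ : P U ⟶ M) (g : M ⟶ M') :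
    eP U M' (ψ ≫ g) = g.val.app (op U) (eP U M ψ) :=
  EZ.freeOnEquiv_comp X.sheaf U ψ g

/-- the transition map `P U ⟶ P V` for `U ≤ V` -/
noncomputable def ρ {U V : X.Opens} (h : U ≤ V) : P U ⟶ P V :=
  (eP U (P V)).symm (((P V).val.map (homOfLE h).op).hom (eP V (P V) (𝟙 _)))

lemma eP_ρ_comp {U V : X.Opens} (h : U ≤ V) {M : X.Modules} (ψ : P V ⟶ M) :
    eP U M (ρ h ≫ ψ) = (M.val.map (homOfLE h).op).hom (eP V M ψ) := by
  have h1 := eP_comp V (𝟙 (P V)) ψ
  rw [Category.id_comp] at h1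
  rw [eP_comp, ρ, Equiv.apply_symm_apply, h1]
  exact PresheafOfModules.naturality_apply ψ.val (homOfLE h).op _

/-- maps out of the stalk of `P U` -/
noncomputable def Φ (x : X) (U : X.Opens) (Q : ModuleCat.{u} (X.presheaf.stalk x)) :
    ((DerSch.stalkFunctor X x).obj (P U) ⟶ Q) ≃ (PLift (x ∈ U) → Q) :=
  ((stalkSkyAdj x).homEquiv (P U) Q).trans (eP U ((skyFunctor x).obj Q))

lemma Φ_ρ (x : X) {U V : X.Opens} (h : U ≤ V) (Q : ModuleCat.{u} (X.presheaf.stalk x))
    (α : (DerSch.stalkFunctor X x).obj (P V) ⟶ Q) (hx : PLift (x ∈ U)) :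
    Φ x U Q ((DerSch.stalkFunctor X x).map (ρ h) ≫ α) hx = Φ x V Q α ⟨h hx.down⟩ := by
  have h1 : (stalkSkyAdj x).homEquiv (P U) Q ((DerSch.stalkFunctor X x).map (ρ h) ≫ α) =
      ρ h ≫ (stalkSkyAdj x).homEquiv (P V) Q α := Adjunction.homEquiv_naturality_left _ _ _
  have h2 := eP_ρ_comp h ((stalkSkyAdj x).homEquiv (P V) Q α)
  have h3 : eP U ((skyFunctor x).obj Q)
      ((stalkSkyAdj x).homEquiv (P U) Q ((DerSch.stalkFunctor X x).map (ρ h) ≫ α)) =
      (((skyFunctor x).obj Q).val.map (homOfLE h).op).hom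
        (eP V _ ((stalkSkyAdj x).homEquiv (P V) Q α)) := by
    rw [h1]
    exact h2
  have h4 : ∀ (s t : ((skyFunctor x).obj Q).val.obj (op U)), s = t →
      ∀ hx : PLift (x ∈ U), (s : PLift (x ∈ U) → Q) hx = (t : PLift (x ∈ U) → Q) hx :=
    fun s t e hx => by rw [e]
  exact h4 _ _ h3 hx

lemma isZero_stalk_P (x : X) (U : X.Opens) (hx : x ∉ U) :
    IsZero ((DerSch.stalkFunctor X x).obj (P U)) := by
  rw [IsZero.iff_id_eq_zero]
  apply (Φ x U _).injective
  funext h
  exact absurd h.down hx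

lemma isIso_stalk_ρ (x : X) {U V : X.Opens} (h : U ≤ V) (hx : x ∈ U) :
    IsIso ((DerSch.stalkFunctor X x).map (ρ h)) := by
  rw [isIso_iff_coyoneda_map_bijective]
  intro Q
  constructor
  · intro α β hαβ
    apply (Φ x V Q).injective
    funext hV
    have h1 := Φ_ρ x h Q α ⟨hx⟩
    have h2 := Φ_ρ x h Q β ⟨hx⟩
    have h3 : Φ x U Q ((DerSch.stalkFunctor X x).map (ρ h) ≫ α) ⟨hx⟩ =
        Φ x U Q ((DerSch.stalkFunctor X x).map (ρ h) ≫ β) ⟨hx⟩ := by
      have : (DerSch.stalkFunctor X x).map (ρ h) ≫ α = (DerSch.stalkFunctor X x).map (ρ h) ≫ β :=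
        hαβ
      rw [this]
    rw [h1, h2] at h3
    exact h3
  · intro γ
    refine ⟨(Φ x V Q).symm (fun _ => Φ x U Q γ ⟨hx⟩), ?_⟩
    apply (Φ x U Q).injective
    funext hU
    have h1 := Φ_ρ x h Q ((Φ x V Q).symm (fun _ => Φ x U Q γ ⟨hx⟩)) hU
    rw [Equiv.apply_symm_apply] at h1
    exact h1

/-- tensoring with a zero object gives a zero object -/
lemma isZero_tensor_of_isZero {R : Type u} [CommRing R] (A Z : ModuleCat.{u} R) (hZ : IsZero Z) :
    IsZero (A ⊗ Z) := by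
  rw [IsZero.iff_id_eq_zero]
  have h0 : 𝟙 Z = 0 := hZ.eq_of_src _ _
  rw [← MonoidalCategory.whiskerLeft_id, h0, MonoidalPreadditive.whiskerLeft_zero]

/-- **`F ⊗ P U ⟶ F ⊗ P V` is a monomorphism.** -/
theorem mono_tensor_ρ (F : X.Modules) {U V : X.Opens} (h : U ≤ V) :
    Mono (((DCoh.tensorBi (X := X)).obj F).map (ρ h)) := by
  rw [Groth.Agent.H4.FlatPull1.mono_iff_stalk]
  intro x
  by_cases hx : x ∈ U
  · haveI := isIso_stalk_ρ x h hx
    have e := stalkTensorObjIso_natural_right x (M := F) (ρ h)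
    have e' : (DerSch.stalkFunctor X x).map (((DCoh.tensorBi (X := X)).obj F).map (ρ h)) =
        (stalkTensorObjIso x F (P U)).hom ≫ ((DerSch.stalkFunctor X x).obj F ◁
          (DerSch.stalkFunctor X x).map (ρ h)) ≫ (stalkTensorObjIso x F (P V)).inv := by
      rw [← Category.assoc, ← e, Category.assoc, Iso.hom_inv_id, Category.comp_id]
    rw [e']
    infer_instance
  · have hz : IsZero ((DerSch.stalkFunctor X x).obj (((DCoh.tensorBi (X := X)).obj F).obj (P U))) :=
      IsZero.of_iso (isZero_tensor_of_isZero _ _ (isZero_stalk_P x U hx))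
        (stalkTensorObjIso x F (P U))
    exact hz.mono _

/-- **the internal hom into an injective module is flasque.** -/
theorem surjective_res_sheafHom (F I : X.Modules) [DCoh.HasSheafHom F] (hI : Injective I)
    (U V : X.Opens) (hUV : U ≤ V) :
    Function.Surjective (((DCoh.sheafHom F).obj I).val.map (homOfLE hUV).op).hom := by
  intro t
  haveI := mono_tensor_ρ F hUV
  obtain ⟨ψt, hψt⟩ : ∃ ψt : P U ⟶ (DCoh.sheafHom F).obj I,
      eP U ((DCoh.sheafHom F).obj I) ψt = t :=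
    ⟨(eP U _).symm t, Equiv.apply_symm_apply _ _⟩
  obtain ⟨φ', hφ'⟩ : ∃ φ' : ((DCoh.tensorBi (X := X)).obj F).obj (P V) ⟶ I,
      ((DCoh.tensorBi (X := X)).obj F).map (ρ hUV) ≫ φ' =
        ((DCoh.sheafHomAdj F).homEquiv _ _).symm ψt :=
    ⟨Injective.factorThru _ _, Injective.comp_factorThru _ _⟩
  have h1 : ρ hUV ≫ (DCoh.sheafHomAdj F).homEquiv _ _ φ' = ψt := by
    rw [← Adjunction.homEquiv_naturality_left, hφ', Equiv.apply_symm_apply]
  refine ⟨eP V _ ((DCoh.sheafHomAdj F).homEquiv _ _ φ'), ?_⟩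
  rw [← eP_ρ_comp, h1, hψt]

end Groth.Agent.LD.HomFlasque
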