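import Mathlib
import Groth.Prelude.Def_KFlatSite
import Groth.Agent.Lib.Lead.EZ.Proj
import Groth.Agent.Lib.Lead.EZ.Faithful
import Groth.Agent.Lib.Lead.EZ.ExtShLoc
import Groth.Agent.Lib.Lead.MS.Assoc3
import Groth.Agent.H4.TC14

/-! # The projection formula for extension by zero, natural in both variables, and the restriction of
K-flat complexes to a slice. -/

set_option autoImplicit false
universe u
open CategoryTheory Limits MonoidalCategory Opposite

namespace Groth.Agent.LD.EZ
open Groth.Agent.LD.MS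

variable {C : Type u} [SmallCategory C] {J : GrothendieckTopology C}
  {O : Sheaf J CommRingCat.{u}} {X : C}

section pf

variable (A : ModSite.Mod (O.over X)) (N : ModSite.Mod O)

/-- first leg: `a(j_!ᵖ A ⊗ N) ⟶ j_! A ⊗ N`. -/
noncomputable def pfU :
    (shf O).obj ((ezP O X).obj ((incl (O.over X)).obj A) ⊗ (incl O).obj N) ⟶
      ((ModSite.tensorBi O).obj ((jS O X).obj A)).obj N :=
  (shf O).map (eta ((ezP O X).obj ((incl (O.over X)).obj A)) ▷ (incl O).obj N)

instance : IsIso (pfU A N) := isIso_sheafify_whiskerRight_unit _ _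

/-- second leg: the sheafified presheaf projection formula. -/
noncomputable def pfW :
    (shf O).obj ((ezP O X).obj ((incl (O.over X)).obj A) ⊗ (incl O).obj N) ⟶
      (shf O).obj ((ezP O X).obj
        ((incl (O.over X)).obj A ⊗ (jresP O X).obj ((incl O).obj N))) :=
  (shf O).map (theta ((incl (O.over X)).obj A) ((incl O).obj N)).hom

instance : IsIso (pfW A N) := by unfold pfW; infer_instance

/-- third leg: sheafification commutes with extension by zero. -/
noncomputable def pfV :
    (shf O).obj ((ezP O X).obj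
        ((incl (O.over X)).obj A ⊗ (jresP O X).obj ((incl O).obj N))) ⟶
      (jS O X).obj (((ModSite.tensorBi (O.over X)).obj A).obj ((rS O X).obj N)) :=
  (kappa O X).hom.app ((incl (O.over X)).obj A ⊗ (jresP O X).obj ((incl O).obj N))

instance : IsIso (pfV A N) :=
  inferInstanceAs (IsIso ((kappa O X).app
    ((incl (O.over X)).obj A ⊗ (jresP O X).obj ((incl O).obj N))).hom)

/-- the projection formula `j_! A ⊗ N ⟶ j_!(A ⊗ N|_X)`. -/
noncomputable def pfHom :
    ((ModSite.tensorBi O).obj ((jS O X).obj A)).obj N ⟶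
      (jS O X).obj (((ModSite.tensorBi (O.over X)).obj A).obj ((rS O X).obj N)) :=
  inv (pfU A N) ≫ pfW A N ≫ pfV A N

instance : IsIso (pfHom A N) := by unfold pfHom; infer_instance

/-- the projection formula as an isomorphism. -/
noncomputable def pfIso :
    ((ModSite.tensorBi O).obj ((jS O X).obj A)).obj N ≅
      (jS O X).obj (((ModSite.tensorBi (O.over X)).obj A).obj ((rS O X).obj N)) :=
  asIso (pfHom A N)

theorem pfU_pfHom : pfU A N ≫ pfHom A N = pfW A N ≫ pfV A N := by
  unfold pfHom
  rw [IsIso.hom_inv_id_assoc]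

variable {A N}

theorem pfU_sqA {A' : ModSite.Mod (O.over X)} (a : A ⟶ A') (N : ModSite.Mod O) :
    pfU A N ≫ ((ModSite.tensorBi O).map ((jS O X).map a)).app N =
      (shf O).map ((ezP O X).map ((incl (O.over X)).map a) ▷ (incl O).obj N) ≫ pfU A' N :=
  shf_whiskerRight_eta ((ezP O X).map ((incl (O.over X)).map a)) ((incl O).obj N)

theorem pfW_sqA {A' : ModSite.Mod (O.over X)} (a : A ⟶ A') (N : ModSite.Mod O) :
    (shf O).map ((ezP O X).map ((incl (O.over X)).map a) ▷ (incl O).obj N) ≫ pfW A' N =
      pfW A N ≫ (shf O).map ((ezP O X).map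
        ((incl (O.over X)).map a ▷ (jresP O X).obj ((incl O).obj N))) := by
  unfold pfW
  rw [← Functor.map_comp, ← Functor.map_comp, theta_naturality_left]

theorem pfV_sqA {A' : ModSite.Mod (O.over X)} (a : A ⟶ A') (N : ModSite.Mod O) :
    (shf O).map ((ezP O X).map
        ((incl (O.over X)).map a ▷ (jresP O X).obj ((incl O).obj N))) ≫ pfV A' N =
      pfV A N ≫
        (jS O X).map (((ModSite.tensorBi (O.over X)).map a).app ((rS O X).obj N)) :=
  (kappa O X).hom.naturality ((incl (O.over X)).map a ▷ (jresP O X).obj ((incl O).obj N))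

theorem pf_natA {A' : ModSite.Mod (O.over X)} (a : A ⟶ A') (N : ModSite.Mod O) :
    ((ModSite.tensorBi O).map ((jS O X).map a)).app N ≫ pfHom A' N =
      pfHom A N ≫
        (jS O X).map (((ModSite.tensorBi (O.over X)).map a).app ((rS O X).obj N)) := by
  rw [← cancel_epi (pfU A N), reassoc_of% (pfU_sqA a N), pfU_pfHom,
    reassoc_of% (pfU_pfHom A N), reassoc_of% (pfW_sqA a N)]
  exact congrArg (fun t => pfW A N ≫ t) (pfV_sqA a N)

theorem pfU_sqN (A : ModSite.Mod (O.over X)) {N N' : ModSite.Mod O} (ν : N ⟶ N') :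
    pfU A N ≫ ((ModSite.tensorBi O).obj ((jS O X).obj A)).map ν =
      (shf O).map ((ezP O X).obj ((incl (O.over X)).obj A) ◁ (incl O).map ν) ≫ pfU A N' := by
  change (shf O).map (eta ((ezP O X).obj ((incl (O.over X)).obj A)) ▷ (incl O).obj N) ≫
      (shf O).map ((incl O).obj ((shf O).obj ((ezP O X).obj ((incl (O.over X)).obj A))) ◁
        (incl O).map ν) =
    (shf O).map ((ezP O X).obj ((incl (O.over X)).obj A) ◁ (incl O).map ν) ≫
      (shf O).map (eta ((ezP O X).obj ((incl (O.over X)).obj A)) ▷ (incl O).obj N')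
  rw [← Functor.map_comp, ← Functor.map_comp, whisker_exchange]

theorem pfW_sqN (A : ModSite.Mod (O.over X)) {N N' : ModSite.Mod O} (ν : N ⟶ N') :
    (shf O).map ((ezP O X).obj ((incl (O.over X)).obj A) ◁ (incl O).map ν) ≫ pfW A N' =
      pfW A N ≫ (shf O).map ((ezP O X).map
        ((incl (O.over X)).obj A ◁ (jresP O X).map ((incl O).map ν))) := by
  unfold pfW
  rw [← Functor.map_comp, ← Functor.map_comp, theta_naturality_right]

theorem pfV_sqN (A : ModSite.Mod (O.over X)) {N N' : ModSite.Mod O} (ν : N ⟶ N') :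
    (shf O).map ((ezP O X).map
        ((incl (O.over X)).obj A ◁ (jresP O X).map ((incl O).map ν))) ≫ pfV A N' =
      pfV A N ≫
        (jS O X).map (((ModSite.tensorBi (O.over X)).obj A).map ((rS O X).map ν)) :=
  (kappa O X).hom.naturality ((incl (O.over X)).obj A ◁ (jresP O X).map ((incl O).map ν))

theorem pf_natN (A : ModSite.Mod (O.over X)) {N N' : ModSite.Mod O} (ν : N ⟶ N') :
    ((ModSite.tensorBi O).obj ((jS O X).obj A)).map ν ≫ pfHom A N' =
      pfHom A N ≫
        (jS O X).map (((ModSite.tensorBi (O.over X)).obj A).map ((rS O X).map ν)) := by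
  rw [← cancel_epi (pfU A N), reassoc_of% (pfU_sqN A ν), pfU_pfHom,
    reassoc_of% (pfU_pfHom A N), reassoc_of% (pfW_sqN A ν)]
  exact congrArg (fun t => pfW A N ≫ t) (pfV_sqN A ν)

end pf

variable (O X)

/-- the bifunctor `(A, N) ↦ A ⊗ N|_X`. -/
noncomputable abbrev tensRestr :
    ModSite.Mod (O.over X) ⥤ ModSite.Mod O ⥤ ModSite.Mod (O.over X) :=
  ModSite.tensorBi (O.over X) ⋙ (Functor.whiskeringLeft _ _ _).obj (rS O X)

instance tensRestr_obj_additive (A : ModSite.Mod (O.over X)) :
    ((tensRestr O X).obj A).Additive :=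
  inferInstanceAs ((rS O X ⋙ (ModSite.tensorBi (O.over X)).obj A).Additive)

/-- **the projection formula**, natural in both variables. -/
noncomputable def pfNatIso :
    jS O X ⋙ ModSite.tensorBi O ⋙ (Functor.whiskeringLeft _ _ _).obj (𝟭 (ModSite.Mod O)) ≅
      tensRestr O X ⋙ (Functor.whiskeringRight _ _ _).obj (jS O X) :=
  NatIso.ofComponents
    (fun A => NatIso.ofComponents (fun N => pfIso A N) (fun {N N'} ν => pf_natN A ν))
    (fun {A A'} a => by
      refine NatTrans.ext (funext fun N => ?_)
      exact pf_natA a N)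

instance jS_preservesFiniteLimits : PreservesFiniteLimits (jS O X) :=
  preservesFiniteLimits_of_adj (jrAdj O X)

instance jS_preservesFiniteColimits : PreservesFiniteColimits (jS O X) :=
  preservesFiniteColimits_of_adj (jrAdj O X)

instance jS_preservesCoproducts (Jt : Type) : PreservesColimitsOfShape (Discrete Jt) (jS O X) := by
  haveI : PreservesColimitsOfSize.{0, 0} (jS O X) := (jrAdj O X).leftAdjoint_preservesColimits
  infer_instance

/-- an exact faithful functor reflects exactness of complexes. -/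
theorem exactAt_map_iff {𝒜 ℬ : Type*} [Category 𝒜] [Category ℬ] [Abelian 𝒜] [Abelian ℬ]
    (F : 𝒜 ⥤ ℬ) [F.Additive] [F.PreservesHomology] [F.Faithful]
    (K : CochainComplex 𝒜 ℤ) (i : ℤ) :
    ((F.mapHomologicalComplex (ComplexShape.up ℤ)).obj K).ExactAt i ↔ K.ExactAt i := by
  rw [HomologicalComplex.exactAt_iff, HomologicalComplex.exactAt_iff]
  exact (K.sc i).exact_map_iff_of_faithful F

/-- **S9054**: the restriction of a K-flat complex to a slice is K-flat. -/
theorem isKFlat_restr (K : CochainComplex (ModSite.Mod O) ℤ) (hK : ModSite.IsKFlat K) :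
    ModSite.IsKFlat (((ModSite.restr O X).mapHomologicalComplex (ComplexShape.up ℤ)).obj K) := by
  intro A hA i
  have hjA : ∀ i, IsZero ((((jS O X).mapHomologicalComplex (ComplexShape.up ℤ)).obj A).homology i) := by
    intro i
    rw [← HomologicalComplex.exactAt_iff_isZero_homology, exactAt_map_iff,
      HomologicalComplex.exactAt_iff_isZero_homology]
    exact hA i
  have h1 := hK _ hjA i
  rw [← HomologicalComplex.exactAt_iff_isZero_homology] at h1 ⊢
  haveI : HomologicalComplex.HasMapBifunctor A K (tensRestr O X) (ComplexShape.up ℤ) :=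
    fun _ => inferInstance
  have e := Groth.Agent.H4.TC14.mapBifunctorMapIso (pfNatIso O X).symm A K
  have h2 : (((jS O X).mapHomologicalComplex (ComplexShape.up ℤ)).obj
      (CochainComplex.mapBifunctor A K (tensRestr O X))).ExactAt i :=
    HomologicalComplex.ExactAt.of_iso h1 e
  exact (exactAt_map_iff (jS O X) _ i).1 h2

end Groth.Agent.LD.EZ
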