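import Groth.Agent.Lib.Lead.EZ.AffSecExt
import Groth.Agent.Lib.Lead.EZ.ExtTransport
import Groth.Agent.Lib.Lead.XS.Vanish
import Groth.Agent.Lib.Lead.XS.AffHom
import Groth.Agent.Lib.Lead.QC.FinType
import Groth.Agent.Lib.Helper2.FormalModI

/-!
# Quasi-coherence of the local Ext sheaves, and `𝓔xt^i(M~, N~) ≅ (Ext^i_A(M, N))~`

On a locally Noetherian scheme with enough finite locally free modules, `𝓔xt^j(F, G)` is
quasi-coherent for `F` coherent and `G` quasi-coherent (dimension shifting, as in `XS/Vanish`).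
On `Spec A` with `A` Noetherian this gives `𝓔xt^i(M~, N~) ≅ (Ext^i_A(M, N))~` for `M` finite.
-/

set_option autoImplicit false
set_option linter.style.haveILetI false
noncomputable section
universe u
open CategoryTheory Limits AlgebraicGeometry TopologicalSpace Opposite Abelian

attribute [-instance] Groth.Agent.LD.QC.stalkModule
attribute [local instance] Groth.Agent.LD.MS.hasSheafHom

namespace Groth.Agent.LD.QcExtSh

open Groth.Agent.H2.HomSh Groth.Agent.LD Groth.Agent.LD.PD.HA Groth.Agent.LD.QC
  Groth.Agent.LD.XS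

variable {X : Scheme.{u}}

lemma qc_of_iso {M N : X.Modules} (e : M ≅ N) (h : M.IsQuasicoherent) : N.IsQuasicoherent :=
  (SheafOfModules.isQuasicoherent X.ringCatSheaf).prop_of_iso e h

/-- **the local Ext sheaves of a coherent module into a quasi-coherent one are
quasi-coherent.** -/
theorem qc_extSh [IsLocallyNoetherian X] [HasInjectiveResolutions (ModSite.Mod X.sheaf)]
    (hX : HasRes X) :
    ∀ (j : ℕ) (F : X.Modules), Coh.IsCoh F → ∀ (G : X.Modules), G.IsQuasicoherent →
      ((ModSite.extSh (O := X.sheaf) F j).obj G).IsQuasicoherent := by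
  intro j
  cases j with
  | zero =>
    intro F hF G hG
    haveI := hF.1
    haveI := hG
    obtain ⟨e⟩ := nonempty_zero_iso F G
    exact qc_of_iso e (qc_homSh (QC.isFinitePresentation_of_qc_ft F hF.1 hF.2))
  | succ j =>
    induction j with
    | zero =>
      intro F hF G hG
      haveI := hG
      obtain ⟨K, L, ι, π, w, hS, hL, hK⟩ := exists_ses hX F hF
      haveI : K.IsQuasicoherent := hK.1
      haveI : L.IsQuasicoherent := QC.qc_of_isFinLocFree L hL
      have hLfp := QC.isFinitePresentation_of_isFinLocFree L hL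
      obtain ⟨e⟩ := nonempty_cokernel_iso (S := ShortComplex.mk ι π w) hS hL G
      have h1 : (RefHull.homSh L G).IsQuasicoherent := qc_homSh hLfp
      have h2 : (RefHull.homSh K G).IsQuasicoherent :=
        qc_homSh (QC.isFinitePresentation_of_qc_ft K hK.1 hK.2)
      have hq : (cokernel (preHom ι G)).IsQuasicoherent := QC.qc_cokernel _ h1 h2
      exact qc_of_iso e hq
    | succ j ih =>
      intro F hF G hG
      obtain ⟨K, L, ι, π, w, hS, hL, hK⟩ := exists_ses hX F hF
      obtain ⟨e⟩ := nonempty_shift_iso (S := ShortComplex.mk ι π w) hS hL G j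
      exact qc_of_iso e (ih K hK G hG)

/-- **`𝓔xt^i(M~, N~) ≅ (Ext^i_A(M, N))~` on `Spec A`, `A` Noetherian, `M` finite.** -/
theorem main (A : Type u) [CommRing A] [IsNoetherianRing A]
    (M : Type u) [AddCommGroup M] [Module A M] [Module.Finite A M]
    (N : Type u) [AddCommGroup N] [Module A N]
    [HasInjectiveResolutions (ModSite.Mod (Spec (CommRingCat.of A)).sheaf)] (i : ℕ) :
    Nonempty (((ModSite.extSh (O := (Spec (CommRingCat.of A)).sheaf)
        (tilde (R := CommRingCat.of A) (ModuleCat.of A M)) i).obj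
        (tilde (R := CommRingCat.of A) (ModuleCat.of A N))) ≅
      tilde (R := CommRingCat.of A)
        (ModuleCat.of A (Abelian.Ext (ModuleCat.of A M) (ModuleCat.of A N) i))) := by
  haveI : IsNoetherianRing (CommRingCat.of A) := ‹IsNoetherianRing A›
  haveI : IsLocallyNoetherian (Spec (CommRingCat.of A)) := inferInstance
  have hY : HasRes (Spec (CommRingCat.of A)) := hasRes_of_isAffine _
  have hF : Coh.IsCoh (tilde (R := CommRingCat.of A) (ModuleCat.of A M)) :=
    ⟨inferInstance,
      (QC.spec_isFiniteType_tilde_iff (R := CommRingCat.of A) (ModuleCat.of A M)).mpr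
        ‹Module.Finite A M›⟩
  have hG : (tilde (R := CommRingCat.of A) (ModuleCat.of A N)).IsQuasicoherent := inferInstance
  haveI hE := qc_extSh hY i _ hF _ hG
  obtain ⟨Θ⟩ := AffSecExt.nonempty_sections_extSh_equiv hY i _ hF _ hG
  obtain ⟨φ, hφ⟩ := ExtTransport.exists_ext_semilinearEquiv
    ((Scheme.ΓSpecIso (CommRingCat.of A)).symm.commRingCatIsoToRingEquiv)
    (tEquiv A M) (tEquiv_smul A M) (tEquiv A N) (tEquiv_smul A N) i
  refine Groth.Agent.H2.FormalMod.nonempty_iso_tilde (B := CommRingCat.of A)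
    (ModuleCat.of A (Abelian.Ext (ModuleCat.of A M) (ModuleCat.of A N) i)) _
    (Θ.symm.toLinearMap.toAddMonoidHom.comp φ.toAddMonoidHom) ?_ ?_
  · intro b x
    exact (congrArg Θ.symm (hφ b x)).trans (Θ.symm.map_smul _ _)
  · exact Θ.symm.bijective.comp φ.bijective

end Groth.Agent.LD.QcExtSh
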