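import Mathlib
import Groth.Agent.Lib.Lead.EZ.HomFlasque
import Groth.Agent.Lib.Lead.MS.Flat2
import Groth.Agent.Lib.Lead.EO.CohRange
import Groth.Agent.Lib.Lead.EO.SerreRange
import Groth.Agent.Lib.Lead.EZ.ExtZSupp
import Groth.Agent.Lib.Lead.RS.Coherent
import Groth.Agent.Lib.Helper6.HC2
import Groth.Agent.Lib.Lead.RP.Compare2
import Groth.Agent.Lib.Lead.SC.RPush
import Groth.Agent.Lib.Lead.SC.Flasque
import Groth.Agent.Lib.Helper5.AG.ProjProper

/-! # Coherence of the relative Ext sheaves along a projective morphism -/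

set_option autoImplicit false
universe u
open CategoryTheory Limits Opposite AlgebraicGeometry TopologicalSpace

namespace Groth.Agent.LD.RelExtCoh

open Groth.Agent.LD

variable {X : Scheme.{u}}

/-- **the internal hom into an injective module is flasque**, for any right adjoint of
`F ⊗ -` (same proof as `HomFlasque.surjective_res_sheafHom`). -/
theorem surjective_res_of_adj (F : X.Modules) {H : X.Modules ⥤ X.Modules}
    (adj : (DCoh.tensorBi (X := X)).obj F ⊣ H) (I : X.Modules) (hI : Injective I)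
    (U V : X.Opens) (hUV : U ≤ V) :
    Function.Surjective ((H.obj I).val.map (homOfLE hUV).op).hom := by
  intro t
  haveI := HomFlasque.mono_tensor_ρ F hUV
  obtain ⟨ψt, hψt⟩ : ∃ ψt : HomFlasque.P U ⟶ H.obj I, HomFlasque.eP U (H.obj I) ψt = t :=
    ⟨(HomFlasque.eP U _).symm t, Equiv.apply_symm_apply _ _⟩
  obtain ⟨φ', hφ'⟩ : ∃ φ' : ((DCoh.tensorBi (X := X)).obj F).obj (HomFlasque.P V) ⟶ I,
      ((DCoh.tensorBi (X := X)).obj F).map (HomFlasque.ρ hUV) ≫ φ' =
        (adj.homEquiv _ _).symm ψt :=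
    ⟨Injective.factorThru _ _, Injective.comp_factorThru _ _⟩
  have h1 : HomFlasque.ρ hUV ≫ adj.homEquiv _ _ φ' = ψt := by
    rw [← Adjunction.homEquiv_naturality_left, hφ', Equiv.apply_symm_apply]
  refine ⟨HomFlasque.eP V _ (adj.homEquiv _ _ φ'), ?_⟩
  rw [← HomFlasque.eP_ρ_comp, h1, hψt]

/-- a module all of whose restriction maps are surjective has no higher direct images. -/
theorem isZero_Rpush_of_surjective_res {Y : Scheme.{u}} (f : X ⟶ Y)
    [HasInjectiveResolutions X.Modules] (M : X.Modules)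
    (hM : ∀ (U V : X.Opens) (hUV : U ≤ V),
      Function.Surjective (M.val.map (homOfLE hUV).op).hom) (q : ℕ) :
    IsZero ((Coh.Rpush f (q + 1)).obj M) := by
  haveI hfl : TopCat.Sheaf.IsFlasque (X := X.carrier) (Coh.toAb M) :=
    { epi := fun {U V} i => by
        rw [AddCommGrpCat.epi_iff_surjective]
        intro y
        obtain ⟨x, hx⟩ := hM V.unop U.unop (leOfHom i.unop) y
        exact ⟨x, hx⟩ }
  obtain ⟨e⟩ := RP.nonempty_toAb_Rpush_iso f M (q + 1)
  have hb : Opens.IsBasis (Set.univ : Set (Opens Y)) :=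
    Opens.isBasis_iff_nbhd.2 (fun {U x} hx => ⟨U, trivial, hx, le_rfl⟩)
  have h0 : IsZero ((Coh.RpushAb f (q + 1)).obj ((RP.τ X).obj M)) :=
    SC.isZero_rightDerived_push f.base Set.univ hb 0
      (fun V _ i _ => SC.subsingleton_ext_of_isFlasque i (Coh.toAb M) _) q (Nat.zero_le _)
  have h1 : IsZero ((RP.τ Y).obj ((Coh.Rpush f (q + 1)).obj M)) := IsZero.of_iso h0 e
  rw [IsZero.iff_id_eq_zero]
  apply (RP.τ Y).map_injective
  rw [CategoryTheory.Functor.map_id, CategoryTheory.Functor.map_zero]
  exact (IsZero.iff_id_eq_zero _).1 h1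

section Main

variable {Y : Scheme.{u}} (f : X ⟶ Y)

/-- direct image, as a functor out of the prelude's category of modules -/
noncomputable def Pm : ModSite.Mod X.sheaf ⥤ Y.Modules := Scheme.Modules.pushforward f

instance : (Pm f).Additive := inferInstanceAs ((Scheme.Modules.pushforward f).Additive)

instance : PreservesFiniteLimits (Pm f) := by
  haveI : PreservesLimitsOfSize.{0, 0} (Scheme.Modules.pushforward f) :=
    (Scheme.Modules.pullbackPushforwardAdjunction f).rightAdjoint_preservesLimits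
  exact PreservesLimitsOfSize.preservesFiniteLimits.{0, 0} (Scheme.Modules.pushforward f)

/-- **S16280**: the relative Ext sheaves of coherent modules along a projective morphism to a
Noetherian scheme are coherent. -/
theorem isCoh_relExt [IsNoetherian Y] (n : ℕ) (e : X ⟶ CohB1.ProjSpaceOver n Y)
    [IsClosedImmersion e] (he : e ≫ CohB1.ProjSpaceOver.toBase n Y = f)
    (F G : X.Modules) (hF : Coh.IsCoh F) (hG : Coh.IsCoh G)
    [ModSite.HasSheafHom (O := X.sheaf) F] [HasInjectiveResolutions (ModSite.Mod X.sheaf)]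
    [(ModSite.sheafHom (O := X.sheaf) F ⋙ Scheme.Modules.pushforward f).Additive] (p : ℕ) :
    Coh.IsCoh (((ModSite.sheafHom (O := X.sheaf) F ⋙
      Scheme.Modules.pushforward f).rightDerived p).obj G) := by
  haveI : IsProper (CohB1.ProjSpaceOver.toBase n Y) := Groth.Agent.H5.AG.isProper_toBase n Y
  haveI : IsProper f := by rw [← he]; infer_instance
  haveI : IsLocallyNoetherian X := LocallyOfFiniteType.isLocallyNoetherian f
  haveI hX : HasInjectiveResolutions X.Modules :=
    ‹HasInjectiveResolutions (ModSite.Mod X.sheaf)›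
  have adjM : (DCoh.tensorBi (X := X)).obj F ⊣ ModSite.sheafHom (O := X.sheaf) F :=
    (ModSite.sheafHomAdj (O := X.sheaf) F).ofNatIsoLeft (MS.braidIso (O := X.sheaf) F).symm
  have h1 : ∀ I : ModSite.Mod X.sheaf, Injective I →
      EO.Acyc (Pm f) ((ModSite.sheafHom (O := X.sheaf) F).obj I) := by
    intro I hI q
    exact isZero_Rpush_of_surjective_res f _ (surjective_res_of_adj F adjM I hI) q
  have h2 : ∀ q, q ≤ p → ∀ p', Coh.IsCoh (((Pm f).rightDerived p').obj
      (((ModSite.sheafHom (O := X.sheaf) F).rightDerived q).obj G)) := by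
    intro q _ p'
    exact RS.isCoh_Rpush f Groth.Agent.H6.HC.finCoh.{u} _
      (EZ.isCoh_extSh_of_isLocallyNoetherian X F G hF hG q) p'
  exact EO.P_rightDerived_comp (ModSite.sheafHom (O := X.sheaf) F) (Pm f)
    (EO.isWeakSerre_isCoh Y) G h1 p h2 p le_rfl

end Main

end Groth.Agent.LD.RelExtCoh
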