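import Groth.Agent.Lib.Lead.EZ.RelExtTwist
import Groth.Agent.Lib.Helper2.HomSh5
import Groth.Agent.Lib.Lead.HF.Killed
import Groth.Agent.Lib.Lead.Misc3.KRRUnit
import Groth.Agent.Lib.Helper1.CohLen
import Groth.Agent.Lib.Lead.QC.ProjFormulaLF
import Groth.Agent.Lib.Lead.QC.LocFree2
import Groth.Agent.Lib.Lead.MS.Flat2

/-! # Relative Ext sheaves and twists by finite locally free modules

Reflexivity of finite locally free modules on an arbitrary scheme, the adjunction
`- ⊗ E^∨ ⊣ - ⊗ E`, and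
`Ext^p_f(F ⊗ L, G ⊗ f^*N) ≅ Ext^p_f(F, G ⊗ L^∨) ⊗ N` for `L`, `N` finite locally free (S16282). -/

set_option autoImplicit false
set_option linter.style.haveILetI false
noncomputable section
universe u
open CategoryTheory Limits AlgebraicGeometry TopologicalSpace Opposite

namespace Groth.Agent.LD.XS.DI.LF

open Groth.Agent.H2.HomSh Groth.Agent.LD Groth.Agent.LD.QC Groth.Agent.LD.XS
  Groth.Agent.LD.XS.DI Groth.Agent.LD.RelExtTwist

attribute [-instance] Groth.Agent.LD.QC.stalkModule
attribute [local instance] Groth.Agent.LD.MS.hasSheafHom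

variable {X : Scheme.{u}}

/-! ### Reflexivity -/

theorem isFinLocFree_Dl (B : X.Modules) (hB : FlatMod.IsFinLocFree B) :
    FlatMod.IsFinLocFree (Dl B) := by
  haveI : B.IsQuasicoherent := qc_of_isFinLocFree B hB
  exact QC.isFinLocFree_of_iso (dualIso B)
    (PD.isFinLocFree_sheafHom B (unitMod X) hB (isInvertible_unit X))

/-- **a finite locally free module is reflexive** (on any scheme; adapted from the locally
Noetherian case of helper2/helper5). -/
theorem isIso_bidualMap (B : X.Modules) (hB : FlatMod.IsFinLocFree B) :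
    IsIso (RefHull.bidualMap B) := by
  have hD : FlatMod.IsFinLocFree (RefHull.dual B) := isFinLocFree_Dl B hB
  have hDD : FlatMod.IsFinLocFree (RefHull.ddual B) := isFinLocFree_Dl _ hD
  have hFP := isFinitePresentation_of_isFinLocFree B hB
  have hDP := isFinitePresentation_of_isFinLocFree _ hD
  rw [isIso_iff_stalk _ (qc_of_isFinLocFree B hB) (qc_of_isFinLocFree _ hDD)]
  intro x
  have hcomp : ⇑(RefHull.bidualAt B x) =
      ⇑(RefHull.evalStalk (RefHull.dual B) (Coh.structureModule X) x) ∘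
        ⇑(RefHull.stalkMapₗ (RefHull.bidualMap B) x) := by
    funext v
    exact (evalStalk_stalkMap_bidualMap B x v).symm
  have hb : Function.Bijective (RefHull.bidualAt B x) := by
    rw [bidualAt_bijective_iff hFP x]
    unfold RefHull.IsReflexiveAt
    haveI : Module.Free (X.presheaf.stalk x) (B.presheaf.stalk x) :=
      free_stalk_of_isFinLocFree B hB x
    haveI : B.IsQuasicoherent := qc_of_isFinLocFree B hB
    haveI := hFP
    haveI : Module.Finite (X.presheaf.stalk x) (B.presheaf.stalk x) :=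
      Groth.Agent.H1.CohLen.finite_stalk B inferInstance x
    infer_instance
  have hb' : Function.Bijective
      (⇑(RefHull.evalStalk (RefHull.dual B) (Coh.structureModule X) x) ∘
        ⇑(RefHull.stalkMapₗ (RefHull.bidualMap B) x)) := by
    rw [← hcomp]
    exact hb
  exact (Function.Bijective.of_comp_iff' (evalStalk_bijective hDP x) _).mp hb'

/-- the reflexivity isomorphism `E ≅ E^∨∨`. -/
def reflIso (E : X.Modules) (hE : FlatMod.IsFinLocFree E) : E ≅ Dl (Dl E) :=
  @asIso _ _ _ _ (RefHull.bidualMap E) (isIso_bidualMap E hE)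

/-! ### The adjunction `- ⊗ E^∨ ⊣ - ⊗ E` -/

/-- `- ⊗ E^∨ ⊣ - ⊗ E` for `E` finite locally free. -/
def adjDual (E : X.Modules) (hE : FlatMod.IsFinLocFree E) : twF (Dl E) ⊣ twF E :=
  haveI : (Dl E).IsQuasicoherent := qc_of_isFinLocFree _ (isFinLocFree_Dl E hE)
  ((adjR (Dl E)).ofNatIsoRight (thetaIso (Dl E) (isFinLocFree_Dl E hE)).symm).ofNatIsoRight
    (twFCongr (reflIso E hE).symm)

/-- exactness and preservation of injectives for `- ⊗ E`, `E` finite locally free. -/
lemma twF_instances_lf (E : X.Modules) (hE : FlatMod.IsFinLocFree E) :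
    PreservesFiniteLimits (twF E) ∧ (twF E).PreservesInjectiveObjects := by
  have adj := adjDual E hE
  haveI : (twF (Dl E)).PreservesMonomorphisms :=
    ⟨fun i _ => by
      rw [twF_map]
      exact mono_tensorMap_of_isFinLocFree i (Dl E) (isFinLocFree_Dl E hE)⟩
  haveI : PreservesLimitsOfSize.{0, 0} (twF E) := adj.rightAdjoint_preservesLimits
  exact ⟨PreservesLimitsOfSize.preservesFiniteLimits.{0, 0} _,
    Functor.preservesInjectiveObjects_of_adjunction_of_preservesMonomorphisms adj⟩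

/-- **`𝓗om(G, B ⊗ E) ≅ 𝓗om(G, B) ⊗ E`** for `E` finite locally free, naturally in `B`
(the construction of `PD.sheafHomTwistIso`, with the adjunction `adjDual`). -/
def sheafHomTwistIsoLF (E : X.Modules) (hE : FlatMod.IsFinLocFree E)
    (G : X.Modules) [ModSite.HasSheafHom (O := X.sheaf) G] :
    twF E ⋙ ModSite.sheafHom (O := X.sheaf) G ≅ ModSite.sheafHom (O := X.sheaf) G ⋙ twF E :=
  let adjL : twF (Dl E) ⊣ twF E := adjDual E hE
  let φ : twF G ⋙ twF (Dl E) ≅ twF (Dl E) ⋙ twF G :=
    (twFComp G (Dl E)).symm ≪≫ twFCongr (tensorCommGen G (Dl E)) ≪≫ twFComp (Dl E) G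
  (((ModSite.sheafHomAdj (O := X.sheaf) G).comp adjL).ofNatIsoLeft φ).rightAdjointUniq
    (adjL.comp (ModSite.sheafHomAdj (O := X.sheaf) G))

/-! ### The projection formula -/

/-- the symmetry `E ⊗ - ≅ - ⊗ E`. -/
def braidLT (E : X.Modules) : LT E ≅ twF E := MS.braidIso (O := X.sheaf) E

variable {Y : Scheme.{u}} (f : X ⟶ Y)

/-- the projection formula for a finite locally free module, for right tensoring. -/
def projIsoLF (N : Y.Modules) (hN : FlatMod.IsFinLocFree N) :
    Scheme.Modules.pushforward f ⋙ twF N ≅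
      twF ((Scheme.Modules.pullback f).obj N) ⋙ Scheme.Modules.pushforward f :=
  Functor.isoWhiskerLeft (Scheme.Modules.pushforward f) (braidLT N).symm ≪≫
    projIsoL f N hN ≪≫
    Functor.isoWhiskerRight (braidLT ((Scheme.Modules.pullback f).obj N))
      (Scheme.Modules.pushforward f)

variable (F : X.Modules) [ModSite.HasSheafHom (O := X.sheaf) F]

/-- `f_* 𝓗om(F, G ⊗ f^*N) ≅ f_* 𝓗om(F, G) ⊗ N`, naturally in `G`, for `N` finite locally free. -/
def relTwIsoLF (N : Y.Modules) (hN : FlatMod.IsFinLocFree N) :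
    TwM ((Scheme.Modules.pullback f).obj N) ⋙ RH f F ≅ RH f F ⋙ twF N :=
  (show TwM ((Scheme.Modules.pullback f).obj N) ⋙ RH f F ≅
      (twF ((Scheme.Modules.pullback f).obj N) ⋙ ModSite.sheafHom (O := X.sheaf) F) ⋙
        Scheme.Modules.pushforward f from (Functor.associator _ _ _).symm) ≪≫
  Functor.isoWhiskerRight
    (sheafHomTwistIsoLF ((Scheme.Modules.pullback f).obj N) (isFinLocFree_pullback f N hN) F)
    (Scheme.Modules.pushforward f) ≪≫
  (show (ModSite.sheafHom (O := X.sheaf) F ⋙ twF ((Scheme.Modules.pullback f).obj N)) ⋙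
        Scheme.Modules.pushforward f ≅
      ModSite.sheafHom (O := X.sheaf) F ⋙
        (twF ((Scheme.Modules.pullback f).obj N) ⋙ Scheme.Modules.pushforward f) from
    Functor.associator _ _ _) ≪≫
  Functor.isoWhiskerLeft (ModSite.sheafHom (O := X.sheaf) F) (projIsoLF f N hN).symm ≪≫
  (show ModSite.sheafHom (O := X.sheaf) F ⋙ (Scheme.Modules.pushforward f ⋙ twF N) ≅
      RH f F ⋙ twF N from (Functor.associator _ _ _).symm)

section Derived

variable [HasInjectiveResolutions (ModSite.Mod X.sheaf)]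
  [(ModSite.sheafHom (O := X.sheaf) F ⋙ Scheme.Modules.pushforward f).Additive]

/-- **`Ext^p_f(F, G ⊗ f^*N) ≅ Ext^p_f(F, G) ⊗ N`** for `N` finite locally free on the base. -/
theorem nonempty_relExt_twist_iso_lf (N : Y.Modules) (hN : FlatMod.IsFinLocFree N)
    (G : X.Modules) (p : ℕ) :
    Nonempty (((RH f F).rightDerived p).obj
        (CohB1.tensorMod G ((Scheme.Modules.pullback f).obj N)) ≅
      CohB1.tensorMod (((RH f F).rightDerived p).obj G) N) := by
  have hE' := isFinLocFree_pullback f N hN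
  obtain ⟨i1, i2⟩ := twF_instances_lf ((Scheme.Modules.pullback f).obj N) hE'
  haveI j1 : PreservesFiniteLimits (TwM ((Scheme.Modules.pullback f).obj N)) := i1
  haveI j2 : (TwM ((Scheme.Modules.pullback f).obj N)).PreservesInjectiveObjects := i2
  obtain ⟨i3, -⟩ := twF_instances_lf N hN
  haveI := i3
  haveI : (twF N).PreservesHomology := Functor.preservesHomology_of_preservesEpis_and_kernels _
  exact ⟨SC.compObjIso (TwM ((Scheme.Modules.pullback f).obj N)) (RH f F) (RH f F ⋙ twF N)
      (relTwIsoLF f F N hN) p G ≪≫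
    (EZ.rightDerivedPostcompNatIso (RH f F) (twF N) p).app G⟩

end Derived

section Main

variable (L : X.Modules) [L.IsQuasicoherent] (hL : FlatMod.IsFinLocFree L)

/-- `𝓗om(F ⊗ L, -) ≅ 𝓗om(F, - ⊗ L^∨)`. -/
def homTensorIso :
    ModSite.sheafHom (O := X.sheaf) (CohB1.tensorMod F L) ≅
      TwM (Dl L) ⋙ ModSite.sheafHom (O := X.sheaf) F :=
  let adj' : twF (CohB1.tensorMod F L) ⊣
      ModSite.sheafHom (O := X.sheaf) L ⋙ ModSite.sheafHom (O := X.sheaf) F :=
    ((ModSite.sheafHomAdj (O := X.sheaf) F).comp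
      (ModSite.sheafHomAdj (O := X.sheaf) L)).ofNatIsoLeft (twFComp F L).symm
  (ModSite.sheafHomAdj (O := X.sheaf) (CohB1.tensorMod F L)).rightAdjointUniq adj' ≪≫
    (show ModSite.sheafHom (O := X.sheaf) L ⋙ ModSite.sheafHom (O := X.sheaf) F ≅
        TwM (Dl L) ⋙ ModSite.sheafHom (O := X.sheaf) F from
      Functor.isoWhiskerRight (sheafHomTwIso L hL) (ModSite.sheafHom (O := X.sheaf) F))

/-- `f_* 𝓗om(F, - ⊗ L^∨) ≅ f_* 𝓗om(F ⊗ L, -)`. -/
def relHomTensorIso : TwM (Dl L) ⋙ RH f F ≅ RH f (CohB1.tensorMod F L) :=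
  (show TwM (Dl L) ⋙ RH f F ≅
      (TwM (Dl L) ⋙ ModSite.sheafHom (O := X.sheaf) F) ⋙ Scheme.Modules.pushforward f from
    (Functor.associator _ _ _).symm) ≪≫
  Functor.isoWhiskerRight (homTensorIso F L hL).symm (Scheme.Modules.pushforward f)

include hL in
/-- **S16282**: `Ext^p_f(F ⊗ L, G ⊗ f^*N) ≅ Ext^p_f(F, G ⊗ L^∨) ⊗ N`. -/
theorem main [HasInjectiveResolutions (ModSite.Mod X.sheaf)]
    [(ModSite.sheafHom (O := X.sheaf) F ⋙ Scheme.Modules.pushforward f).Additive]
    [(ModSite.sheafHom (O := X.sheaf) (CohB1.tensorMod F L) ⋙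
      Scheme.Modules.pushforward f).Additive]
    (G : X.Modules) (N : Y.Modules) (hN : FlatMod.IsFinLocFree N) (p : ℕ) :
    Nonempty (((RH f (CohB1.tensorMod F L)).rightDerived p).obj
        (CohB1.tensorMod G ((Scheme.Modules.pullback f).obj N)) ≅
      CohB1.tensorMod (((RH f F).rightDerived p).obj
        (CohB1.tensorMod G
          ((ModSite.sheafHom (O := X.sheaf) L).obj (Coh.structureModule X)))) N) := by
  haveI k1 : PreservesFiniteLimits (TwM (Dl L)) := preservesFiniteLimits_twF_dual L hL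
  have adj : twF L ⊣ twF (Dl L) := (adjR L).ofNatIsoRight (thetaIso L hL).symm
  haveI : (twF L).PreservesMonomorphisms :=
    ⟨fun i _ => by
      rw [twF_map]
      exact mono_tensorMap_of_isFinLocFree i L hL⟩
  haveI k2' : (twF (Dl L)).PreservesInjectiveObjects :=
    Functor.preservesInjectiveObjects_of_adjunction_of_preservesMonomorphisms adj
  haveI k2 : (TwM (Dl L)).PreservesInjectiveObjects := k2'
  have a1 := SC.compObjIso (TwM (Dl L)) (RH f F) (RH f (CohB1.tensorMod F L))
    (relHomTensorIso f F L hL) p (CohB1.tensorMod G ((Scheme.Modules.pullback f).obj N))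
  have a2 : (TwM (Dl L)).obj (CohB1.tensorMod G ((Scheme.Modules.pullback f).obj N)) ≅
      CohB1.tensorMod (CohB1.tensorMod G (Dl L)) ((Scheme.Modules.pullback f).obj N) :=
    ((twFComp ((Scheme.Modules.pullback f).obj N) (Dl L)).symm ≪≫
      twFCongr (tensorCommGen ((Scheme.Modules.pullback f).obj N) (Dl L)) ≪≫
      twFComp (Dl L) ((Scheme.Modules.pullback f).obj N)).app G
  obtain ⟨a3⟩ := nonempty_relExt_twist_iso_lf f F N hN (CohB1.tensorMod G (Dl L)) p
  have a4 : CohB1.tensorMod G (Dl L) ≅ CohB1.tensorMod G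
      ((ModSite.sheafHom (O := X.sheaf) L).obj (Coh.structureModule X)) :=
    ((ModSite.tensorBi X.sheaf).obj G).mapIso (dualIso L).symm
  exact ⟨a1.symm ≪≫ ((RH f F).rightDerived p).mapIso a2 ≪≫ a3 ≪≫
    (twF N).mapIso (((RH f F).rightDerived p).mapIso a4)⟩

end Main

end Groth.Agent.LD.XS.DI.LF
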