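import Mathlib
import Groth.Agent.Lib.Lead.EZ.ExtRestr
import Groth.Agent.Lib.Lead.QCQS.BaseChange

/-! # Relative Ext sheaves commute with restriction to an open of the base -/

set_option autoImplicit false
universe u
open CategoryTheory Limits Opposite AlgebraicGeometry TopologicalSpace

namespace Groth.Agent.LD.ExtRestr

open Groth.Agent.LD.MV Groth.Agent.LD

section General

universe v₁ v₂ v₃ v₄ w₁ w₂ w₃ w₄
variable {𝒜 : Type w₁} [Category.{v₁} 𝒜] [Abelian 𝒜] [HasInjectiveResolutions 𝒜]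
  {𝒟 : Type w₂} [Category.{v₂} 𝒟] [Abelian 𝒟] [HasInjectiveResolutions 𝒟]
  {ℬ : Type w₃} [Category.{v₃} ℬ] [Abelian ℬ] {ℰ : Type w₄} [Category.{v₄} ℰ] [Abelian ℰ]

/-- derived functors commute with exact functors intertwining the functors, the one on the
source preserving injectives. -/
theorem nonempty_rightDerived_iso₂
    (R : 𝒜 ⥤ 𝒟) [R.Additive] [PreservesFiniteLimits R] [R.PreservesEpimorphisms]
    [R.PreservesInjectiveObjects] (S : ℬ ⥤ ℰ) [S.Additive] [S.PreservesHomology]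
    (T : 𝒜 ⥤ ℬ) [T.Additive] (T' : 𝒟 ⥤ ℰ) [T'.Additive]
    (e : R ⋙ T' ≅ T ⋙ S) (i : ℕ) (M : 𝒜) :
    Nonempty (S.obj ((T.rightDerived i).obj M) ≅ (T'.rightDerived i).obj (R.obj M)) :=
  ⟨(compExactIso T S M i).symm ≪≫ (SC.compObjIso R T' (T ⋙ S) e i M).symm⟩

end General

variable {X Y : Scheme.{u}} (f : X ⟶ Y) (W : Y.Opens) (F : X.Modules)
  [ModSite.HasSheafHom (O := X.sheaf) F]
  [ModSite.HasSheafHom (O := (↑(f ⁻¹ᵁ W) : Scheme.{u}).sheaf) (F.restrict (f ⁻¹ᵁ W).ι)]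

/-- the intertwining isomorphism for `G ↦ f_* Hom(F, G)`. -/
noncomputable def relHomRestrIso :
    Rm (f ⁻¹ᵁ W) ⋙ (ModSite.sheafHom (O := (↑(f ⁻¹ᵁ W) : Scheme.{u}).sheaf)
        (F.restrict (f ⁻¹ᵁ W).ι) ⋙ Scheme.Modules.pushforward (f ∣_ W)) ≅
      (ModSite.sheafHom (O := X.sheaf) F ⋙ Scheme.Modules.pushforward f) ⋙ Rf W :=
  Functor.isoWhiskerRight (homRestrIso' (f ⁻¹ᵁ W) F) (Scheme.Modules.pushforward (f ∣_ W)) ≪≫
    Functor.isoWhiskerLeft (ModSite.sheafHom (O := X.sheaf) F) (QCQS.baseChangeIso f W).symm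

/-- **S16281**. -/
theorem nonempty_restr_relExt_iso (G : X.Modules) (p : ℕ)
    [HasInjectiveResolutions (ModSite.Mod X.sheaf)]
    [(ModSite.sheafHom (O := X.sheaf) F ⋙ Scheme.Modules.pushforward f).Additive]
    [HasInjectiveResolutions (ModSite.Mod (↑(f ⁻¹ᵁ W) : Scheme.{u}).sheaf)]
    [(ModSite.sheafHom (O := (↑(f ⁻¹ᵁ W) : Scheme.{u}).sheaf) (F.restrict (f ⁻¹ᵁ W).ι) ⋙
      Scheme.Modules.pushforward (f ∣_ W)).Additive] :
    Nonempty ((Scheme.Modules.restrictFunctor W.ι).obj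
        (((ModSite.sheafHom (O := X.sheaf) F ⋙ Scheme.Modules.pushforward f).rightDerived p).obj G) ≅
      ((ModSite.sheafHom (O := (↑(f ⁻¹ᵁ W) : Scheme.{u}).sheaf) (F.restrict (f ⁻¹ᵁ W).ι) ⋙
          Scheme.Modules.pushforward (f ∣_ W)).rightDerived p).obj
        (G.restrict (f ⁻¹ᵁ W).ι)) := by
  haveI : PreservesFiniteLimits (Rf W) := by
    haveI : PreservesLimitsOfSize.{0, 0} (Rf W) := (adjW W).rightAdjoint_preservesLimits
    exact PreservesLimitsOfSize.preservesFiniteLimits.{0, 0} (Rf W)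
  haveI : (Rf W).PreservesEpimorphisms :=
    Functor.preservesEpimorphisms_of_adjunction (Scheme.Modules.restrictAdjunction W.ι)
  haveI : (Rf W).PreservesHomology := Functor.preservesHomology_of_preservesEpis_and_kernels (Rf W)
  exact nonempty_rightDerived_iso₂ (Rm (f ⁻¹ᵁ W)) (Rf W)
    (ModSite.sheafHom (O := X.sheaf) F ⋙ Scheme.Modules.pushforward f)
    (ModSite.sheafHom (O := (↑(f ⁻¹ᵁ W) : Scheme.{u}).sheaf) (F.restrict (f ⁻¹ᵁ W).ι) ⋙
      Scheme.Modules.pushforward (f ∣_ W)) (relHomRestrIso f W F) p G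

end Groth.Agent.LD.ExtRestr
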