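import Groth.Agent.Lib.Lead.EZ.RelExtCoh
import Groth.Agent.Lib.Lead.PD.HomTwist
import Groth.Agent.Lib.Lead.QC.ProjFormula
import Groth.Agent.Lib.Lead.SC.MapResNat
import Groth.Agent.Lib.Lead.EZ.PostcompNat
import Groth.Agent.Lib.Lead.EZ.DerivedIso
import Groth.Agent.Lib.Lead.XS.DualExt
import Groth.Agent.Lib.Helper5.Glue.F
import Groth.Agent.Lib.Helper2.FlC
import Groth.Agent.Lib.Lead.RP.RelExtSS
import Groth.Agent.Lib.Lead.GSS.Degenerate

/-! # Relative Ext sheaves and twists

`Ext^p_f(F, G ⊗ f^*M) ≅ Ext^p_f(F, G) ⊗ M` for `M` invertible on the base, a ranged version of the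
degenerate Grothendieck spectral sequence, and the isomorphism
`g_* Ext^p_f(F, G(l)) ≅ Ext^p_{gf}(F, G(l))` for `l ≫ 0` (S16284). -/

set_option autoImplicit false
set_option linter.style.haveILetI false
universe v u
open CategoryTheory Limits AlgebraicGeometry TopologicalSpace Opposite

namespace Groth.Agent.LD.RelExtTwist

attribute [-instance] Groth.Agent.LD.QC.stalkModule

section Degenerate

/-- single-degree version of `SS.nonempty_iso_of_single`: the vanishing is only required in the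
total degree `n`. -/
theorem nonempty_iso_of_single_at {D : Type u} [Category.{v} D] [Abelian D] {r₀ : ℤ}
    (E : CohomologicalSpectralSequence D r₀) {H : ℤ → D} (a : SpSeq.Abutment E H)
    (r : ℤ) (hr : r₀ ≤ r) (n q : ℤ)
    (hdeg : ∀ q' : ℤ, q' ≠ q → IsZero ((E.page r hr).X (n - q', q')))
    (hdisc : (a.filObj n).IsDiscrete) (hexh : a.IsExhaustive n)
    (hst : SpSeq.StationaryAt E (n - q, q) r) :
    Nonempty (H n ≅ (E.page r hr).X (n - q, q)) := by
  have hstep : ∀ p : ℤ, p ≠ n - q → a.fil n (p + 1) = a.fil n p := by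
    intro p hp
    refine SS.fil_succ_eq E a n p r hr ?_
    have := hdeg (n - p) (by omega)
    rwa [show n - (n - p) = p by omega] at this
  have hup : ∀ m : ℤ, n - q + 1 ≤ m → a.fil n m = a.fil n (n - q + 1) := by
    intro m hm
    induction m, hm using Int.le_induction with
    | base => rfl
    | succ m hm ih => rw [hstep m (by omega), ih]
  have hdown : ∀ m : ℤ, m ≤ n - q → a.fil n m = a.fil n (n - q) := by
    intro m hm
    induction m, hm using Int.le_induction_down with
    | base => rfl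
    | pred m hm ih =>
      have := hstep (m - 1) (by omega)
      rw [show m - 1 + 1 = m by omega] at this
      rw [← this, ih]
  obtain ⟨b, hb⟩ := hdisc
  change a.fil n b = ⊥ at hb
  have hbot : a.fil n (n - q + 1) = ⊥ := by
    rw [← hup (max b (n - q + 1)) (le_max_right _ _)]
    exact le_bot_iff.1 (hb ▸ a.anti n (le_max_left b (n - q + 1)))
  have htop : a.fil n (n - q) = ⊤ := by
    refine top_le_iff.1 (hexh.2 ?_)
    rintro _ ⟨m, rfl⟩
    change a.fil n m ≤ _
    rcases le_total m (n - q) with hm | hm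
    · exact (hdown m hm).le
    · exact a.anti n hm
  have hβ := a.β (n - q, q)
  dsimp only at hβ
  generalize hm : n - q + q = m at hβ
  obtain rfl : n = m := by omega
  obtain ⟨e1⟩ := SS.nonempty_page_iso_of_stationary E _ _ (a.stat (n - q, q))
    (max r (a.rk (n - q, q))) (le_max_right _ _)
  obtain ⟨e2⟩ := SS.nonempty_page_iso_of_stationary E _ _ hst
    (max r (a.rk (n - q, q))) (le_max_left _ _)
  have e3 : SpSeq.grPiece (a.fil n) (a.anti n) (n - q) ≅ H n :=
    Groth.Agent.LD.GSS.subquotIsoOfEq _ bot_le htop hbot ≪≫ SS.subquotTopBotIso _ _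
  exact ⟨e3.symm ≪≫ hβ.symm ≪≫ e1.symm ≪≫ e2⟩

variable {C C' C'' : Type u} [Category.{v} C] [Category.{v} C'] [Category.{v} C'']
  [Abelian C] [Abelian C'] [Abelian C''] [HasInjectiveResolutions C] [HasInjectiveResolutions C']
  (T : C ⥤ C') [T.Additive] (S : C' ⥤ C'') [S.Additive] [PreservesFiniteLimits S]
  (hT : ∀ Q : C, Injective Q → ∀ q : ℕ, 0 < q → IsZero ((S.rightDerived q).obj (T.obj Q))) (A : C)

include hT in
/-- ranged version of the degenerate Grothendieck spectral sequence: only the vanishing of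
`R^{a+1} S (R^b T A)` for `b ≤ q` is needed for `R^q (T ⋙ S) A ≅ S (R^q T A)`. -/
theorem nonempty_rightDerived_comp_iso_of_isZero_le (q : ℕ)
    (h : ∀ a b : ℕ, b ≤ q → IsZero ((S.rightDerived (a + 1)).obj ((T.rightDerived b).obj A))) :
    Nonempty (((T ⋙ S).rightDerived q).obj A ≅ S.obj ((T.rightDerived q).obj A)) := by
  obtain ⟨E, a, hfin, -, hE2⟩ := Groth.Agent.H2.GSSGen.exists_gss T S hT A
  have hz : ∀ pq : ℤ × ℤ, 1 ≤ pq.1 → pq.2 ≤ (q : ℤ) → IsZero ((E.page 2 le_rfl).X pq) := by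
    intro pq h1 h2
    obtain ⟨e⟩ := hE2 pq.1 pq.2
    refine IsZero.of_iso ?_ e
    by_cases hc : 0 ≤ pq.1 ∧ 0 ≤ pq.2
    · rw [if_pos hc]
      obtain ⟨p'', hp''⟩ : ∃ p'' : ℕ, pq.1.toNat = p'' + 1 := ⟨pq.1.toNat - 1, by omega⟩
      rw [hp'']
      exact h p'' pq.2.toNat (by omega)
    · rw [if_neg hc]
      exact isZero_zero _
  have hneg : ∀ pq : ℤ × ℤ, pq.1 < 0 → IsZero ((E.page 2 le_rfl).X pq) := by
    intro pq h1
    obtain ⟨e⟩ := hE2 pq.1 pq.2
    refine IsZero.of_iso ?_ e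
    rw [if_neg (by omega)]
    exact isZero_zero _
  have hdeg : ∀ q' : ℤ, q' ≠ (q : ℤ) → IsZero ((E.page 2 le_rfl).X ((q : ℤ) - q', q')) := by
    intro q' hq'
    rcases lt_trichotomy q' (q : ℤ) with hlt | heq | hgt
    · exact hz ((q : ℤ) - q', q') (show 1 ≤ (q : ℤ) - q' by omega) (show q' ≤ (q : ℤ) by omega)
    · exact absurd heq hq'
    · exact hneg ((q : ℤ) - q', q') (show (q : ℤ) - q' < 0 by omega)
  have hst : SpSeq.StationaryAt E ((q : ℤ) - (q : ℤ), (q : ℤ)) 2 := by
    refine ⟨le_rfl, fun r' h₀ hr' => ⟨?_, ?_⟩⟩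
    · refine IsZero.eq_of_src (SS.isZero_page_of_le E 2 le_rfl _ ?_ r' hr') _ _
      exact hneg (((q : ℤ) - (q : ℤ), (q : ℤ)) - (r', 1 - r'))
        (show ((q : ℤ) - (q : ℤ)) - r' < 0 by omega)
    · refine IsZero.eq_of_tgt (SS.isZero_page_of_le E 2 le_rfl _ ?_ r' hr') _ _
      exact hz (((q : ℤ) - (q : ℤ), (q : ℤ)) + (r', 1 - r'))
        (show 1 ≤ ((q : ℤ) - (q : ℤ)) + r' by omega)
        (show (q : ℤ) + (1 - r') ≤ (q : ℤ) by omega)
  have hexh : a.IsExhaustive (q : ℤ) := by
    obtain ⟨b, hb⟩ := (hfin (q : ℤ)).1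
    exact ⟨fun _ _ => le_top, fun c hc => hb ▸ hc ⟨b, rfl⟩⟩
  obtain ⟨e1⟩ := nonempty_iso_of_single_at E a 2 le_rfl (q : ℤ) (q : ℤ) hdeg
    (hfin (q : ℤ)).2 hexh hst
  obtain ⟨e2⟩ := hE2 ((q : ℤ) - (q : ℤ)) (q : ℤ)
  have e3 := e1 ≪≫ e2
  rw [if_pos (by omega), if_pos (by omega)] at e3
  simp only [Int.toNat_natCast] at e3
  have hz0 : ((q : ℤ) - (q : ℤ)).toNat = 0 := by simp
  rw [hz0] at e3
  exact ⟨e3 ≪≫ (S.rightDerivedZeroIsoSelf).app _⟩

end Degenerate

section Twist

open Groth.Agent.LD.QC Groth.Agent.LD.XS.DI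

/-- exactness and preservation of injectives for `- ⊗ L`, `L` invertible. -/
lemma twF_instances {W : Scheme.{u}} (L L' : W.Modules)
    (e : CohB1.tensorMod L L' ≅ unitMod W) :
    PreservesFiniteLimits (twF L) ∧ (twF L).PreservesInjectiveObjects := by
  have adj : twF L' ⊣ twF L := (twEquiv L L' e).symm.toAdjunction
  have adj' : twF L ⊣ twF L' := (twEquiv L L' e).toAdjunction
  haveI : (twF L').PreservesMonomorphisms := Functor.preservesMonomorphisms_of_adjunction adj'
  haveI : PreservesLimitsOfSize.{0, 0} (twF L) := adj.rightAdjoint_preservesLimits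
  exact ⟨PreservesLimitsOfSize.preservesFiniteLimits.{0, 0} _,
    Functor.preservesInjectiveObjects_of_adjunction_of_preservesMonomorphisms adj⟩

variable {X Y : Scheme.{u}} (f : X ⟶ Y)

/-- the projection formula for an invertible module, as a natural isomorphism. -/
noncomputable def projIsoF (M : Y.Modules) (hM : PicF.IsInvertible M) :
    Scheme.Modules.pushforward f ⋙ twF M ≅
      twF ((Scheme.Modules.pullback f).obj M) ⋙ Scheme.Modules.pushforward f :=
  NatIso.ofComponents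
    (fun K => @asIso _ _ _ _ (projHom f K M) (isIso_projHom f K M hM))
    (by
      intro K K' φ
      change (twF M).map ((Scheme.Modules.pushforward f).map φ) ≫ projHom f K' M =
        projHom f K M ≫ (Scheme.Modules.pushforward f).map
          ((twF ((Scheme.Modules.pullback f).obj M)).map φ)
      rw [twF_map, twF_map]
      exact projHom_naturality f M hM φ)

variable (F : X.Modules) [ModSite.HasSheafHom (O := X.sheaf) F]

/-- the relative hom functor `f_* 𝓗om(F, -)`. -/
noncomputable abbrev RH : ModSite.Mod X.sheaf ⥤ Y.Modules :=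
  ModSite.sheafHom (O := X.sheaf) F ⋙ Scheme.Modules.pushforward f

/-- `f_* 𝓗om(F, G ⊗ f^*M) ≅ f_* 𝓗om(F, G) ⊗ M`, naturally in `G`. -/
noncomputable def relTwIso (M : Y.Modules) (hM : PicF.IsInvertible M) (E'' : X.Modules)
    (eE : CohB1.tensorMod ((Scheme.Modules.pullback f).obj M) E'' ≅ unitMod X) :
    TwM ((Scheme.Modules.pullback f).obj M) ⋙ RH f F ≅ RH f F ⋙ twF M :=
  (show TwM ((Scheme.Modules.pullback f).obj M) ⋙ RH f F ≅
      (twF ((Scheme.Modules.pullback f).obj M) ⋙ ModSite.sheafHom (O := X.sheaf) F) ⋙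
        Scheme.Modules.pushforward f from (Functor.associator _ _ _).symm) ≪≫
  Functor.isoWhiskerRight
    (PD.sheafHomTwistIso ((Scheme.Modules.pullback f).obj M) E'' eE F)
    (Scheme.Modules.pushforward f) ≪≫
  (show (ModSite.sheafHom (O := X.sheaf) F ⋙ twF ((Scheme.Modules.pullback f).obj M)) ⋙
        Scheme.Modules.pushforward f ≅
      ModSite.sheafHom (O := X.sheaf) F ⋙
        (twF ((Scheme.Modules.pullback f).obj M) ⋙ Scheme.Modules.pushforward f) from
    Functor.associator _ _ _) ≪≫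
  Functor.isoWhiskerLeft (ModSite.sheafHom (O := X.sheaf) F) (projIsoF f M hM).symm ≪≫
  (show ModSite.sheafHom (O := X.sheaf) F ⋙ (Scheme.Modules.pushforward f ⋙ twF M) ≅
      RH f F ⋙ twF M from (Functor.associator _ _ _).symm)

variable [HasInjectiveResolutions (ModSite.Mod X.sheaf)]
  [(ModSite.sheafHom (O := X.sheaf) F ⋙ Scheme.Modules.pushforward f).Additive]

/-- **`Ext^p_f(F, G ⊗ f^*M) ≅ Ext^p_f(F, G) ⊗ M`** for `M` invertible on the base. -/
theorem nonempty_relExt_twist_iso (M : Y.Modules) (hM : PicF.IsInvertible M) (G : X.Modules)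
    (p : ℕ) :
    Nonempty (((RH f F).rightDerived p).obj
        (CohB1.tensorMod G ((Scheme.Modules.pullback f).obj M)) ≅
      CohB1.tensorMod (((RH f F).rightDerived p).obj G) M) := by
  obtain ⟨M', -, ⟨eM⟩⟩ := Groth.Agent.H5.Glue.exists_inverse M hM
  have hE' : PicF.IsInvertible ((Scheme.Modules.pullback f).obj M) := isInvertible_pullback f hM
  obtain ⟨E'', -, ⟨eE⟩⟩ := Groth.Agent.H5.Glue.exists_inverse _ hE'
  obtain ⟨i1, i2⟩ := twF_instances ((Scheme.Modules.pullback f).obj M) E'' eE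
  haveI j1 : PreservesFiniteLimits (TwM ((Scheme.Modules.pullback f).obj M)) := i1
  haveI j2 : (TwM ((Scheme.Modules.pullback f).obj M)).PreservesInjectiveObjects := i2
  obtain ⟨i3, -⟩ := twF_instances M M' eM
  haveI := i3
  haveI : (twF M).PreservesHomology := Functor.preservesHomology_of_preservesEpis_and_kernels _
  exact ⟨SC.compObjIso (TwM ((Scheme.Modules.pullback f).obj M)) (RH f F) (RH f F ⋙ twF M)
      (relTwIso f F M hM E'' eE) p G ≪≫
    (EZ.rightDerivedPostcompNatIso (RH f F) (twF M) p).app G⟩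

end Twist

section Main

open Groth.Agent.LD.QC

/-- **S16284**: for `l ≫ 0`, `g_* Ext^p_f(F, G(l)) ≅ Ext^p_{gf}(F, G(l))`, where `g` is projective
over a Noetherian base and the twist is pulled back from the base of `f`. -/
theorem main (Z : Scheme.{u}) [IsNoetherian Z] (m : ℕ)
    (Y : Scheme.{u}) (e' : Y ⟶ CohB1.ProjSpaceOver m Z) [IsClosedImmersion e']
    (n : ℕ) (X : Scheme.{u}) (f : X ⟶ Y) (e : X ⟶ CohB1.ProjSpaceOver n Y) [IsClosedImmersion e]
    (he : e ≫ CohB1.ProjSpaceOver.toBase n Y = f)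
    (F G : X.Modules) (hF : Coh.IsCoh F) (hG : Coh.IsCoh G) (p : ℕ)
    [ModSite.HasSheafHom (O := X.sheaf) F] [HasInjectiveResolutions (ModSite.Mod X.sheaf)]
    [(ModSite.sheafHom (O := X.sheaf) F ⋙ Scheme.Modules.pushforward f).Additive]
    [(ModSite.sheafHom (O := X.sheaf) F ⋙
      Scheme.Modules.pushforward (f ≫ (e' ≫ CohB1.ProjSpaceOver.toBase m Z))).Additive] :
    ∃ l₀ : ℕ, ∀ l : ℕ, l₀ ≤ l →
      Nonempty ((Scheme.Modules.pushforward (e' ≫ CohB1.ProjSpaceOver.toBase m Z)).obj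
          (((RH f F).rightDerived p).obj
            (CohB1.tensorMod G ((Scheme.Modules.pullback f).obj
              ((Scheme.Modules.pullback e').obj (Twist.twistOver m Z (l : ℤ)))))) ≅
        ((ModSite.sheafHom (O := X.sheaf) F ⋙
          Scheme.Modules.pushforward (f ≫ (e' ≫ CohB1.ProjSpaceOver.toBase m Z))).rightDerived p).obj
          (CohB1.tensorMod G ((Scheme.Modules.pullback f).obj
            ((Scheme.Modules.pullback e').obj (Twist.twistOver m Z (l : ℤ)))))) := by
  haveI : IsProper (e' ≫ CohB1.ProjSpaceOver.toBase m Z) :=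
    Groth.Agent.H2.FlC.isProper_comp m e'
  haveI : IsLocallyNoetherian Y :=
    LocallyOfFiniteType.isLocallyNoetherian (e' ≫ CohB1.ProjSpaceOver.toBase m Z)
  haveI : CompactSpace Y :=
    QuasiCompact.compactSpace_of_compactSpace (e' ≫ CohB1.ProjSpaceOver.toBase m Z)
  haveI : IsNoetherian Y := {}
  haveI hY : HasInjectiveResolutions Y.Modules := Groth.Agent.LD.QCQS.hasInjRes Y
  haveI : PreservesLimitsOfSize.{0, 0}
      (Scheme.Modules.pushforward (e' ≫ CohB1.ProjSpaceOver.toBase m Z)) :=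
    (Scheme.Modules.pullbackPushforwardAdjunction
      (e' ≫ CohB1.ProjSpaceOver.toBase m Z)).rightAdjoint_preservesLimits
  haveI : PreservesFiniteLimits
      (Scheme.Modules.pushforward (e' ≫ CohB1.ProjSpaceOver.toBase m Z)) :=
    PreservesLimitsOfSize.preservesFiniteLimits.{0, 0} _
  -- coherence of the relative Ext sheaves
  have hcoh : ∀ b : ℕ, Coh.IsCoh (((RH f F).rightDerived b).obj G) :=
    fun b => RelExtCoh.isCoh_relExt f n e he F G hF hG b
  -- Serre vanishing
  have hL := Groth.Agent.H2.FlB.isInvertible_LL m e'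
  have hsv : ∀ b : ℕ, ∃ n₀ : ℕ, ∀ l : ℕ, n₀ ≤ l → ∀ a : ℕ, 0 < a →
      IsZero ((Coh.Rpush (e' ≫ CohB1.ProjSpaceOver.toBase m Z) a).obj
        (CohB1.tensorMod (((RH f F).rightDerived b).obj G)
          (CohB1.tensorPow (Groth.Agent.H2.FlB.LL m e') l))) :=
    fun b => Groth.Agent.LD.PN.AmS.relative_serre_vanishing_mod
      (e' ≫ CohB1.ProjSpaceOver.toBase m Z) (Groth.Agent.H2.FlB.LL m e') hL
      (fun W hW => Groth.Agent.H2.FlC.isAmple_restrict_LL m e' W hW) _ (hcoh b)
  choose N hN using hsv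
  refine ⟨(Finset.range (p + 1)).sup N, fun l hl => ?_⟩
  have hM : PicF.IsInvertible
      ((Scheme.Modules.pullback e').obj (Twist.twistOver m Z (l : ℤ))) :=
    isInvertible_pullback e' (Groth.Agent.H2.FlB.isInvertible_twistOver m Z (l : ℤ))
  -- vanishing of the `E₂` terms
  have hvan : ∀ a b : ℕ, b ≤ p →
      IsZero (((Scheme.Modules.pushforward
          (e' ≫ CohB1.ProjSpaceOver.toBase m Z)).rightDerived (a + 1)).obj
        (((RH f F).rightDerived b).obj (CohB1.tensorMod G ((Scheme.Modules.pullback f).obj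
          ((Scheme.Modules.pullback e').obj (Twist.twistOver m Z (l : ℤ))))))) := by
    intro a b hb
    obtain ⟨i1⟩ := nonempty_relExt_twist_iso f F _ hM G b
    obtain ⟨i2⟩ := Groth.Agent.H2.FlB.nonempty_twist_iso m e'
      (((RH f F).rightDerived b).obj G) l
    have hbl : N b ≤ l :=
      le_trans (Finset.le_sup (f := N) (Finset.mem_range.2 (by omega))) hl
    exact IsZero.of_iso (hN b l hbl (a + 1) (Nat.succ_pos a))
      ((Coh.Rpush (e' ≫ CohB1.ProjSpaceOver.toBase m Z) (a + 1)).mapIso (i1 ≪≫ i2))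
  -- acyclicity of the images of injectives
  have hT : ∀ Q : ModSite.Mod X.sheaf, Injective Q → ∀ q : ℕ, 0 < q →
      IsZero (((Scheme.Modules.pushforward
        (e' ≫ CohB1.ProjSpaceOver.toBase m Z)).rightDerived q).obj ((RH f F).obj Q)) := by
    intro Q hQ q hq
    haveI := hQ
    have h0 : CohCx.IsTotallyAcyclic ((RP.τ Y).obj ((RH f F).obj Q)) :=
      RP.isTotallyAcyclic_pushAb f _
        (Groth.Agent.LD.KT.isTotallyAcyclic_sheafHom_of_injective (O := X.sheaf) F Q)
    exact RP.isZero_Rpush_of_isTotallyAcyclic (e' ≫ CohB1.ProjSpaceOver.toBase m Z)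
      ((RH f F).obj Q) h0 q hq
  obtain ⟨i3⟩ := nonempty_rightDerived_comp_iso_of_isZero_le (RH f F)
    (Scheme.Modules.pushforward (e' ≫ CohB1.ProjSpaceOver.toBase m Z)) hT
    (CohB1.tensorMod G ((Scheme.Modules.pullback f).obj
      ((Scheme.Modules.pullback e').obj (Twist.twistOver m Z (l : ℤ))))) p hvan
  have ε : RH f F ⋙ Scheme.Modules.pushforward (e' ≫ CohB1.ProjSpaceOver.toBase m Z) ≅
      ModSite.sheafHom (O := X.sheaf) F ⋙
        Scheme.Modules.pushforward (f ≫ (e' ≫ CohB1.ProjSpaceOver.toBase m Z)) :=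
    Functor.associator _ _ _ ≪≫ Functor.isoWhiskerLeft _
      (Scheme.Modules.pushforwardComp f (e' ≫ CohB1.ProjSpaceOver.toBase m Z))
  exact ⟨i3.symm ≪≫ (EZ.rightDerivedIsoOfIso ε p).app _⟩

end Main

end Groth.Agent.LD.RelExtTwist
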