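import Mathlib
import Groth.Prelude.Def_ExtSupp
import Groth.Prelude.Def_KFlatSite
import Groth.Agent.Lib.Lead.EZ.Supp
import Groth.Agent.Lib.Lead.EZ.ExtShLoc
import Groth.Agent.Lib.Lead.SC.MapResNat

/-! # Sections with support commute with localisation (S12888). -/

set_option autoImplicit false
universe u
open CategoryTheory Limits Opposite

namespace Groth.Agent.LD.EZ
open ModSite Groth.Agent.LD.MS Groth.Agent.LD.SC Groth.Agent.LD.AbPull

variable {C : Type u} [SmallCategory C] {J : GrothendieckTopology C}
  (O : Sheaf J CommRingCat.{u}) (U : C)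

/-- a module all of whose sections over objects over `U` vanish is null on `U`. -/
lemma isNullOn_of_subsingleton' (F : Mod O)
    (h : ∀ Y : Over U, Subsingleton (F.val.obj (op Y.left))) : IsNullOn O U F := by
  unfold IsNullOn
  rw [IsZero.iff_id_eq_zero]
  apply (SheafOfModules.toSheaf _).map_injective
  ext Y m
  haveI := h Y.unop
  exact Subsingleton.elim (α := F.val.obj (op Y.unop.left)) _ _

/-- the sections over objects over `U` of a module null on `U` vanish. -/
lemma subsingleton_of_isNullOn (T : Mod O) (hT : IsNullOn O U T) (Y : Over U) :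
    Subsingleton (T.val.obj (op Y.left)) := by
  haveI : (SheafOfModules.evaluation (ModSite.ringSh (O.over U)) (op Y)).Additive :=
    inferInstanceAs (SheafOfModules.forget _ ⋙ PresheafOfModules.evaluation _ (op Y)).Additive
  have h := Functor.map_isZero (SheafOfModules.evaluation (ModSite.ringSh (O.over U)) (op Y)) hT
  exact ModuleCat.subsingleton_of_isZero h

variable {U} in
/-- restriction to a slice preserves modules null on `U`. -/
lemma isNullOn_restr {X : C} (U' : Over X) (p : U'.left ⟶ U) (T : Mod O)
    (hT : IsNullOn O U T) : IsNullOn (O.over X) U' ((restr O X).obj T) := by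
  apply isNullOn_of_subsingleton'
  intro Y
  exact subsingleton_of_isNullOn O U T hT (Over.mk (Y.hom.left ≫ p))

variable {U} in
/-- extension by zero from a slice preserves modules null on `U`. -/
lemma isNullOn_jS {X : C} (U' : Over X)
    (h2 : ∀ {W : C} (_ : W ⟶ U) (φ : W ⟶ X), Nonempty (Over.mk φ ⟶ U'))
    (T' : Mod (O.over X)) (hT' : IsNullOn (O.over X) U' T') :
    IsNullOn O U ((jS O X).obj T') := by
  have hz : IsZero ((jresP O U).obj ((ezP O X).obj ((incl (O.over X)).obj T'))) := by
    rw [IsZero.iff_id_eq_zero]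
    apply (PresheafOfModules.toPresheaf _).map_injective
    ext Y m
    haveI : Subsingleton (EZ X ((incl (O.over X)).obj T').presheaf Y.unop.left) := by
      refine ⟨fun x y => DFinsupp.ext (fun φ => ?_)⟩
      obtain ⟨f⟩ := h2 Y.unop.hom φ
      have hs : Subsingleton (T'.val.obj (op (Over.mk φ))) :=
        subsingleton_of_isNullOn (O.over X) U' T' hT' (Over.mk f)
      exact hs.elim _ _
    exact Subsingleton.elim (α := EZ X ((incl (O.over X)).obj T').presheaf Y.unop.left) _ _
  haveI : (shf (O.over U)).Additive := ModSite.additive_shPre (O.over U)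
  have hz2 : IsZero ((shf (O.over U)).obj
      ((jresP O U).obj ((ezP O X).obj ((incl (O.over X)).obj T')))) :=
    Functor.map_isZero (shf (O.over U)) hz
  exact hz2.of_iso ((restrShfIso O U).app ((ezP O X).obj ((incl (O.over X)).obj T'))).symm

variable [HasPushOver O U]

/-- the module of sections with support is null on `U`. -/
lemma isNullOn_sectOn (M : Mod O) : IsNullOn O U ((sectOn O U).obj M) := by
  have h0 : (restr O U).map (iotaU O U M) = 0 :=
    (comp_unit_eq_zero_iff O U _).1 (iotaU_etaU O U M)
  haveI : Mono ((rS O U).map (iotaU O U M)) := inferInstance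
  exact IsZero.of_mono_eq_zero ((rS O U).map (iotaU O U M)) h0

section iso

variable {X : C} (U' : Over X) (p : U'.left ⟶ U)
  (h2 : ∀ {W : C} (_ : W ⟶ U) (φ : W ⟶ X), Nonempty (Over.mk φ ⟶ U'))
  [HasPushOver (O.over X) U']

/-- `Γ_Z(M)|_X ⟶ Γ_{Z/X}(M|_X)`. -/
noncomputable def alphaM (M : Mod O) :
    (restr O X).obj ((sectOn O U).obj M) ⟶
      (sectOn (O.over X) U').obj ((restr O X).obj M) :=
  toSect (O.over X) U' ((restr O X).map (iotaU O U M)) (by
    rw [comp_unit_eq_zero_iff]
    exact (isNullOn_restr O U' p _ (isNullOn_sectOn O U M)).eq_of_src _ _)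

lemma alphaM_iota (M : Mod O) :
    alphaM O U U' p M ≫ iotaU (O.over X) U' ((restr O X).obj M) =
      (restr O X).map (iotaU O U M) :=
  toSect_iotaU _ _ _ _

include h2 in
lemma adj_comp_eta_eq_zero (M : Mod O) :
    ((jrAdj O X).homEquiv _ _).symm (iotaU (O.over X) U' ((restr O X).obj M)) ≫
      etaU O U M = 0 := by
  rw [comp_unit_eq_zero_iff]
  exact (isNullOn_jS O U' h2 _ (isNullOn_sectOn (O.over X) U' _)).eq_of_src _ _

/-- `Γ_{Z/X}(M|_X) ⟶ Γ_Z(M)|_X`. -/
noncomputable def betaM (M : Mod O) :
    (sectOn (O.over X) U').obj ((restr O X).obj M) ⟶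
      (restr O X).obj ((sectOn O U).obj M) :=
  (jrAdj O X).homEquiv _ _
    (toSect O U (((jrAdj O X).homEquiv _ _).symm (iotaU (O.over X) U' ((restr O X).obj M)))
      (adj_comp_eta_eq_zero O U U' h2 M))

lemma betaM_iota (M : Mod O) :
    betaM O U U' h2 M ≫ (restr O X).map (iotaU O U M) =
      iotaU (O.over X) U' ((restr O X).obj M) := by
  unfold betaM
  have := (jrAdj O X).homEquiv_naturality_right
    (toSect O U (((jrAdj O X).homEquiv _ _).symm (iotaU (O.over X) U' ((restr O X).obj M)))
      (adj_comp_eta_eq_zero O U U' h2 M)) (iotaU O U M)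
  rw [toSect_iotaU, Equiv.apply_symm_apply] at this
  exact this.symm

/-- the comparison isomorphism, objectwise. -/
noncomputable def sectRestrIsoApp (M : Mod O) :
    (restr O X).obj ((sectOn O U).obj M) ≅
      (sectOn (O.over X) U').obj ((restr O X).obj M) where
  hom := alphaM O U U' p M
  inv := betaM O U U' h2 M
  hom_inv_id := by
    haveI : Mono ((restr O X).map (iotaU O U M)) :=
      inferInstanceAs (Mono ((rS O X).map (iotaU O U M)))
    rw [← cancel_mono ((restr O X).map (iotaU O U M)), Category.assoc,
      betaM_iota O U U' h2 M, alphaM_iota O U U' p M, Category.id_comp]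
  inv_hom_id := by
    rw [← cancel_mono (iotaU (O.over X) U' ((restr O X).obj M)), Category.assoc,
      alphaM_iota O U U' p M, betaM_iota O U U' h2 M, Category.id_comp]

/-- **sections with support commute with localisation.** -/
noncomputable def sectRestrIso :
    sectOn O U ⋙ restr O X ≅ restr O X ⋙ sectOn (O.over X) U' :=
  NatIso.ofComponents (fun M => sectRestrIsoApp O U U' p h2 M) (by
    intro M M' m
    change (restr O X).map ((sectOn O U).map m) ≫ alphaM O U U' p M' =
      alphaM O U U' p M ≫ (sectOn (O.over X) U').map ((restr O X).map m)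
    have e1 : (restr O X).map ((sectOn O U).map m) ≫ (restr O X).map (iotaU O U M') =
        (restr O X).map (iotaU O U M) ≫ (restr O X).map m := by
      rw [← Functor.map_comp, ← Functor.map_comp, iotaU_naturality]
    have e2 := iotaU_naturality (O.over X) U' ((restr O X).map m)
    rw [← cancel_mono (iotaU (O.over X) U' ((restr O X).obj M')), Category.assoc,
      Category.assoc, alphaM_iota O U U' p M', e1, e2, ← Category.assoc,
      alphaM_iota O U U' p M])

/-- **S12888**: the local cohomology sheaves commute with localisation. -/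
noncomputable def hzshRestrIso [HasInjectiveResolutions (Mod O)]
    [HasInjectiveResolutions (Mod (O.over X))] (q : ℕ) :
    HZsh O U q ⋙ restr O X ≅ restr O X ⋙ HZsh (O.over X) U' q :=
  (rightDerivedPostcompNatIso (sectOn O U) (rS O X) q).symm ≪≫
    rightDerivedIsoOfIso (sectRestrIso O U U' p h2) q ≪≫
    (rightDerivedCompNatIso (rS O X) (sectOn (O.over X) U')
      (rS O X ⋙ sectOn (O.over X) U') (Iso.refl _) q).symm

end iso

end Groth.Agent.LD.EZ
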