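import Groth.Agent.Lib.Lead.CI.GenFree
import Groth.Agent.Lib.Lead.RSp.Summand

/-!
# Comparison of the two kinds of stalks on a scheme

For a scheme `X` and a point `x`, the stalk `O_{X,x}` (colimit over open neighbourhoods) is
identified with `ModSite.stalkRing` at the point of the site of opens given by `x`, and the stalk
of an `O_X`-module with `ModSite.stalkAb`, semilinearly.
-/

set_option autoImplicit false
set_option linter.style.haveILetI false
noncomputable section
universe u
open CategoryTheory Limits AlgebraicGeometry TopologicalSpace Opposite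

attribute [-instance] Groth.Agent.LD.QC.stalkModule

namespace Groth.Agent.LD.StalkBridge

open Groth.Agent.LD.RSp

section Ring
variable {T : TopCat.{u}} (O : TopCat.Sheaf CommRingCat.{u} T) (x : T)

lemma stalkToFiber_injective : Function.Injective (stalkToFiber O x).hom := by
  rw [injective_iff_map_eq_zero]
  intro a ha
  obtain ⟨U, hxU, s, rfl⟩ := TopCat.Presheaf.exists_germ_eq O.presheaf a
  rw [stalkToFiber_germ] at ha
  have h0 : gmR O x U hxU s = gmR O x U hxU 0 := by rw [ha, map_zero]
  obtain ⟨W, hW, hxW, h2⟩ := gmR_eq_same O x hxU _ _ h0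
  rw [map_zero] at h2
  have h3 : O.presheaf.germ W x hxW (O.presheaf.map (homOfLE hW).op s) =
      O.presheaf.germ U x hxU s :=
    TopCat.Presheaf.germ_res_apply O.presheaf (homOfLE hW) x hxW s
  rw [← h3]
  have h4 : O.presheaf.map (homOfLE hW).op s = 0 := h2
  rw [h4, map_zero]

/-- the two stalks of the structure sheaf. -/
def fiberRingEquiv : O.presheaf.stalk x ≃+* ModSite.stalkRing (Opens.pointGrothendieckTopology x) O :=
  RingEquiv.ofBijective (stalkToFiber O x).hom
    ⟨stalkToFiber_injective O x, stalkToFiber_surjective O x⟩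

lemma fiberRingEquiv_apply (a : O.presheaf.stalk x) :
    fiberRingEquiv O x a = (stalkToFiber O x).hom a := rfl

end Ring

section Mod
variable {X : Scheme.{u}}

/-- the comparison map from the stalk of a module to its fibre at the point of the site of
opens. -/
def stalkToFiberM (M : X.Modules) (x : X) :
    M.presheaf.stalk x ⟶ ModSite.stalkAb (Opens.pointGrothendieckTopology x) (O := X.sheaf) M :=
  colimit.desc ((OpenNhds.inclusion x).op ⋙ M.presheaf)
    { pt := ModSite.stalkAb (Opens.pointGrothendieckTopology x) (O := X.sheaf) M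
      ι :=
        { app := fun U => (Opens.pointGrothendieckTopology x).toPresheafFiber U.unop.1
            (pt x U.unop.1 U.unop.2) (ModSite.toAb (O := X.sheaf) M).obj
          naturality := fun U V f => by
            have h1 := (Opens.pointGrothendieckTopology x).toPresheafFiber_w
              ((OpenNhds.inclusion x).map f.unop) (pt x V.unop.1 V.unop.2)
              (ModSite.toAb (O := X.sheaf) M).obj
            have h2 : (Opens.pointGrothendieckTopology x).fiber.map
                ((OpenNhds.inclusion x).map f.unop) (pt x V.unop.1 V.unop.2) =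
                pt x U.unop.1 U.unop.2 := Subsingleton.elim _ _
            rw [h2] at h1
            exact h1.trans (Category.comp_id _).symm } }

lemma stalkToFiberM_germ (M : X.Modules) (x : X) (U : X.Opens) (hxU : x ∈ U) (s : Γ(M, U)) :
    (stalkToFiberM M x).hom (M.presheaf.germ U x hxU s) = gm (O := X.sheaf) M x U hxU s := by
  have h : M.presheaf.germ U x hxU ≫ stalkToFiberM M x =
      (Opens.pointGrothendieckTopology x).toPresheafFiber U (pt x U hxU)
        (ModSite.toAb (O := X.sheaf) M).obj :=
    colimit.ι_desc _ (op (⟨U, hxU⟩ : OpenNhds x))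
  exact congrArg (fun f => f.hom s) h

lemma stalkToFiberM_bijective (M : X.Modules) (x : X) :
    Function.Bijective (stalkToFiberM M x).hom := by
  constructor
  · rw [injective_iff_map_eq_zero]
    intro m hm
    obtain ⟨U, hxU, s, rfl⟩ := TopCat.Presheaf.exists_germ_eq M.presheaf m
    rw [stalkToFiberM_germ] at hm
    have h0 : gm (O := X.sheaf) M x U hxU s = gm (O := X.sheaf) M x U hxU 0 := by
      rw [hm, map_zero]
    obtain ⟨W, hW, hxW, h2⟩ := gm_eq_same (O := X.sheaf) M x hxU _ _ h0
    rw [res_zero] at h2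
    have h3 := QC.germ_res M x hW hxW s
    rw [← h3]
    have h4 : M.presheaf.map (homOfLE hW).op s = 0 := h2
    rw [h4, map_zero]
  · intro γ
    obtain ⟨U, hxU, s, rfl⟩ := gm_surj (O := X.sheaf) M x γ
    exact ⟨M.presheaf.germ U x hxU s, stalkToFiberM_germ M x U hxU s⟩

/-- the two stalks of a module. -/
def fiberAddEquiv (M : X.Modules) (x : X) :
    M.presheaf.stalk x ≃+ ModSite.stalkAb (Opens.pointGrothendieckTopology x) (O := X.sheaf) M :=
  AddEquiv.ofBijective (stalkToFiberM M x).hom (stalkToFiberM_bijective M x)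

lemma fiberAddEquiv_smul (M : X.Modules) (x : X) (a : X.presheaf.stalk x)
    (m : M.presheaf.stalk x) :
    fiberAddEquiv M x (a • m) = fiberRingEquiv X.sheaf x a • fiberAddEquiv M x m := by
  obtain ⟨W₁, hxW₁, t, rfl⟩ := TopCat.Presheaf.exists_germ_eq M.presheaf m
  obtain ⟨W₂, hxW₂, ρ, rfl⟩ := TopCat.Presheaf.exists_germ_eq X.presheaf a
  have hxW : x ∈ W₁ ⊓ W₂ := ⟨hxW₁, hxW₂⟩
  have e1 := QC.germ_res M x (inf_le_left : W₁ ⊓ W₂ ≤ W₁) hxW t
  have e2 := QC.sgerm_res x (inf_le_right : W₁ ⊓ W₂ ≤ W₂) hxW ρ
  have e3 := QC.germ_smul M x (W₁ ⊓ W₂) hxW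
    (X.presheaf.map (homOfLE (inf_le_right : W₁ ⊓ W₂ ≤ W₂)).op ρ)
    (M.presheaf.map (homOfLE (inf_le_left : W₁ ⊓ W₂ ≤ W₁)).op t)
  rw [← e1, ← e2]
  refine (congrArg (fiberAddEquiv M x) e3.symm).trans ?_
  show (stalkToFiberM M x).hom _ = (stalkToFiber X.sheaf x).hom _ • (stalkToFiberM M x).hom _
  rw [stalkToFiberM_germ, stalkToFiberM_germ]
  refine (gm_smul (O := X.sheaf) M x hxW _ _).trans ?_
  congr 1
  exact (stalkToFiber_germ X.sheaf x (W₁ ⊓ W₂) hxW _).symm

end Mod

end Groth.Agent.LD.StalkBridge
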