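import Mathlib
import Groth.Agent.Lib.Lead.EZ.Proj
import Groth.Prelude.Def_ModSite2

/-! # The stalk of an extension by zero at a point of the site. -/

set_option autoImplicit false
universe u
open CategoryTheory Limits Opposite

namespace Groth.Agent.LD.EZ
open Groth.Agent.LD.AbPull

section Presheaf

variable {C : Type u} [SmallCategory C] {J : GrothendieckTopology C} (U : C)
  (p : GrothendieckTopology.Point.{u} J) (G : (Over U)ᵒᵖ ⥤ AddCommGrpCat.{u})

/-- the stalk of `G` at the point over `p` given by `x`. -/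
noncomputable abbrev stk (x : p.fiber.obj U) : AddCommGrpCat.{u} :=
  (p.over x).presheafFiber.obj G

/-- the direct sum of the stalks at the points over `p`. -/
noncomputable abbrev stkSum : AddCommGrpCat.{u} := ∐ fun x : p.fiber.obj U => stk U p G x

/-- inclusion of the summand indexed by `f`, as a morphism of abelian groups. -/
noncomputable def ezι {V : C} (f : V ⟶ U) :
    G.obj (op (Over.mk f)) ⟶ (ezPre U G).obj (op V) :=
  AddCommGrpCat.ofHom (ezOf U G f)

open scoped Classical in
lemma ezPre_hom_ext {V : C} {A : AddCommGrpCat.{u}} {α β : (ezPre U G).obj (op V) ⟶ A}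
    (h : ∀ f : V ⟶ U, ezι U G f ≫ α = ezι U G f ≫ β) : α = β := by
  refine AddCommGrpCat.hom_ext (DirectSum.addHom_ext fun f a => ?_)
  exact ConcreteCategory.congr_hom (h f) a

lemma ezι_map {V V' : C} (g : V' ⟶ V) (f : V ⟶ U) :
    ezι U G f ≫ (ezPre U G).map g.op =
      G.map (Over.homMk g : Over.mk (g ≫ f) ⟶ Over.mk f).op ≫ ezι U G (g ≫ f) := by
  refine AddCommGrpCat.hom_ext (AddMonoidHom.ext fun a => ?_)
  exact ezMap_of U G g f a

lemma ezι_congr {V : C} {f f' : V ⟶ U} (h : f = f') {W : Over U} (a : Over.mk f ⟶ W)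
    (a' : Over.mk f' ⟶ W) (ha : a.left = a'.left) :
    G.map a.op ≫ ezι U G f = G.map a'.op ≫ ezι U G f' := by
  refine AddCommGrpCat.hom_ext (AddMonoidHom.ext fun z => ?_)
  exact of_congr U G h a a' ha z

/-- the germ map of the summand indexed by `f` at `y`, landing in the summand `x = f(y)`. -/
noncomputable def cMap {V : C} (f : V ⟶ U) (y : p.fiber.obj V) (x : p.fiber.obj U)
    (h : p.fiber.map f y = x) : G.obj (op (Over.mk f)) ⟶ stkSum U p G :=
  (p.over x).toPresheafFiber (Over.mk f) ⟨y, h⟩ G ≫ Sigma.ι (fun x => stk U p G x) x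

lemma cMap_congr {V : C} (f : V ⟶ U) (y : p.fiber.obj V) (x : p.fiber.obj U)
    (h : p.fiber.map f y = x) :
    cMap U p G f y x h = cMap U p G f y (p.fiber.map f y) rfl := by
  subst h
  rfl

lemma cMap_compat {V V' : C} (g : V' ⟶ V) (f : V ⟶ U) (y' : p.fiber.obj V')
    (x : p.fiber.obj U) (h' : p.fiber.map (g ≫ f) y' = x)
    (h : p.fiber.map f (p.fiber.map g y') = x) :
    G.map (Over.homMk g : Over.mk (g ≫ f) ⟶ Over.mk f).op ≫ cMap U p G (g ≫ f) y' x h' =
      cMap U p G f (p.fiber.map g y') x h := by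
  unfold cMap
  rw [← Category.assoc]
  congr 1
  exact (p.over x).toPresheafFiber_w
    (Over.homMk g : Over.mk (g ≫ f) ⟶ Over.mk f) ⟨y', h'⟩ G

open scoped Classical in
/-- the map on sections over `V` at `y`. -/
noncomputable def psiApp (V : C) (y : p.fiber.obj V) :
    (ezPre U G).obj (op V) ⟶ stkSum U p G :=
  AddCommGrpCat.ofHom (DirectSum.toAddMonoid fun f : V ⟶ U =>
    (cMap U p G f y (p.fiber.map f y) rfl).hom)

open scoped Classical in
lemma ezι_psiApp (V : C) (y : p.fiber.obj V) (f : V ⟶ U) :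
    ezι U G f ≫ psiApp U p G V y = cMap U p G f y (p.fiber.map f y) rfl := by
  refine AddCommGrpCat.hom_ext (AddMonoidHom.ext fun a => ?_)
  exact DirectSum.toAddMonoid_of (β := fun f : V ⟶ U => G.obj (op (Over.mk f)))
    (fun f : V ⟶ U => (cMap U p G f y (p.fiber.map f y) rfl).hom) f a

lemma psiApp_compat {V' V : C} (g : V' ⟶ V) (y' : p.fiber.obj V') :
    (ezPre U G).map g.op ≫ psiApp U p G V' y' = psiApp U p G V (p.fiber.map g y') := by
  refine ezPre_hom_ext U G (fun f => ?_)
  rw [← Category.assoc, ezι_map, Category.assoc, ezι_psiApp, ezι_psiApp]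
  have h' : p.fiber.map (g ≫ f) y' = p.fiber.map f (p.fiber.map g y') := by
    simp
  rw [← cMap_congr U p G (g ≫ f) y' _ h']
  exact cMap_compat U p G g f y' _ h' rfl

/-- the map from the stalk of the extension by zero to the sum of the stalks. -/
noncomputable def Psi : p.presheafFiber.obj (ezPre U G) ⟶ stkSum U p G :=
  p.presheafFiberDesc (fun V y => psiApp U p G V y)
    (fun _ _ g y' => psiApp_compat U p G g y')

lemma toPF_Psi (V : C) (y : p.fiber.obj V) :
    p.toPresheafFiber V y (ezPre U G) ≫ Psi U p G = psiApp U p G V y :=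
  p.toPresheafFiber_presheafFiberDesc (fun V y => psiApp U p G V y)
    (fun _ _ g y' => psiApp_compat U p G g y') V y

/-- the map on sections over `W` at `y`, towards the stalk of the extension by zero. -/
noncomputable def phiApp (x : p.fiber.obj U) (W : Over U) (y : (p.over x).fiber.obj W) :
    G.obj (op W) ⟶ p.presheafFiber.obj (ezPre U G) :=
  (show G.obj (op W) ⟶ (ezPre U G).obj (op W.left) from ezι U G W.hom) ≫
    p.toPresheafFiber W.left y.1 (ezPre U G)

lemma phiApp_compat (x : p.fiber.obj U) {W W' : Over U} (a : W ⟶ W')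
    (y : (p.over x).fiber.obj W) :
    G.map a.op ≫ phiApp U p G x W y = phiApp U p G x W' ((p.over x).fiber.map a y) := by
  unfold phiApp
  have h1 : p.toPresheafFiber W'.left ((p.over x).fiber.map a y).1 (ezPre U G) =
      (ezPre U G).map a.left.op ≫ p.toPresheafFiber W.left y.1 (ezPre U G) :=
    (p.toPresheafFiber_w a.left y.1 (ezPre U G)).symm
  rw [h1, ← Category.assoc, ← Category.assoc]
  congr 1
  have h2 := ezι_map U G a.left W'.hom
  refine Eq.trans ?_ h2.symm
  exact ezι_congr U G (Over.w a).symm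
    (show Over.mk W.hom ⟶ W' from a)
    (Over.homMk a.left : Over.mk (a.left ≫ W'.hom) ⟶ Over.mk W'.hom) rfl

/-- the map from the stalk at the point over `p` given by `x`. -/
noncomputable def PhiX (x : p.fiber.obj U) : stk U p G x ⟶ p.presheafFiber.obj (ezPre U G) :=
  (p.over x).presheafFiberDesc (fun W y => phiApp U p G x W y)
    (fun _ _ a y => phiApp_compat U p G x a y)

lemma toPF_PhiX (x : p.fiber.obj U) (W : Over U) (y : (p.over x).fiber.obj W) :
    (p.over x).toPresheafFiber W y G ≫ PhiX U p G x = phiApp U p G x W y :=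
  (p.over x).toPresheafFiber_presheafFiberDesc (fun W y => phiApp U p G x W y)
    (fun _ _ a y => phiApp_compat U p G x a y) W y

/-- the map from the sum of the stalks to the stalk of the extension by zero. -/
noncomputable def Phi : stkSum U p G ⟶ p.presheafFiber.obj (ezPre U G) :=
  Sigma.desc (fun x => PhiX U p G x)

lemma Phi_Psi : Phi U p G ≫ Psi U p G = 𝟙 _ := by
  refine Sigma.hom_ext _ _ (fun x => ?_)
  rw [Phi, Sigma.ι_desc_assoc, Category.comp_id]
  refine (p.over x).presheafFiber_hom_ext (fun W y => ?_)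
  rw [← Category.assoc, toPF_PhiX]
  unfold phiApp
  rw [Category.assoc, toPF_Psi]
  obtain ⟨y0, hy⟩ := y
  have hy' : p.fiber.map W.hom y0 = x := hy
  have h3 := ezι_psiApp U p G W.left y0 W.hom
  refine Eq.trans h3 ?_
  rw [← cMap_congr U p G W.hom y0 x hy']
  rfl

lemma Psi_Phi : Psi U p G ≫ Phi U p G = 𝟙 _ := by
  refine p.presheafFiber_hom_ext (fun V y => ?_)
  rw [← Category.assoc, toPF_Psi, Category.comp_id]
  refine ezPre_hom_ext U G (fun f => ?_)
  rw [← Category.assoc, ezι_psiApp]
  unfold cMap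
  rw [Category.assoc, Phi, Sigma.ι_desc, toPF_PhiX]
  rfl

/-- **the stalk of an extension by zero** (abelian presheaves): it is the direct sum of the
stalks at the points lying over the given point. -/
noncomputable def stalkEZIso : p.presheafFiber.obj (ezPre U G) ≅ stkSum U p G where
  hom := Psi U p G
  inv := Phi U p G
  hom_inv_id := Psi_Phi U p G
  inv_hom_id := Phi_Psi U p G

end Presheaf

section Sheaf

variable {C : Type u} [SmallCategory C] {J : GrothendieckTopology C}

/-- **S9113**: the stalk of `j_{U!} G` at a point `p` is the direct sum of the stalks of `G` at the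
points of `C/U` over `p`. -/
theorem stalk_extZero (O : Sheaf J CommRingCat.{u}) (U : C) (G : ModSite.Mod (O.over U))
    (p : GrothendieckTopology.Point.{u} J) :
    Nonempty (ModSite.stalkAb p ((ModSite.extZero O U).obj G) ≅
      ∐ fun x : p.fiber.obj U => ModSite.stalkAb (p.over x) G) := by
  have e1 : (ModSite.extZero O U).obj G ≅ (jS O U).obj G :=
    ((ModSite.extZeroAdj O U).leftAdjointUniq (jrAdj O U)).app G
  have e2 : ModSite.stalkAb p ((ModSite.extZero O U).obj G) ≅
      ModSite.stalkAb p ((jS O U).obj G) :=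
    (SheafOfModules.toSheaf _ ⋙ p.sheafFiber (A := AddCommGrpCat.{u})).mapIso e1
  have e3 : ModSite.stalkAb p ((jS O U).obj G) ≅
      p.presheafFiber.obj (ezPre U G.val.presheaf) :=
    (p.presheafToSheafCompSheafFiberIso AddCommGrpCat.{u}).app (ezPre U G.val.presheaf)
  exact ⟨e2 ≪≫ e3 ≪≫ stalkEZIso U p G.val.presheaf⟩

end Sheaf

end Groth.Agent.LD.EZ
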