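import Groth.Agent.Lib.Lead.EZ.StalkBridge
import Groth.Agent.Lib.Lead.EZ.ExtTransport

/-!
# The stalks of the local Ext sheaves on a locally Noetherian scheme, in `ModSite` form

`𝓔xt^i(F, G)_x ≃ Ext^i_{O_x}(F_x, G_x)` for `F` coherent and `G` arbitrary on a locally
Noetherian scheme, with the stalks taken at the point of the site of opens (`ModSite.stalkMod`).
-/

set_option autoImplicit false
set_option linter.style.haveILetI false
noncomputable section
universe u
open CategoryTheory Limits AlgebraicGeometry TopologicalSpace Opposite Abelian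

attribute [-instance] Groth.Agent.LD.QC.stalkModule
attribute [local instance] Groth.Agent.LD.MS.hasSheafHom

namespace Groth.Agent.LD.StalkExtGen

open Twist Groth.Agent.LD.QC Groth.Agent.LD Groth.Agent.LD.PN Groth.Agent.LD.TW
  Groth.Agent.LD.PD.HA Groth.Agent.LD.XS Groth.Agent.H1.CohLen Groth.Agent.H1.StalkGen
  Groth.Agent.LD.RRS Groth.Agent.LD.StalkBridge Groth.Agent.LD.ExtTransport

variable {X : Scheme.{u}}

/-- the ring isomorphism from the local ring of an open subscheme at `y` to the fibre of the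
structure sheaf of the ambient scheme at the image point. -/
def ringEquivW (W : X.Opens) (y : W.toScheme) :
    W.toScheme.presheaf.stalk y ≃+*
      ModSite.stalkRing (Opens.pointGrothendieckTopology (W.ι y)) X.sheaf :=
  (Groth.Agent.H4.FAmp3.stalkRingEquiv W.ι y).trans (fiberRingEquiv X.sheaf (W.ι y))

/-- the corresponding identification of stalks of modules. -/
def addEquivW (W : X.Opens) (y : W.toScheme) (M : X.Modules) :
    (M.restrict W.ι).presheaf.stalk y ≃+
      ModSite.stalkAb (Opens.pointGrothendieckTopology (W.ι y)) (O := X.sheaf) M :=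
  (Groth.Agent.H4.FAmp3.stalkRestrictAddEquiv W.ι M y).trans (fiberAddEquiv M (W.ι y))

lemma addEquivW_smul (W : X.Opens) (y : W.toScheme) (M : X.Modules)
    (a : W.toScheme.presheaf.stalk y) (m : (M.restrict W.ι).presheaf.stalk y) :
    addEquivW W y M (a • m) = ringEquivW W y a • addEquivW W y M m := by
  refine (congrArg (fiberAddEquiv M (W.ι y))
    (Groth.Agent.H4.FAmp3.stalkRestrictAddEquiv_smul W.ι M y a m)).trans ?_
  exact fiberAddEquiv_smul M (W.ι y) _ _

/-- **the stalks of the local Ext sheaves** (locally Noetherian scheme, `ModSite` stalks). -/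
theorem nonempty_stalkMod_extSh_equiv [IsLocallyNoetherian X]
    [HasInjectiveResolutions (ModSite.Mod X.sheaf)]
    (F G : X.Modules) (hF : Coh.IsCoh F) (x : X) (i : ℕ) :
    Nonempty (ModSite.stalkMod (Opens.pointGrothendieckTopology x)
        ((ModSite.extSh (O := X.sheaf) F i).obj G)
      ≃ₗ[ModSite.stalkRing (Opens.pointGrothendieckTopology x) X.sheaf]
      Ext (ModSite.stalkMod (O := X.sheaf) (Opens.pointGrothendieckTopology x) F)
        (ModSite.stalkMod (O := X.sheaf) (Opens.pointGrothendieckTopology x) G) i) := by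
  obtain ⟨W, hW, hxW, -⟩ := exists_isAffineOpen_mem_and_subset (x := x) (U := ⊤) trivial
  haveI : IsAffine W.toScheme := hW
  haveI : IsLocallyNoetherian W.toScheme := isLocallyNoetherian_of_isOpenImmersion W.ι
  haveI : HasInjectiveResolutions (ModSite.Mod W.toScheme.sheaf) :=
    Groth.Agent.LD.QCQS.hasInjRes W.toScheme
  obtain ⟨y, rfl⟩ : ∃ y : W.toScheme, W.ι y = x := ⟨⟨x, hxW⟩, rfl⟩
  haveI := hF.1
  have hFW : Coh.IsCoh (F.restrict W.ι) :=
    ⟨qc_restrict W.ι F, isFiniteType_restrict W.ι F hF.2⟩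
  obtain ⟨Θ⟩ := StalkExt.nonempty_stalk_extSh_equiv
    (Groth.Agent.LD.XS.hasRes_of_isAffine W.toScheme) y i _ hFW (G.restrict W.ι)
  let e1 : (Scheme.Modules.restrictFunctor W.ι).obj ((ModSite.extSh (O := X.sheaf) F i).obj G) ≅
      (ModSite.extSh (O := W.toScheme.sheaf) (F.restrict W.ι) i).obj (G.restrict W.ι) :=
    Groth.Agent.LD.XS.extShRestrObjIso W.ι F i G
  obtain ⟨φ, hφ⟩ := exists_ext_semilinearEquiv (ringEquivW W y)
    (addEquivW W y F) (addEquivW_smul W y F) (addEquivW W y G) (addEquivW_smul W y G) i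
  exact ⟨assemble (ringEquivW W y)
    (addEquivW W y ((ModSite.extSh (O := X.sheaf) F i).obj G))
    (addEquivW_smul W y _) ((StalkExt.stalkEquivOfIso e1 y) ≪≫ₗ Θ) φ hφ⟩

end Groth.Agent.LD.StalkExtGen
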